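import Mathlib
import Groth.Agent.Lib.Helper24.EtaleNormal

set_option autoImplicit false
universe u
open TensorProduct

namespace T0288

/-- kernel of a map from an étale algebra over a normal domain `A` onto (into) a domain containing `A`
is generated by an idempotent -/
theorem ker_eq_span (A C D : Type u) [CommRing A] [IsDomain A] [IsIntegrallyClosed A]
    [CommRing C] [Algebra A C] [Algebra.Etale A C] [CommRing D] [IsDomain D] [Algebra A D]
    (hinj : Function.Injective (algebraMap A D)) (φ : C →ₐ[A] D) :
    ∃ r : C, IsIdempotentElem r ∧ RingHom.ker φ.toRingHom = Ideal.span {1 - r} := by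
  classical
  let _ : Algebra (FractionRing A) (C ⊗[A] FractionRing A) := Algebra.TensorProduct.rightAlgebra
  have hcl : IsIntegrallyClosedIn C (C ⊗[A] FractionRing A) :=
    Groth.Agent.Lib.Helper24.ENorm.isIntegrallyClosedIn_tensor_fractionRing A C
  have hinjT : Function.Injective (algebraMap C (C ⊗[A] FractionRing A)) :=
    Algebra.TensorProduct.includeLeft_injective (S := C) (IsFractionRing.injective A (FractionRing A))
  let e : FractionRing A ⊗[A] C ≃ₐ[FractionRing A] C ⊗[A] FractionRing A :=
    { Algebra.TensorProduct.comm A (FractionRing A) C with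
      commutes' := fun k => by
        show (Algebra.TensorProduct.comm A (FractionRing A) C) (k ⊗ₜ[A] (1 : C)) = (1 : C) ⊗ₜ[A] k
        rw [Algebra.TensorProduct.comm_tmul] }
  have hEt : Algebra.Etale (FractionRing A) (C ⊗[A] FractionRing A) := Algebra.Etale.of_equiv e
  have hfin : Module.Finite (FractionRing A) (C ⊗[A] FractionRing A) :=
    Algebra.FormallyUnramified.finite_of_free (FractionRing A) _
  have hArt : IsArtinianRing (C ⊗[A] FractionRing A) := IsArtinianRing.of_finite (FractionRing A) _
  have hRed : IsReduced (C ⊗[A] FractionRing A) :=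
    Algebra.FormallyUnramified.isReduced_of_field (FractionRing A) _
  -- the map to the fraction field of `D`
  have hinjFD : Function.Injective (Algebra.ofId A (FractionRing D)) := by
    have : ⇑(Algebra.ofId A (FractionRing D)) = (algebraMap D (FractionRing D)) ∘ (algebraMap A D) := by
      funext a
      exact IsScalarTower.algebraMap_apply A D (FractionRing D) a
    rw [this]
    exact (IsFractionRing.injective D (FractionRing D)).comp hinj
  let ι : FractionRing A →ₐ[A] FractionRing D := IsFractionRing.liftAlgHom hinjFD
  let φ' : C →ₐ[A] FractionRing D := (IsScalarTower.toAlgHom A D (FractionRing D)).comp φ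
  let ψ : C ⊗[A] FractionRing A →ₐ[A] FractionRing D :=
    Algebra.TensorProduct.lift φ' ι (fun _ _ => Commute.all _ _)
  have hψ : ∀ x : C, ψ (algebraMap C (C ⊗[A] FractionRing A) x) =
      algebraMap D (FractionRing D) (φ x) := by
    intro x
    change ψ (x ⊗ₜ[A] (1 : FractionRing A)) = _
    simp [ψ, φ']
  have hker : ∀ x : C, algebraMap C (C ⊗[A] FractionRing A) x ∈ RingHom.ker ψ.toRingHom ↔
      x ∈ RingHom.ker φ.toRingHom := by
    intro x
    rw [RingHom.mem_ker, RingHom.mem_ker]
    change ψ _ = 0 ↔ φ x = 0
    rw [hψ]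
    constructor
    · intro h
      exact (IsFractionRing.injective D (FractionRing D)) (by rw [h, map_zero])
    · intro h
      rw [h, map_zero]
  haveI hprime : (RingHom.ker ψ.toRingHom).IsPrime := RingHom.ker_isPrime _
  obtain ⟨r, hr, hri, hrq⟩ := IsArtinianRing.exists_not_mem_forall_mem_of_ne (RingHom.ker ψ.toRingHom)
  -- `1 - r` lies in the kernel
  have h1r : 1 - r ∈ RingHom.ker ψ.toRingHom := by
    have h0 : r * (1 - r) ∈ RingHom.ker ψ.toRingHom := by
      have : r * (1 - r) = 0 := by
        rw [mul_sub, mul_one, hri.eq, sub_self]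
      rw [this]
      exact Ideal.zero_mem _
    exact (hprime.mem_or_mem h0).resolve_left hr
  -- elements of the kernel are killed by `r`
  have hkill : ∀ x ∈ RingHom.ker ψ.toRingHom, x * r = 0 := by
    intro x hx
    have hnil : x * r ∈ nilradical (C ⊗[A] FractionRing A) := by
      rw [nilradical_eq_sInf, Ideal.mem_sInf]
      intro q hq
      have hq' : q.IsPrime := hq
      by_cases hqp : q = RingHom.ker ψ.toRingHom
      · rw [hqp]
        exact Ideal.mul_mem_right _ _ hx
      · exact Ideal.mul_mem_left _ _ (hrq q hq' hqp)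
    exact (nilradical_eq_zero (C ⊗[A] FractionRing A)) ▸ hnil |> fun h => by
      simpa using h
  -- descend `r`
  haveI : Nontrivial C := by
    by_contra h
    rw [not_nontrivial_iff_subsingleton] at h
    have h10 : (1 : C ⊗[A] FractionRing A) = 0 := by
      rw [← map_one (algebraMap C (C ⊗[A] FractionRing A)), Subsingleton.elim (1 : C) 0, map_zero]
    exact hprime.ne_top ((Ideal.eq_top_iff_one _).mpr (h10 ▸ Ideal.zero_mem _))
  have hrint : IsIntegral C r := by
    refine ⟨Polynomial.X ^ 2 - Polynomial.X, ?_, ?_⟩
    · exact Polynomial.monic_X_pow_sub (by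
        rw [Polynomial.degree_X]
        exact_mod_cast (by norm_num : (1 : ℕ) < 2))
    · simp [pow_two, hri.eq]
  obtain ⟨r', hr'⟩ := (IsIntegrallyClosedIn.isIntegral_iff (R := C) (A := C ⊗[A] FractionRing A)).mp hrint
  have hr'i : IsIdempotentElem r' := by
    apply hinjT
    rw [map_mul, hr', hri.eq]
  refine ⟨r', hr'i, ?_⟩
  apply le_antisymm
  · intro x hx
    have hx' := (hker x).mpr hx
    have h0 := hkill _ hx'
    rw [← hr', ← map_mul] at h0
    have h0' : x * r' = 0 := hinjT (by rw [h0, map_zero])
    rw [Ideal.mem_span_singleton]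
    refine ⟨x, ?_⟩
    rw [mul_comm, mul_sub, mul_one, h0', sub_zero]
  · rw [Ideal.span_singleton_le_iff_mem]
    apply (hker _).mp
    rw [map_sub, map_one, hr']
    exact h1r

end T0288
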