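import Mathlib
import Groth.Agent.scratch.T0288a

set_option autoImplicit false
universe u
open TensorProduct

namespace T0288

/-- a domain `D` containing the normal domain `A` which is a quotient of an étale `A`-algebra is étale -/
theorem etale_of_surj (A C D : Type u) [CommRing A] [IsDomain A] [IsIntegrallyClosed A]
    [CommRing C] [Algebra A C] [Algebra.Etale A C] [CommRing D] [IsDomain D] [Algebra A D]
    (hinj : Function.Injective (algebraMap A D)) (φ : C →ₐ[A] D) (hφ : Function.Surjective φ) :
    Algebra.Etale A D := by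
  obtain ⟨r, hri, hker⟩ := ker_eq_span A C D hinj φ
  haveI : IsLocalization.Away r (C ⧸ Ideal.span {1 - r}) :=
    IsLocalization.Away.quotient_of_isIdempotentElem hri
  haveI : Algebra.Etale C (C ⧸ Ideal.span {1 - r}) := Algebra.Etale.of_isLocalizationAway r
  haveI : Algebra.Etale A (C ⧸ Ideal.span {1 - r}) := Algebra.Etale.comp A C _
  have hker' : RingHom.ker φ = Ideal.span {1 - r} := hker
  let e1 : (C ⧸ RingHom.ker φ) ≃ₐ[A] D := Ideal.quotientKerAlgEquivOfSurjective hφ
  let e2 : (C ⧸ Ideal.span {1 - r}) ≃ₐ[A] (C ⧸ RingHom.ker φ) :=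
    Ideal.quotientEquivAlgOfEq A hker'.symm
  exact Algebra.Etale.of_equiv (e2.trans e1)

end T0288
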