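import Mathlib
import Groth.Agent.scratch.T0288b

set_option autoImplicit false
universe u
open TensorProduct

namespace T0288

/-- a domain `B` containing the normal domain `A` which is unramified over `A` is étale over `A` -/
theorem etale_of_unramified (A B : Type u) [CommRing A] [IsDomain A] [IsIntegrallyClosed A]
    [CommRing B] [IsDomain B] [Algebra A B] (hinj : Function.Injective (algebraMap A B))
    [Algebra.FiniteType A B] [Algebra.FormallyUnramified A B] : Algebra.Etale A B := by
  rw [← RingHom.etale_algebraMap]
  apply RingHom.Etale.ofLocalizationSpanTarget (algebraMap A B)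
    {f : B | Algebra.Etale A (Localization.Away f)}
  · by_contra hne
    obtain ⟨Q, hQ, hle⟩ := Ideal.exists_le_maximal _ hne
    haveI : Q.IsPrime := hQ.isPrime
    haveI : Algebra.IsUnramifiedAt A Q := inferInstance
    obtain ⟨f, hfQ, P, φ, hφ⟩ := Algebra.IsUnramifiedAt.exists_hasStandardEtaleSurjectionOn (R := A) Q
    have hf0 : f ≠ 0 := fun h => hfQ (h ▸ Q.zero_mem)
    have hle0 : Submonoid.powers f ≤ nonZeroDivisors B :=
      powers_le_nonZeroDivisors_of_noZeroDivisors hf0
    haveI : IsDomain (Localization.Away f) :=
      IsLocalization.isDomain_of_le_nonZeroDivisors (Localization.Away f) hle0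
    have hinj' : Function.Injective (algebraMap A (Localization.Away f)) := by
      rw [IsScalarTower.algebraMap_eq A B (Localization.Away f)]
      exact (IsLocalization.injective (Localization.Away f) hle0).comp hinj
    have hEt : Algebra.Etale A (Localization.Away f) :=
      etale_of_surj A P.Ring (Localization.Away f) hinj' φ hφ
    exact hfQ (hle (Ideal.subset_span hEt))
  · rintro ⟨r, hr⟩
    have hr' : Algebra.Etale A (Localization.Away r) := hr
    rw [← IsScalarTower.algebraMap_eq A B (Localization.Away r), RingHom.etale_algebraMap]
    exact hr'

end T0288
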