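import Mathlib
import Groth.Prelude.Def_Pi1
import Groth.Agent.scratch.T0288c
import Groth.Agent.Lib.Helper9.PurFF

set_option autoImplicit false
universe u
open AlgebraicGeometry CategoryTheory CategoryTheory.Limits

namespace T0288

theorem app_injective {X Z : Scheme.{u}} [IsIntegral X] (g : Z ⟶ X)
    (hη : genericPoint X ∈ Set.range g.base) (U : X.Opens) :
    Function.Injective (g.app U).hom := by
  rw [injective_iff_map_eq_zero]
  intro a ha
  by_contra hne
  have hb : X.basicOpen a ≠ ⊥ := by rwa [Ne, AlgebraicGeometry.basicOpen_eq_bot_iff]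
  have hmem : genericPoint X ∈ X.basicOpen a := by
    refine ((genericPoint_spec X).mem_open_set_iff (X.basicOpen a).2).mpr ?_
    rw [Set.univ_inter]
    exact (TopologicalSpace.Opens.ne_bot_iff_nonempty _).mp hb
  obtain ⟨z, hz⟩ := hη
  have hz' : z ∈ g ⁻¹ᵁ (X.basicOpen a) := by
    show g.base z ∈ X.basicOpen a
    rw [hz]
    exact hmem
  rw [Scheme.preimage_basicOpen] at hz'
  have ha' : (g.app U) a = 0 := ha
  rw [ha', Scheme.basicOpen_zero] at hz'
  exact hz'.elim

theorem preimage_nonempty {X Z : Scheme.{u}} [IsIntegral X] (g : Z ⟶ X)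
    (hη : genericPoint X ∈ Set.range g.base) (U : X.Opens) [hU : Nonempty U] :
    Nonempty (g ⁻¹ᵁ U : Z.Opens) := by
  obtain ⟨z, hz⟩ := hη
  refine ⟨⟨z, ?_⟩⟩
  show g.base z ∈ U
  rw [hz]
  refine ((genericPoint_spec X).mem_open_set_iff U.2).mpr ?_
  rw [Set.univ_inter]
  obtain ⟨⟨x, hx⟩⟩ := hU
  exact ⟨x, hx⟩

end T0288
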