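import Mathlib
import Groth.Prelude.Def_Pi1
import Groth.Agent.scratch.T0288d
import Groth.Agent.Lib.Helper9.PurFF
import Groth.Agent.Lib.Helper24.EtaleNormal

set_option autoImplicit false
universe u
open AlgebraicGeometry CategoryTheory CategoryTheory.Limits

namespace T0288

set_option backward.isDefEq.respectTransparency false in
theorem etale_fromNormalization {X Z : Scheme.{u}} [IsIntegral X] (hX : Pi1.IsNormalScheme X)
    [IsIntegral Z] (g : Z ⟶ X) [QuasiCompact g] [QuasiSeparated g]
    (hη : genericPoint X ∈ Set.range g.base)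
    [FormallyUnramified g.fromNormalization] [LocallyOfFiniteType g.fromNormalization] :
    Etale g.fromNormalization := by
  apply IsZariskiLocalAtTarget.of_forall_exists_morphismRestrict (P := @Etale)
  intro x
  obtain ⟨_, ⟨U, hU : IsAffineOpen U, rfl⟩, hxU, -⟩ :=
    X.isBasis_affineOpens.exists_subset_of_mem_open (Set.mem_univ x) isOpen_univ
  refine ⟨U, hxU, ?_⟩
  haveI : Nonempty U := ⟨⟨x, hxU⟩⟩
  haveI := preimage_nonempty g hη U
  rw [Groth.Agent.Lib.Helper9.PurFF.etale_morphismRestrict_iff _ hU]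
  have hft : RingHom.FiniteType (g.fromNormalization.app U).hom := by
    rw [Scheme.Hom.app_eq_appLE]
    exact HasRingHomProperty.appLE (P := @LocallyOfFiniteType) _ inferInstance ⟨U, hU⟩
      ⟨_, hU.preimage g.fromNormalization⟩ le_rfl
  have hfu : RingHom.FormallyUnramified (g.fromNormalization.app U).hom := by
    rw [Scheme.Hom.app_eq_appLE]
    exact HasRingHomProperty.appLE (P := @FormallyUnramified) _ inferInstance ⟨U, hU⟩
      ⟨_, hU.preimage g.fromNormalization⟩ le_rfl
  letI := (g.app U).hom.toAlgebra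
  rw [g.fromNormalization_app hU, CommRingCat.hom_comp] at hft hfu ⊢
  rw [RingHom.finiteType_respectsIso.cancel_right_isIso] at hft
  rw [RingHom.FormallyUnramified.respectsIso.cancel_right_isIso] at hfu
  rw [RingHom.Etale.respectsIso.cancel_right_isIso]
  change (algebraMap Γ(X, U) (integralClosure Γ(X, U) Γ(Z, g ⁻¹ᵁ U))).FiniteType at hft
  change (algebraMap Γ(X, U) (integralClosure Γ(X, U) Γ(Z, g ⁻¹ᵁ U))).FormallyUnramified at hfu
  change (algebraMap Γ(X, U) (integralClosure Γ(X, U) Γ(Z, g ⁻¹ᵁ U))).Etale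
  rw [RingHom.finiteType_algebraMap] at hft
  rw [RingHom.formallyUnramified_algebraMap] at hfu
  rw [RingHom.etale_algebraMap]
  haveI : IsIntegrallyClosed Γ(X, U) :=
    Groth.Agent.Lib.Helper24.ENorm.isIntegrallyClosed_of_isAffineOpen (fun x => (hX x).2) hU
  have hinjE : Function.Injective (algebraMap Γ(X, U) Γ(Z, g ⁻¹ᵁ U)) := app_injective g hη U
  have hinj : Function.Injective
      (algebraMap Γ(X, U) (integralClosure Γ(X, U) Γ(Z, g ⁻¹ᵁ U))) := by
    intro a b hab
    apply hinjE
    have := congrArg (Subtype.val) hab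
    exact this
  exact etale_of_unramified Γ(X, U) (integralClosure Γ(X, U) Γ(Z, g ⁻¹ᵁ U)) hinj

end T0288
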