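import Groth.Statements.S0288
import Mathlib
import Groth.Agent.Lib.Helper23.NormEtale

set_option autoImplicit false
open Pi1

namespace T0288

open AlgebraicGeometry CategoryTheory CategoryTheory.Limits in
theorem t0288 {X : Scheme.{u}} [IsIntegral X] (hX : Pi1.IsNormalScheme X) (L : Type u) [Field L]
    [Algebra X.functionField L] [FiniteDimensional X.functionField L]
    [QuasiCompact (Spec.map (CommRingCat.ofHom (algebraMap X.functionField L)) ≫ X.fromSpecStalk (genericPoint X))]
    [QuasiSeparated (Spec.map (CommRingCat.ofHom (algebraMap X.functionField L)) ≫ X.fromSpecStalk (genericPoint X))]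
    [FormallyUnramified (Spec.map (CommRingCat.ofHom (algebraMap X.functionField L)) ≫ X.fromSpecStalk (genericPoint X)).fromNormalization]
    [LocallyOfFiniteType (Spec.map (CommRingCat.ofHom (algebraMap X.functionField L)) ≫ X.fromSpecStalk (genericPoint X)).fromNormalization] :
    Etale (Spec.map (CommRingCat.ofHom (algebraMap X.functionField L)) ≫ X.fromSpecStalk (genericPoint X)).fromNormalization ∧
    IsFinite (Spec.map (CommRingCat.ofHom (algebraMap X.functionField L)) ≫ X.fromSpecStalk (genericPoint X)).fromNormalization := by
  have hη : genericPoint X ∈ Set.range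
      (Spec.map (CommRingCat.ofHom (algebraMap X.functionField L)) ≫
        X.fromSpecStalk (genericPoint X)).base := by
    refine ⟨IsLocalRing.closedPoint L, ?_⟩
    rw [Scheme.Hom.comp_apply]
    have h1 : (Spec.map (CommRingCat.ofHom (algebraMap X.functionField L))).base
        (IsLocalRing.closedPoint L) = IsLocalRing.closedPoint (X.presheaf.stalk (genericPoint X)) :=
      Subsingleton.elim _ _
    rw [h1]
    exact Scheme.fromSpecStalk_closedPoint
  refine ⟨Groth.Agent.Lib.Helper23.NormEtale.etale_fromNormalization hX _ hη, ?_⟩
  rw [IsFinite.iff_isIntegralHom_and_locallyOfFiniteType]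
  exact ⟨inferInstance, inferInstance⟩

end T0288
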