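import Groth.Statements.S0293
import Mathlib
import Groth.Agent.Lib.Helper9.PurFF
import Groth.Agent.Lib.Helper18.PMor3

set_option autoImplicit false
universe u
open Pi1

namespace T0293

open AlgebraicGeometry CategoryTheory CategoryTheory.Limits in
theorem t0293 {X : Scheme.{u}} [IsLocallyNoetherian X] (U : X.Opens)
    (hU : ∀ x : X, x ∉ U → (2 : ℕ∞) ≤ LocCoh.depth (X.presheaf.stalk x) (X.presheaf.stalk x)) {Y : Scheme.{u}} (π : Y ⟶ X)
    [IsFinite π] [Etale (pullback.snd π U.ι)]
    (hY : ∀ y : Y, π.base y ∉ U → (2 : ℕ∞) ≤ LocCoh.depth (Y.presheaf.stalk y) (Y.presheaf.stalk y)) :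
    Etale π ↔ Flat π := by
  constructor
  · intro h
    infer_instance
  · intro hflat
    have hdim : ∀ x : X, x ∉ U → (2 : WithBot ℕ∞) ≤ ringKrullDim (X.presheaf.stalk x) := by
      intro x hx
      have h1 := hU x hx
      have h2 := Groth.Agent.Lib.Helper18.PMor.depth_le_ringKrullDim_self (X.presheaf.stalk x)
      refine le_trans ?_ h2
      have : (((2 : ℕ∞)) : WithBot ℕ∞) ≤
          ((LocCoh.depth (X.presheaf.stalk x) (X.presheaf.stalk x) : ℕ∞) : WithBot ℕ∞) :=
        WithBot.coe_le_coe.mpr h1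
      exact this
    haveI : Etale (π ∣_ U) := by
      have h : π ∣_ U = (pullbackRestrictIsoRestrict π U).inv ≫ pullback.snd π U.ι := rfl
      rw [h]
      infer_instance
    exact Groth.Agent.Lib.Helper9.PurFF.main π U hdim

end T0293
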