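import Mathlib
import Groth.Agent.Lib.Helper18.Miracle
import Groth.Agent.Lib.Helper10.RegularNormal
import Groth.Agent.Lib.Helper21.RegularLocal
import Groth.Agent.Lib.Helper23.SyntF1
import Groth.Agent.Lib.Helper11.WatFin

namespace T10881
universe u
open IsLocalRing

section alg
variable (R S : Type u) [CommRing R] [CommRing S] [IsLocalRing R] [IsLocalRing S]
  [Algebra R S] [IsLocalHom (algebraMap R S)]
  (D : Subalgebra R S)

/-- `S` is the localization of the subalgebra `D` at the contraction of its maximal ideal, as soon
as every element of `S` is a fraction of elements of `D` with invertible denominator. -/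
theorem isLocalization_subalgebra
    (hsurj : ∀ z : S, ∃ b s : D, IsUnit (s : S) ∧ z * (s : S) = (b : S)) :
    IsLocalization.AtPrime S ((maximalIdeal S).comap (algebraMap D S)) := by
  rw [IsLocalization.AtPrime, isLocalization_iff]
  refine ⟨?_, ?_, ?_⟩
  · rintro ⟨y, hy⟩
    have : algebraMap D S y ∉ maximalIdeal S := fun h => hy h
    rw [IsLocalRing.mem_maximalIdeal, mem_nonunits_iff, not_not] at this
    exact this
  · intro z
    obtain ⟨b, s, hs, hz⟩ := hsurj z
    refine ⟨⟨b, ⟨s, ?_⟩⟩, hz⟩
    intro h
    have h1 : (s : S) ∈ maximalIdeal S := h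
    rw [IsLocalRing.mem_maximalIdeal, mem_nonunits_iff] at h1
    exact h1 hs
  · intro x y hxy
    refine ⟨1, ?_⟩
    have : x = y := Subtype.ext hxy
    rw [this]

end alg
end T10881
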