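import Mathlib
import Groth.Agent.scratch.T10881a

namespace T10881
universe u
open IsLocalRing

section alg
variable (R S : Type u) [CommRing R] [CommRing S] [IsRegularLocalRing R] [IsRegularLocalRing S]
  [Algebra R S] [IsLocalHom (algebraMap R S)]
  (D : Subalgebra R S)

/-- the core dimension computations -/
theorem dims_of_integral_subalgebra (hinj : Function.Injective (algebraMap R S))
    [Algebra.IsIntegral R D]
    (hsurj : ∀ z : S, ∃ b s : D, IsUnit (s : S) ∧ z * (s : S) = (b : S)) :
    ringKrullDim S = ringKrullDim R ∧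
      ringKrullDim (S ⧸ (maximalIdeal R).map (algebraMap R S)) = 0 := by
  haveI : IsDomain R := Groth.Agent.Lib.Helper21.isDomain_of_isRegularLocalRing R
  haveI : IsDomain S := Groth.Agent.Lib.Helper21.isDomain_of_isRegularLocalRing S
  haveI : IsIntegrallyClosed R :=
    Groth.Agent.Lib.Helper10.RegularNormal.isIntegrallyClosed_of_isRegularLocalRing R
  haveI hloc : IsLocalization.AtPrime S ((maximalIdeal S).comap (algebraMap D S)) :=
    isLocalization_subalgebra R S D hsurj
  haveI : FaithfulSMul R D := by
    rw [faithfulSMul_iff_algebraMap_injective]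
    intro a b hab
    apply hinj
    have := congrArg (algebraMap D S) hab
    rwa [← IsScalarTower.algebraMap_apply, ← IsScalarTower.algebraMap_apply] at this
  set n₀ : Ideal D := (maximalIdeal S).comap (algebraMap D S) with hn₀
  haveI : n₀.IsPrime := Ideal.comap_isPrime _ _
  have hcm : n₀.comap (algebraMap R D) = maximalIdeal R := by
    rw [hn₀, Ideal.comap_comap, ← IsScalarTower.algebraMap_eq]
    exact ((IsLocalRing.local_hom_TFAE (algebraMap R S)).out 0 4).1
      (by infer_instance : IsLocalHom (algebraMap R S))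
  refine ⟨?_, ?_⟩
  · rw [IsLocalization.AtPrime.ringKrullDim_eq_height n₀ S,
      ← IsLocalRing.maximalIdeal_height_eq_ringKrullDim (R := R), ← hcm,
      Groth.Agent.Lib.Helper11.Wat.height_comap_eq_of_goingDown (A := R) (R := D) n₀]
  · set I := (maximalIdeal R).map (algebraMap R S) with hI
    have hIle : I ≤ maximalIdeal S := IsLocalRing.map_maximalIdeal_le _
    have key : ∀ Q : Ideal S, Q.IsPrime → I ≤ Q → Q = maximalIdeal S := by
      intro Q hQ hIQ
      set Q₀ : Ideal D := Q.comap (algebraMap D S) with hQ₀
      haveI : Q₀.IsPrime := Ideal.comap_isPrime _ _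
      have h1 : Q₀.comap (algebraMap R D) = maximalIdeal R := by
        rw [hQ₀, Ideal.comap_comap, ← IsScalarTower.algebraMap_eq]
        refine ((IsLocalRing.maximalIdeal.isMaximal R).eq_of_le
          (Ideal.comap_ne_top _ hQ.ne_top) ?_).symm
        rw [← Ideal.map_le_iff_le_comap]
        exact hIQ
      have h2 : Q₀.IsMaximal :=
        Ideal.isMaximal_of_isIntegral_of_isMaximal_comap (R := R) Q₀
          (h1 ▸ IsLocalRing.maximalIdeal.isMaximal R)
      have h3 : Q₀ ≤ n₀ := Ideal.comap_mono (IsLocalRing.le_maximalIdeal hQ.ne_top)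
      have h4 : Q₀ = n₀ := h2.eq_of_le (Ideal.IsPrime.ne_top inferInstance) h3
      rw [← IsLocalization.map_comap n₀.primeCompl S Q,
        ← IsLocalization.map_comap n₀.primeCompl S (maximalIdeal S)]
      change Ideal.map _ Q₀ = Ideal.map _ n₀
      rw [h4]
    rw [ringKrullDim_quotient]
    have hne : Nonempty (PrimeSpectrum.zeroLocus (R := S) (I : Set S)) :=
      ⟨⟨IsLocalRing.closedPoint S, hIle⟩⟩
    have hsub : Subsingleton (PrimeSpectrum.zeroLocus (R := S) (I : Set S)) := by
      constructor
      rintro ⟨a, ha⟩ ⟨b, hb⟩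
      apply Subtype.ext
      apply PrimeSpectrum.ext
      rw [key a.asIdeal a.isPrime ha, key b.asIdeal b.isPrime hb]
    exact le_antisymm Order.krullDim_nonpos_of_subsingleton Order.krullDim_nonneg

end alg
end T10881
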