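import Mathlib
import Groth.Agent.scratch.T10881b
import Groth.Agent.Lib.Helper9.AssGen2
import Groth.Agent.Lib.Helper21.MinFin3

namespace T10881
universe u
open IsLocalRing AlgebraicGeometry CategoryTheory

/-- algebraic core: flatness of an injective, essentially integral local homomorphism of regular
local rings -/
theorem flat_of_ess_integral (R S : Type u) [CommRing R] [CommRing S] [IsRegularLocalRing R]
    [IsRegularLocalRing S] [Algebra R S] [IsLocalHom (algebraMap R S)]
    (hinj : Function.Injective (algebraMap R S))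
    (B : Type u) [CommRing B] (g : B →+* S) (hint : ∀ b, IsIntegral R (g b))
    (hsurj : ∀ z : S, ∃ b s : B, IsUnit (g s) ∧ z * g s = g b) : Module.Flat R S := by
  let D := Algebra.adjoin R (Set.range g)
  haveI : Algebra.IsIntegral R D :=
    Algebra.IsIntegral.adjoin (by rintro _ ⟨b, rfl⟩; exact hint b)
  have hs : ∀ z : S, ∃ b s : D, IsUnit (s : S) ∧ z * (s : S) = (b : S) := by
    intro z
    obtain ⟨b, s, hs, hz⟩ := hsurj z
    exact ⟨⟨g b, Algebra.subset_adjoin ⟨b, rfl⟩⟩, ⟨g s, Algebra.subset_adjoin ⟨s, rfl⟩⟩, hs, hz⟩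
  obtain ⟨h1, h2⟩ := dims_of_integral_subalgebra R S D hinj hs
  haveI := Groth.Agent.Lib.Helper23.SyntF.cmLocal_of_regular S
  exact Groth.Agent.Lib.Helper18.CM.miracle_flatness (by rw [h1, h2, add_zero])

variable {X Y : Scheme.{u}}

/-- the local ring at the generic point of an irreducible component, if a domain, is a field -/
theorem maximalIdeal_eq_bot_of_closure_mem_irreducibleComponents (ζ : Y)
    (hζ : closure {ζ} ∈ irreducibleComponents Y) [IsDomain (Y.presheaf.stalk ζ)] :
    maximalIdeal (Y.presheaf.stalk ζ) = ⊥ := by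
  set p : PrimeSpectrum (Y.presheaf.stalk ζ) := ⟨⊥, Ideal.isPrime_bot⟩ with hp
  have h1 : Y.fromSpecStalk ζ p ⤳ ζ := by
    have : Y.fromSpecStalk ζ p ∈ Set.range (Y.fromSpecStalk ζ) := ⟨p, rfl⟩
    rw [Scheme.range_fromSpecStalk] at this
    exact this
  have h2 : Y.fromSpecStalk ζ p = ζ :=
    Groth.Agent.Lib.Helper21.MinFin.eq_of_specializes_of_mem_irreducibleComponents hζ h1
  have h3 : p = closedPoint (Y.presheaf.stalk ζ) := by
    apply (Y.fromSpecStalk ζ).isEmbedding.injective
    rw [h2, Scheme.fromSpecStalk_closedPoint]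
  have := congrArg PrimeSpectrum.asIdeal h3
  exact this.symm

theorem stalkMap_injective (f : X ⟶ Y)
    (hYd : ∀ y : Y, IsDomain (Y.presheaf.stalk y))
    (hdom : ∀ Z ∈ irreducibleComponents (X : Type u),
      closure (f.base '' Z) ∈ irreducibleComponents (Y : Type u)) (x : X) :
    Function.Injective (f.stalkMap x).hom := by
  obtain ⟨η, hη⟩ := QuasiSober.sober (isIrreducible_irreducibleComponent (x := x))
    isClosed_irreducibleComponent
  have hηx : η ⤳ x := by
    rw [specializes_iff_mem_closure, hη.def]
    exact mem_irreducibleComponent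
  have hζ : closure {f.base η} ∈ irreducibleComponents (Y : Type u) := by
    have h1 := hη.image f.base.hom.continuous
    rw [h1.def]
    exact hdom _ (irreducibleComponent_mem_irreducibleComponents x)
  haveI := hYd (f.base η)
  haveI := hYd (f.base x)
  have hK := maximalIdeal_eq_bot_of_closure_mem_irreducibleComponents (f.base η) hζ
  have hinjη : Function.Injective (f.stalkMap η).hom := by
    rw [RingHom.injective_iff_ker_eq_bot, ← le_bot_iff, ← hK]
    apply IsLocalRing.le_maximalIdeal
    exact RingHom.ker_ne_top _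
  rw [injective_iff_map_eq_zero]
  intro r hr
  have h2 := Scheme.Hom.stalkSpecializes_stalkMap_apply f η x hηx r
  rw [hr, map_zero] at h2
  have h3 := (injective_iff_map_eq_zero _).1 hinjη _ h2
  exact (injective_iff_map_eq_zero _).1
    (Groth.Agent.Lib.Helper9.AssGen.stalkSpecializes_injective_of_isDomain
      (f.base.hom.map_specializes hηx)) _ h3

end T10881
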