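import Mathlib
import Groth.Agent.scratch.T10881c

namespace T10881
universe u
open IsLocalRing AlgebraicGeometry CategoryTheory

theorem t10881 {X Y : Scheme.{u}} (f : X ⟶ Y) [IsFinite f]
    [IsLocallyNoetherian X] [IsLocallyNoetherian Y]
    (hX : ∀ x : X, IsRegularLocalRing (X.presheaf.stalk x))
    (hY : ∀ y : Y, IsRegularLocalRing (Y.presheaf.stalk y))
    (hdom : ∀ Z ∈ irreducibleComponents (X : Type u), closure (f.base '' Z) ∈ irreducibleComponents (Y : Type u)) :
    Flat f := by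
  apply Flat.of_stalkMap
  intro x
  obtain ⟨_, ⟨V, hV : IsAffineOpen V, rfl⟩, hyV, -⟩ :=
    Y.isBasis_affineOpens.exists_subset_of_mem_open (Set.mem_univ (f.base x)) isOpen_univ
  have hU : IsAffineOpen (f ⁻¹ᵁ V) := hV.preimage f
  have hxU : x ∈ f ⁻¹ᵁ V := hyV
  haveI := hX x
  haveI := hY (f.base x)
  letI : Algebra (Y.presheaf.stalk (f.base x)) (X.presheaf.stalk x) :=
    (f.stalkMap x).hom.toAlgebra
  haveI : IsLocalHom (algebraMap (Y.presheaf.stalk (f.base x)) (X.presheaf.stalk x)) :=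
    inferInstanceAs (IsLocalHom (f.stalkMap x).hom)
  change Module.Flat (Y.presheaf.stalk (f.base x)) (X.presheaf.stalk x)
  refine flat_of_ess_integral _ _
    (stalkMap_injective f (fun y => Groth.Agent.Lib.Helper21.isDomain_of_isRegularLocalRing _) hdom x)
    Γ(X, f ⁻¹ᵁ V) (X.presheaf.germ (f ⁻¹ᵁ V) x hxU).hom ?_ ?_
  · intro b
    obtain ⟨p, hpm, hp⟩ := (IsIntegralHom.isIntegral_app f V hV) b
    refine ⟨p.map (Y.presheaf.germ V (f.base x) hyV).hom, hpm.map _, ?_⟩
    rw [Polynomial.eval₂_map]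
    have hcomp : (algebraMap (Y.presheaf.stalk (f.base x)) (X.presheaf.stalk x)).comp
        (Y.presheaf.germ V (f.base x) hyV).hom =
        (X.presheaf.germ (f ⁻¹ᵁ V) x hxU).hom.comp (f.app V).hom := by
      ext a
      exact Scheme.Hom.germ_stalkMap_apply f V x hyV a
    rw [hcomp, ← Polynomial.hom_eval₂, hp, map_zero]
  · intro z
    letI : Algebra Γ(X, f ⁻¹ᵁ V) (X.presheaf.stalk x) :=
      TopCat.Presheaf.algebra_section_stalk X.presheaf ⟨x, hxU⟩
    haveI hloc := hU.isLocalization_stalk ⟨x, hxU⟩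
    obtain ⟨⟨b, s⟩, hbs⟩ := IsLocalization.surj (hU.primeIdealOf ⟨x, hxU⟩).asIdeal.primeCompl z
    exact ⟨b, s.1, IsLocalization.map_units (X.presheaf.stalk x) s, hbs⟩

end T10881
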