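import Groth.Statements.S10881
import Mathlib
import Groth.Agent.Lib.Helper23.MiracleFinReg

namespace T10881
open AlgebraicGeometry CategoryTheory

theorem t10881 {X Y : Scheme.{u}} (f : X ⟶ Y) [IsFinite f]
    [IsLocallyNoetherian X] [IsLocallyNoetherian Y]
    (hX : ∀ x : X, IsRegularLocalRing (X.presheaf.stalk x))
    (hY : ∀ y : Y, IsRegularLocalRing (Y.presheaf.stalk y))
    (hdom : ∀ Z ∈ irreducibleComponents (X : Type u), closure (f.base '' Z) ∈ irreducibleComponents (Y : Type u)) :
    Flat f := by
  exact Groth.Agent.Lib.Helper23.MiracleFinReg.t10881 f hX hY hdom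

end T10881
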