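import Mathlib
import Groth.Agent.Lib.Helper23.CohenFact
import Groth.Agent.Lib.Helper23.CMFibres
import Groth.Agent.Lib.Helper1.PSLift
import Groth.Agent.Lib.Helper16.LiftA
import Groth.Agent.Lib.Helper21.BaseChg5

set_option autoImplicit false
set_option linter.unusedSectionVars false
set_option linter.style.haveILetI false
universe u

namespace T11979
open MvPowerSeries IsLocalRing

/-- `Λ[[X]]` is complete for the ideal of the variables. -/
theorem isAdicComplete_X {σ : Type*} [Finite σ] {Λ : Type*} [CommRing Λ] :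
    IsAdicComplete (Ideal.span (Set.range (X : σ → MvPowerSeries σ Λ))) (MvPowerSeries σ Λ) := by
  rw [← IsAdicComplete.congr_ringEquiv (e := (toAdicCompletionAlgEquiv σ Λ).toRingEquiv)]
  have h := AdicCompletion.isAdicComplete_self (MvPolynomial.idealOfVars σ Λ)
    (MvPolynomial.idealOfVars_fg σ Λ)
  rw [← Groth.Agent.Lib.Helper1.PSLift.map_span_range_X] at h
  exact h

/-- a surjection from a finite dimensional domain onto a ring of at least the same dimension is
injective. -/
theorem injective_of_dim {R S : Type*} [CommRing R] [IsDomain R] [CommRing S] (n : ℕ)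
    (hR : ringKrullDim R = n) (ρ : R →+* S) (hρ : Function.Surjective ρ)
    (hS : (n : WithBot ℕ∞) ≤ ringKrullDim S) : Function.Injective ρ := by
  rw [injective_iff_map_eq_zero]
  intro x hx
  by_contra hne
  have h1 := ringKrullDim_succ_le_of_surjective ρ hρ (mem_nonZeroDivisors_of_ne_zero hne) hx
  rw [hR] at h1
  have h2 : ((n : WithBot ℕ∞) + 1) ≤ n := le_trans (by gcongr) h1
  have h3 : ((n + 1 : ℕ) : WithBot ℕ∞) ≤ (n : ℕ) := by exact_mod_cast h2
  have h4 : n + 1 ≤ n := by exact_mod_cast h3
  omega

theorem coeff_mem_of_mem_smul {σ : Type*} {A : Type*} [CommRing A] (I : Ideal A)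
    (x : MvPowerSeries σ A) (hx : x ∈ I • (⊤ : Submodule A (MvPowerSeries σ A))) (ν : σ →₀ ℕ) :
    coeff ν x ∈ I := by
  have h1 : (MvPowerSeries.coeff (R := A) ν) x ∈
      Submodule.map (MvPowerSeries.coeff (R := A) ν) (I • (⊤ : Submodule A (MvPowerSeries σ A))) :=
    Submodule.mem_map_of_mem hx
  rw [Submodule.map_smul''] at h1
  have h2 : I • Submodule.map (MvPowerSeries.coeff (R := A) ν) (⊤ : Submodule A (MvPowerSeries σ A))
      ≤ I • (⊤ : Submodule A A) := smul_mono_right _ le_top
  have h3 := h2 h1
  rwa [smul_eq_mul, Ideal.mul_top] at h3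

end T11979
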