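import Groth.Agent.scratch.T11979a

set_option autoImplicit false
set_option linter.unusedSectionVars false
set_option linter.style.haveILetI false
universe u

namespace T11979
open MvPowerSeries IsLocalRing Groth.Agent.Lib.Helper23

theorem main_abstract (A : Type u) [CommRing A] [IsNoetherianRing A] [IsLocalRing A]
    (B : Type u) [CommRing B] [Algebra A B] [Module.Flat A B] (J : Ideal B) [IsAdicComplete J B]
    (qB : B →+* A) (hq : ∀ a, qB (algebraMap A B a) = a) (hker : RingHom.ker qB = J)
    (r : ℕ) (t : Fin r → B) (ht : Ideal.span (Set.range t) = J)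
    (hdim : (r : WithBot ℕ∞) ≤ ringKrullDim (B ⧸ (maximalIdeal A).map (algebraMap A B))) :
    ∃ e : B ≃+* MvPowerSeries (Fin r) A, (∀ a, e (algebraMap A B a) = C a) ∧
      J.map e.toRingHom = Ideal.span (Set.range (X : Fin r → MvPowerSeries (Fin r) A)) := by
  have htJ : ∀ i, t i ∈ J := fun i => ht ▸ Ideal.subset_span ⟨i, rfl⟩
  let φ : MvPowerSeries (Fin r) A →+* B := CohenFact.evalC J (algebraMap A B) t htJ
  have hφC : ∀ a, φ (C a) = algebraMap A B a := fun a => CohenFact.evalC_C J (algebraMap A B) t htJ a
  have hφX : ∀ i, φ (X i) = t i := fun i => CohenFact.evalC_X J (algebraMap A B) t htJ i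
  have hmapX : (Ideal.span (Set.range (X : Fin r → MvPowerSeries (Fin r) A))).map φ = J := by
    rw [Ideal.map_span, ← Set.range_comp]
    have : (φ ∘ (X : Fin r → MvPowerSeries (Fin r) A)) = t := funext hφX
    rw [this, ht]
  have hsurj : Function.Surjective φ := by
    haveI := isAdicComplete_X (σ := Fin r) (Λ := A)
    haveI : IsHausdorff ((Ideal.span (Set.range (X : Fin r → MvPowerSeries (Fin r) A))).map φ) B := by
      rw [hmapX]; infer_instance
    apply surjective_of_mk_map_comp_surjective
      (I := Ideal.span (Set.range (X : Fin r → MvPowerSeries (Fin r) A))) φ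
    intro y
    obtain ⟨b, rfl⟩ := Ideal.Quotient.mk_surjective y
    refine ⟨C (qB b), ?_⟩
    rw [RingHom.comp_apply, hφC, Ideal.Quotient.eq, hmapX, ← hker, RingHom.mem_ker, map_sub, hq,
      sub_self]
  have halg : ∀ a, algebraMap A (MvPowerSeries (Fin r) A) a = C a := fun a => rfl
  have hinj : Function.Injective φ := by
    have hle : (maximalIdeal A).map (algebraMap A (MvPowerSeries (Fin r) A)) ≤
        ((maximalIdeal A).map (algebraMap A B)).comap φ := by
      rw [Ideal.map_le_iff_le_comap]
      intro a ha
      rw [Ideal.mem_comap, Ideal.mem_comap, halg, hφC]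
      exact Ideal.mem_map_of_mem _ ha
    let ρ := Ideal.quotientMap ((maximalIdeal A).map (algebraMap A B)) φ hle
    have hρs : Function.Surjective ρ := Ideal.quotientMap_surjective hsurj
    haveI : IsDomain (MvPowerSeries (Fin r) (ResidueField A)) := NoZeroDivisors.to_isDomain _
    haveI : IsDomain (MvPowerSeries (Fin r) A ⧸
        (maximalIdeal A).map (algebraMap A (MvPowerSeries (Fin r) A))) :=
      (CMFibres.quotEquivPS A r).toMulEquiv.isDomain _
    have hdimP : ringKrullDim (MvPowerSeries (Fin r) A ⧸
        (maximalIdeal A).map (algebraMap A (MvPowerSeries (Fin r) A))) = r := by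
      rw [ringKrullDim_eq_of_ringEquiv (CMFibres.quotEquivPS A r)]
      exact (CMFibres.ringKrullDim_ps_field (n := r) (ResidueField A)).2
    have hρi := injective_of_dim r hdimP ρ hρs hdim
    have hK : ∀ x, φ x = 0 → x ∈ (maximalIdeal A).map (algebraMap A (MvPowerSeries (Fin r) A)) := by
      intro x hx
      have h1 : ρ (Ideal.Quotient.mk _ x) = 0 := by
        rw [Ideal.quotientMap_mk, hx, map_zero]
      have h2 := hρi (h1.trans (map_zero ρ).symm)
      exact Ideal.Quotient.eq_zero_iff_mem.mp h2
    let φl : MvPowerSeries (Fin r) A →ₗ[A] B :=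
      { toFun := φ
        map_add' := map_add φ
        map_smul' := fun a x => by
          rw [Algebra.smul_def, map_mul, halg, hφC, RingHom.id_apply, Algebra.smul_def] }
    have hφl : ∀ x, φl x = φ x := fun x => rfl
    have hker_le : ∀ n : ℕ, LinearMap.ker φl ≤
        (maximalIdeal A ^ n) • (⊤ : Submodule A (MvPowerSeries (Fin r) A)) := by
      intro n
      induction n with
      | zero =>
        rw [pow_zero, Ideal.one_eq_top, Submodule.top_smul]
        exact le_top
      | succ n ih =>
        intro x hx
        have hx0 : φ x = 0 := hx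
        have h1 : x ∈ (maximalIdeal A) • (⊤ : Submodule A (MvPowerSeries (Fin r) A)) := by
          rw [Ideal.smul_top_eq_map]
          exact hK x hx0
        have h2 := Groth.Agent.Lib.Helper16.LiftA.flat_ker φl hsurj (maximalIdeal A) x h1 hx
        have h3 : maximalIdeal A • LinearMap.ker φl ≤ maximalIdeal A •
            ((maximalIdeal A ^ n) • (⊤ : Submodule A (MvPowerSeries (Fin r) A))) :=
          smul_mono_right _ ih
        have h4 := h3 h2
        rwa [← Submodule.mul_smul, ← pow_succ'] at h4
    rw [injective_iff_map_eq_zero]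
    intro x hx
    ext ν
    have h5 : coeff ν x ∈ ⨅ n : ℕ, maximalIdeal A ^ n := by
      rw [Ideal.mem_iInf]
      intro n
      exact coeff_mem_of_mem_smul _ x (hker_le n hx) ν
    rw [Ideal.iInf_pow_eq_bot_of_isLocalRing _ (Ideal.IsPrime.ne_top')] at h5
    simpa using h5
  let e₀ : MvPowerSeries (Fin r) A ≃+* B := RingEquiv.ofBijective φ ⟨hinj, hsurj⟩
  refine ⟨e₀.symm, fun a => ?_, ?_⟩
  · rw [RingEquiv.symm_apply_eq]
    exact (hφC a).symm
  · rw [← hmapX, Ideal.map_map]
    have : (e₀.symm.toRingHom.comp φ) = RingHom.id _ :=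
      RingHom.ext fun x => e₀.symm_apply_apply x
    rw [this, Ideal.map_id]

end T11979
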