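import Groth.Agent.scratch.T11979b

set_option autoImplicit false
set_option linter.unusedSectionVars false
set_option linter.style.haveILetI false
universe u

namespace T11979
open MvPowerSeries IsLocalRing Groth.Agent.Lib.Helper23

section Setup

variable {A : Type u} [CommRing A] [IsLocalRing A]
  {B' : Type u} [CommRing B'] [IsNoetherianRing B'] (f : A →+* B') (q : B' →+* A)

/-- the induced augmentation of the completion -/
noncomputable def qB : AdicCompletion (RingHom.ker q) B' →+* A :=
  (RingHom.kerLift q).comp (AdicCompletion.evalOneₐ (RingHom.ker q)).toRingHom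

theorem qB_of (b : B') :
    qB q (algebraMap B' (AdicCompletion (RingHom.ker q) B') b) = q b := by
  have h := congrArg (fun χ : B' →+* B' ⧸ RingHom.ker q => χ b)
    (AdicCompletion.evalOneₐ_comp_algebraMap_eq_mk (RingHom.ker q))
  simp only [RingHom.comp_apply] at h
  rw [qB, RingHom.comp_apply, h]
  exact RingHom.kerLift_mk q b

theorem ker_qB : RingHom.ker (qB q) =
    (RingHom.ker q).map (algebraMap B' (AdicCompletion (RingHom.ker q) B')) := by
  rw [← AdicCompletion.ker_evalOneₐ_eq_map (RingHom.ker q) (IsNoetherian.noetherian _)]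
  ext x
  rw [RingHom.mem_ker, RingHom.mem_ker, qB, RingHom.comp_apply]
  constructor
  · intro h
    exact (RingHom.kerLift_injective q) (h.trans (map_zero _).symm)
  · intro h
    have : (AdicCompletion.evalOneₐ (RingHom.ker q)).toRingHom x = 0 := h
    rw [this, map_zero]

variable (hqf : q.comp f = RingHom.id A)
include hqf

theorem qB_f (a : A) :
    qB q (algebraMap B' (AdicCompletion (RingHom.ker q) B') (f a)) = a := by
  rw [qB_of]
  exact congrArg (fun χ : A →+* A => χ a) hqf

theorem isUnit_iff (b : AdicCompletion (RingHom.ker q) B') : IsUnit b ↔ IsUnit (qB q b) := by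
  refine ⟨fun h => h.map _, fun h => ?_⟩
  obtain ⟨u, hu⟩ := h
  set c : AdicCompletion (RingHom.ker q) B' :=
    algebraMap B' (AdicCompletion (RingHom.ker q) B') (f (↑u⁻¹ : A)) with hc
  have h1 : b * c - 1 ∈ RingHom.ker (qB q) := by
    rw [RingHom.mem_ker, map_sub, map_mul, map_one, hc, qB_f f q hqf, ← hu, Units.mul_inv, sub_self]
  haveI := AdicCompletion.isAdicComplete_self (RingHom.ker q) (IsNoetherian.noetherian _)
  have h2 : b * c - 1 ∈ (⊥ : Ideal (AdicCompletion (RingHom.ker q) B')).jacobson := by
    rw [ker_qB] at h1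
    exact IsAdicComplete.le_jacobson_bot _ h1
  have h3 := (Ideal.mem_jacobson_bot.mp h2) 1
  rw [mul_one, sub_add_cancel] at h3
  exact isUnit_of_mul_isUnit_left h3

theorem isLocalRing_completion : IsLocalRing (AdicCompletion (RingHom.ker q) B') := by
  haveI : Nontrivial (AdicCompletion (RingHom.ker q) B') := by
    refine ⟨⟨0, 1, fun h => ?_⟩⟩
    have := congrArg (qB q) h
    rw [map_zero, map_one] at this
    exact zero_ne_one this
  refine IsLocalRing.of_nonunits_add fun a b ha hb => ?_
  rw [mem_nonunits_iff, isUnit_iff f q hqf] at ha hb ⊢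
  rw [map_add]
  exact IsLocalRing.nonunits_add ha hb

end Setup

end T11979
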