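import Groth.Agent.scratch.T11979c

set_option autoImplicit false
set_option linter.unusedSectionVars false
set_option linter.style.haveILetI false
universe u

namespace T11979
open MvPowerSeries IsLocalRing Groth.Agent.Lib.Helper23

section Setup

variable {A : Type u} [CommRing A] [IsLocalRing A]
  {B' : Type u} [CommRing B'] [IsNoetherianRing B'] (f : A →+* B') (q : B' →+* A)
variable (hqf : q.comp f = RingHom.id A)
include hqf

theorem isUnit_of_notMem (b : B') (hb : b ∉ (maximalIdeal A).comap q) :
    IsUnit (algebraMap B' (AdicCompletion (RingHom.ker q) B') b) := by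
  rw [isUnit_iff f q hqf, qB_of]
  rw [Ideal.mem_comap] at hb
  exact IsLocalRing.notMem_maximalIdeal.mp hb

theorem flat_completion (hflat : ∀ (P : Ideal B') [P.IsPrime], RingHom.ker q ≤ P →
      ((algebraMap B' (Localization.AtPrime P)).comp f).Flat) :
    ((algebraMap B' (AdicCompletion (RingHom.ker q) B')).comp f).Flat := by
  have hle : RingHom.ker q ≤ (maximalIdeal A).comap q := by
    intro x hx
    rw [Ideal.mem_comap, RingHom.mem_ker.mp hx]
    exact zero_mem _
  have h1 := hflat ((maximalIdeal A).comap q) hle
  have hunit : ∀ y : ((maximalIdeal A).comap q).primeCompl,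
      IsUnit (algebraMap B' (AdicCompletion (RingHom.ker q) B') y) :=
    fun y => isUnit_of_notMem f q hqf y y.2
  let g : Localization.AtPrime ((maximalIdeal A).comap q) →+* AdicCompletion (RingHom.ker q) B' :=
    IsLocalization.lift hunit
  have hg : g.Flat := by
    letI := g.toAlgebra
    haveI : IsScalarTower B' (Localization.AtPrime ((maximalIdeal A).comap q))
        (AdicCompletion (RingHom.ker q) B') :=
      IsScalarTower.of_algebraMap_eq (fun x => (IsLocalization.lift_eq hunit x).symm)
    exact (Module.flat_iff_of_isLocalization (Localization.AtPrime ((maximalIdeal A).comap q))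
      ((maximalIdeal A).comap q).primeCompl (AdicCompletion (RingHom.ker q) B')).mpr inferInstance
  have h2 := RingHom.Flat.comp h1 hg
  have h3 : g.comp ((algebraMap B' (Localization.AtPrime ((maximalIdeal A).comap q))).comp f) =
      (algebraMap B' (AdicCompletion (RingHom.ker q) B')).comp f := by
    rw [← RingHom.comp_assoc, IsLocalization.lift_comp]
  rwa [h3] at h2

end Setup

end T11979
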