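import Groth.Agent.scratch.T11979d

set_option autoImplicit false
set_option linter.unusedSectionVars false
set_option linter.style.haveILetI false
universe u

namespace T11979
open MvPowerSeries IsLocalRing Groth.Agent.Lib.Helper23

theorem inf_le_mul {A B : Type*} [CommRing A] [CommRing B] [Algebra A B] (qB : B →+* A)
    (hq : ∀ a, qB (algebraMap A B a) = a) (I : Ideal A) :
    I.map (algebraMap A B) ⊓ RingHom.ker qB ≤ I.map (algebraMap A B) * RingHom.ker qB := by
  have key : ∀ b ∈ I.map (algebraMap A B),
      b - algebraMap A B (qB b) ∈ I.map (algebraMap A B) * RingHom.ker qB ∧ qB b ∈ I := by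
    intro b hb
    induction hb using Submodule.span_induction with
    | mem x hx =>
      obtain ⟨a, ha, rfl⟩ := hx
      rw [hq, sub_self]
      exact ⟨zero_mem _, ha⟩
    | zero =>
      rw [map_zero, map_zero, sub_zero]
      exact ⟨zero_mem _, zero_mem _⟩
    | add x y _ _ hx hy =>
      refine ⟨?_, ?_⟩
      · have : x + y - algebraMap A B (qB (x + y)) =
            (x - algebraMap A B (qB x)) + (y - algebraMap A B (qB y)) := by
          rw [map_add, map_add]; ring
        rw [this]
        exact add_mem hx.1 hy.1
      · rw [map_add]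
        exact add_mem hx.2 hy.2
    | smul c x _ hx =>
      refine ⟨?_, ?_⟩
      · have : c • x - algebraMap A B (qB (c • x)) =
            c * (x - algebraMap A B (qB x)) +
              algebraMap A B (qB x) * (c - algebraMap A B (qB c)) := by
          rw [smul_eq_mul, map_mul, map_mul]; ring
        rw [this]
        refine add_mem (Ideal.mul_mem_left _ _ hx.1) (Ideal.mul_mem_mul ?_ ?_)
        · exact Ideal.mem_map_of_mem _ hx.2
        · rw [RingHom.mem_ker, map_sub, hq, sub_self]
      · rw [smul_eq_mul, map_mul]
        exact Ideal.mul_mem_left _ _ hx.2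
  rintro b ⟨hb1, hb2⟩
  have h := (key b hb1).1
  rw [RingHom.mem_ker.mp hb2, map_zero, sub_zero] at h
  exact h

section Setup

variable {A : Type u} [CommRing A] [IsLocalRing A]
  {B' : Type u} [CommRing B'] [IsNoetherianRing B'] (f : A →+* B') (q : B' →+* A)
variable (hqf : q.comp f = RingHom.id A)
include hqf

theorem sup_eq_comap :
    RingHom.ker q ⊔ (maximalIdeal A).map f = (maximalIdeal A).comap q := by
  apply le_antisymm
  · refine sup_le ?_ ?_
    · intro x hx
      rw [Ideal.mem_comap, RingHom.mem_ker.mp hx]
      exact zero_mem _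
    · rw [Ideal.map_le_iff_le_comap, Ideal.comap_comap, hqf, Ideal.comap_id]
  · intro x hx
    have h1 : x - f (q x) ∈ RingHom.ker q := by
      rw [RingHom.mem_ker, map_sub]
      have := congrArg (fun χ : A →+* A => χ (q x)) hqf
      simp only [RingHom.comp_apply, RingHom.id_apply] at this
      rw [this, sub_self]
    have h2 : f (q x) ∈ (maximalIdeal A).map f := Ideal.mem_map_of_mem _ hx
    have : x = (x - f (q x)) + f (q x) := by ring
    rw [this]
    exact Submodule.add_mem_sup h1 h2

end Setup

end T11979
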