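import Groth.Agent.scratch.T11979e

set_option autoImplicit false
set_option linter.unusedSectionVars false
set_option linter.style.haveILetI false
set_option maxHeartbeats 1000000
set_option synthInstance.maxHeartbeats 200000
universe u

namespace T11979
open MvPowerSeries IsLocalRing Groth.Agent.Lib.Helper23

section Fibre

variable {A : Type u} [CommRing A] [IsLocalRing A] [IsNoetherianRing A]
  {B' : Type u} [CommRing B'] [IsNoetherianRing B'] (f : A →+* B') (q : B' →+* A)
  (hqf : q.comp f = RingHom.id A)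
  (Pbar : Ideal (B' ⧸ (maximalIdeal A).map f)) [Pbar.IsPrime]
  (hPbar : Pbar.comap (Ideal.Quotient.mk ((maximalIdeal A).map f)) =
      RingHom.ker q ⊔ (maximalIdeal A).map f)
include hqf hPbar

theorem fibre_pkg (hreg : IsRegularLocalRing (Localization.AtPrime Pbar)) :
    ∃ (r : ℕ) (y : Fin r → AdicCompletion (RingHom.ker q) B' ⧸
        ((maximalIdeal A).map f).map (algebraMap B' (AdicCompletion (RingHom.ker q) B'))),
      Ideal.span (Set.range y) =
        ((RingHom.ker q).map (algebraMap B' (AdicCompletion (RingHom.ker q) B'))).map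
          (Ideal.Quotient.mk _) ∧
      (r : WithBot ℕ∞) ≤ ringKrullDim (AdicCompletion (RingHom.ker q) B' ⧸
        ((maximalIdeal A).map f).map (algebraMap B' (AdicCompletion (RingHom.ker q) B'))) := by
  haveI hBloc := isLocalRing_completion f q hqf
  haveI hBnoeth : IsNoetherianRing (AdicCompletion (RingHom.ker q) B') :=
    Groth.Agent.Lib.Helper21.isNoetherianRing_adicCompletion_of_fg _ (IsNoetherian.noetherian _)
  set ι := algebraMap B' (AdicCompletion (RingHom.ker q) B') with hι
  set HB := (RingHom.ker q).map ι with hHB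
  -- the ideal `mB` is inside the kernel-preimage of the maximal ideal
  have hmB_le : (Ideal.map f (maximalIdeal A)).map ι ≤ (maximalIdeal A).comap (qB q) := by
    rw [Ideal.map_map, Ideal.map_le_iff_le_comap, Ideal.comap_comap]
    intro a ha
    rw [Ideal.mem_comap, RingHom.comp_apply, RingHom.comp_apply, qB_f f q hqf]
    exact ha
  have hne : (Ideal.map f (maximalIdeal A)).map ι ≠ ⊤ := by
    intro h
    have h1 : (1 : AdicCompletion (RingHom.ker q) B') ∈ (maximalIdeal A).comap (qB q) :=
      hmB_le (h ▸ Submodule.mem_top)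
    rw [Ideal.mem_comap, map_one] at h1
    exact (Ideal.ne_top_iff_one _).mp (Ideal.IsPrime.ne_top') h1
  haveI : Nontrivial (AdicCompletion (RingHom.ker q) B' ⧸ (Ideal.map f (maximalIdeal A)).map ι) :=
    Ideal.Quotient.nontrivial_iff.mpr hne
  haveI hEloc : IsLocalRing (AdicCompletion (RingHom.ker q) B' ⧸ (Ideal.map f (maximalIdeal A)).map ι) :=
    IsLocalRing.of_surjective' (Ideal.Quotient.mk _) Ideal.Quotient.mk_surjective
  -- maximal ideal of E
  have hmaxE : maximalIdeal (AdicCompletion (RingHom.ker q) B' ⧸ (Ideal.map f (maximalIdeal A)).map ι) =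
      HB.map (Ideal.Quotient.mk _) := by
    apply le_antisymm
    · intro x hx
      obtain ⟨b, rfl⟩ := Ideal.Quotient.mk_surjective x
      have hb : ¬ IsUnit b := fun h => hx (h.map _)
      rw [isUnit_iff f q hqf] at hb
      have hb' : qB q b ∈ maximalIdeal A := hb
      have h1 : b - ι (f (qB q b)) ∈ HB := by
        rw [hHB, ← ker_qB, RingHom.mem_ker, map_sub, qB_f f q hqf, sub_self]
      have h2 : ι (f (qB q b)) ∈ (Ideal.map f (maximalIdeal A)).map ι :=
        Ideal.mem_map_of_mem _ (Ideal.mem_map_of_mem _ hb')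
      have h3 : Ideal.Quotient.mk ((Ideal.map f (maximalIdeal A)).map ι) b = Ideal.Quotient.mk ((Ideal.map f (maximalIdeal A)).map ι) (b - ι (f (qB q b))) := by
        rw [map_sub, Ideal.Quotient.eq_zero_iff_mem.mpr h2, sub_zero]
      rw [h3]
      exact Ideal.mem_map_of_mem _ h1
    · apply IsLocalRing.le_maximalIdeal
      intro h
      rw [Ideal.eq_top_iff_one, Ideal.mem_map_iff_of_surjective _ Ideal.Quotient.mk_surjective] at h
      obtain ⟨b, hb, hb1⟩ := h
      have h1 : b - 1 ∈ (Ideal.map f (maximalIdeal A)).map ι := by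
        rw [← Ideal.Quotient.eq_zero_iff_mem, map_sub, hb1, map_one, sub_self]
      have h2 := hmB_le h1
      rw [Ideal.mem_comap, map_sub, map_one] at h2
      rw [hHB, ← ker_qB, RingHom.mem_ker] at hb
      rw [hb, zero_sub, neg_mem_iff] at h2
      exact (Ideal.ne_top_iff_one _).mp (Ideal.IsPrime.ne_top') h2
  -- units
  have hunitD : ∀ y : Pbar.primeCompl,
      IsUnit (algebraMap (B' ⧸ (Ideal.map f (maximalIdeal A))) (AdicCompletion (RingHom.ker q) B' ⧸ (Ideal.map f (maximalIdeal A)).map ι) y) := by
    rintro ⟨y, hy⟩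
    obtain ⟨b, rfl⟩ := Ideal.Quotient.mk_surjective y
    have hb : b ∉ (maximalIdeal A).comap q := by
      rw [← sup_eq_comap f q hqf, ← hPbar]
      exact hy
    exact (isUnit_of_notMem f q hqf b hb).map (Ideal.Quotient.mk ((Ideal.map f (maximalIdeal A)).map ι))
  let ψ : Localization.AtPrime Pbar →+* AdicCompletion (RingHom.ker q) B' ⧸ (Ideal.map f (maximalIdeal A)).map ι :=
    IsLocalization.lift hunitD
  letI : Algebra (Localization.AtPrime Pbar) (AdicCompletion (RingHom.ker q) B' ⧸ (Ideal.map f (maximalIdeal A)).map ι) :=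
    ψ.toAlgebra
  haveI : IsScalarTower (B' ⧸ (Ideal.map f (maximalIdeal A))) (Localization.AtPrime Pbar)
      (AdicCompletion (RingHom.ker q) B' ⧸ (Ideal.map f (maximalIdeal A)).map ι) :=
    IsScalarTower.of_algebraMap_eq (fun x => (IsLocalization.lift_eq hunitD x).symm)
  haveI hDflat : Module.Flat (B' ⧸ (Ideal.map f (maximalIdeal A))) (AdicCompletion (RingHom.ker q) B' ⧸ (Ideal.map f (maximalIdeal A)).map ι) :=
    Module.Flat.of_linearEquiv
      (Algebra.TensorProduct.quotIdealMapEquivQuotTensor (AdicCompletion (RingHom.ker q) B')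
        (Ideal.map f (maximalIdeal A))).toLinearEquiv
  have hFflat : Module.Flat (Localization.AtPrime Pbar)
      (AdicCompletion (RingHom.ker q) B' ⧸ (Ideal.map f (maximalIdeal A)).map ι) :=
    (Module.flat_iff_of_isLocalization (Localization.AtPrime Pbar) Pbar.primeCompl _).mpr hDflat
  -- maximal ideal of F maps onto that of E
  have hPbar_eq : Pbar = (RingHom.ker q).map (Ideal.Quotient.mk (Ideal.map f (maximalIdeal A))) := by
    have h1 := Ideal.map_comap_of_surjective (Ideal.Quotient.mk (Ideal.map f (maximalIdeal A))) Ideal.Quotient.mk_surjective Pbar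
    rw [hPbar, Ideal.map_sup, Ideal.map_quotient_self, sup_bot_eq] at h1
    exact h1.symm
  have hmap : (maximalIdeal (Localization.AtPrime Pbar)).map ψ =
      maximalIdeal (AdicCompletion (RingHom.ker q) B' ⧸ (Ideal.map f (maximalIdeal A)).map ι) := by
    rw [hmaxE, ← Localization.AtPrime.map_eq_maximalIdeal,
      Ideal.map_map (algebraMap (B' ⧸ (Ideal.map f (maximalIdeal A))) (Localization.AtPrime Pbar)) ψ]
    have h1 : ψ.comp (algebraMap (B' ⧸ (Ideal.map f (maximalIdeal A))) (Localization.AtPrime Pbar)) =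
        algebraMap (B' ⧸ (Ideal.map f (maximalIdeal A))) (AdicCompletion (RingHom.ker q) B' ⧸ (Ideal.map f (maximalIdeal A)).map ι) :=
      IsLocalization.lift_comp hunitD
    rw [h1]
    have h2 : Ideal.map (algebraMap (B' ⧸ (Ideal.map f (maximalIdeal A)))
        (AdicCompletion (RingHom.ker q) B' ⧸ (Ideal.map f (maximalIdeal A)).map ι)) Pbar =
        Ideal.map ((algebraMap (B' ⧸ (Ideal.map f (maximalIdeal A)))
          (AdicCompletion (RingHom.ker q) B' ⧸ (Ideal.map f (maximalIdeal A)).map ι)).comp
            (Ideal.Quotient.mk (Ideal.map f (maximalIdeal A)))) (RingHom.ker q) := by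
      rw [← Ideal.map_map]
      exact congrArg _ hPbar_eq
    have h3 : Ideal.map (Ideal.Quotient.mk ((Ideal.map f (maximalIdeal A)).map ι)) HB =
        Ideal.map ((Ideal.Quotient.mk ((Ideal.map f (maximalIdeal A)).map ι)).comp ι) (RingHom.ker q) := by
      rw [hHB, Ideal.map_map ι]
    rw [h2, h3]
    rfl
  haveI hloc : IsLocalHom ψ :=
    ((IsLocalRing.local_hom_TFAE ψ).out 0 2 rfl rfl).mpr (le_of_eq hmap)
  have hdimE := Groth.Agent.Lib.Helper21.BaseChg.ringKrullDim_eq_add_of_flat_local
    (Localization.AtPrime Pbar) (AdicCompletion (RingHom.ker q) B' ⧸ (Ideal.map f (maximalIdeal A)).map ι) ψ hFflat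
  have hzero : ringKrullDim ((AdicCompletion (RingHom.ker q) B' ⧸ (Ideal.map f (maximalIdeal A)).map ι) ⧸
      (maximalIdeal (Localization.AtPrime Pbar)).map ψ) = 0 := by
    rw [hmap]
    exact ringKrullDim_eq_zero_of_isField
      ((Ideal.Quotient.maximal_ideal_iff_isField_quotient _).mp inferInstance)
  rw [hzero, add_zero] at hdimE
  -- generators
  have hfg : (maximalIdeal (Localization.AtPrime Pbar)).FG := IsNoetherian.noetherian _
  obtain ⟨s, hcard, hspan⟩ := Submodule.FG.exists_span_finset_card_eq_spanFinrank hfg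
  let e := s.equivFinOfCardEq hcard
  refine ⟨(maximalIdeal (Localization.AtPrime Pbar)).spanFinrank,
    fun i => ψ ((e.symm i : s) : Localization.AtPrime Pbar), ?_, ?_⟩
  · have h1 : Ideal.span (Set.range fun i => ψ ((e.symm i : s) : Localization.AtPrime Pbar)) =
        Ideal.map ψ (Ideal.span (s : Set (Localization.AtPrime Pbar))) := by
      rw [Ideal.map_span]
      congr 1
      ext z
      constructor
      · rintro ⟨i, rfl⟩
        exact ⟨_, (e.symm i).2, rfl⟩
      · rintro ⟨w, hw, rfl⟩
        exact ⟨e ⟨w, hw⟩, by simp⟩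
    rw [h1]
    have h2 : Ideal.span (s : Set (Localization.AtPrime Pbar)) =
        maximalIdeal (Localization.AtPrime Pbar) := hspan
    rw [h2, hmap, hmaxE]
  · rw [hdimE, ← hreg.spanFinrank_maximalIdeal]

end Fibre

end T11979
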