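import Groth.Agent.scratch.T11979f

set_option autoImplicit false
set_option linter.unusedSectionVars false
set_option linter.style.haveILetI false
set_option maxHeartbeats 1000000
set_option synthInstance.maxHeartbeats 200000
universe u

namespace T11979
open MvPowerSeries IsLocalRing Groth.Agent.Lib.Helper23

theorem t11979 (A : Type u) [CommRing A] [IsNoetherianRing A]
    [IsLocalRing A] (B' : Type u) [CommRing B'] [IsNoetherianRing B'] (f : A →+* B') (q : B' →+* A)
    (hqf : q.comp f = RingHom.id A)
    (hflat : ∀ (P : Ideal B') [P.IsPrime], RingHom.ker q ≤ P →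
      ((algebraMap B' (Localization.AtPrime P)).comp f).Flat)
    (Pbar : Ideal (B' ⧸ (IsLocalRing.maximalIdeal A).map f)) [Pbar.IsPrime]
    (hPbar : Pbar.comap (Ideal.Quotient.mk ((IsLocalRing.maximalIdeal A).map f)) =
      RingHom.ker q ⊔ (IsLocalRing.maximalIdeal A).map f)
    (hreg : IsRegularLocalRing (Localization.AtPrime Pbar)) :
    ∃ (r : ℕ) (e : AdicCompletion (RingHom.ker q) B' ≃+* MvPowerSeries (Fin r) A),
      (∀ a : A, e (algebraMap B' (AdicCompletion (RingHom.ker q) B') (f a)) = MvPowerSeries.C a) ∧
      ((RingHom.ker q).map (algebraMap B' (AdicCompletion (RingHom.ker q) B'))).map e.toRingHom =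
        Ideal.span (Set.range (MvPowerSeries.X : Fin r → MvPowerSeries (Fin r) A)) := by
  obtain ⟨r, y, hy, hdim⟩ := fibre_pkg f q hqf Pbar hPbar hreg
  haveI hBloc := isLocalRing_completion f q hqf
  haveI hBnoeth : IsNoetherianRing (AdicCompletion (RingHom.ker q) B') :=
    Groth.Agent.Lib.Helper21.isNoetherianRing_adicCompletion_of_fg _ (IsNoetherian.noetherian _)
  haveI hcomp : IsAdicComplete ((RingHom.ker q).map (algebraMap B' (AdicCompletion (RingHom.ker q) B')))
      (AdicCompletion (RingHom.ker q) B') :=
    AdicCompletion.isAdicComplete_self _ (IsNoetherian.noetherian _)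
  letI : Algebra A (AdicCompletion (RingHom.ker q) B') :=
    ((algebraMap B' (AdicCompletion (RingHom.ker q) B')).comp f).toAlgebra
  haveI : Module.Flat A (AdicCompletion (RingHom.ker q) B') := flat_completion f q hqf hflat
  have hq : ∀ a, qB q (algebraMap A (AdicCompletion (RingHom.ker q) B') a) = a :=
    fun a => qB_f f q hqf a
  have hmB : ((maximalIdeal A).map f).map (algebraMap B' (AdicCompletion (RingHom.ker q) B')) =
      (maximalIdeal A).map (algebraMap A (AdicCompletion (RingHom.ker q) B')) :=
    Ideal.map_map f _
  have hy_mem : ∀ i, y i ∈ ((RingHom.ker q).map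
      (algebraMap B' (AdicCompletion (RingHom.ker q) B'))).map (Ideal.Quotient.mk
        (((maximalIdeal A).map f).map (algebraMap B' (AdicCompletion (RingHom.ker q) B')))) :=
    fun i => hy ▸ Ideal.subset_span ⟨i, rfl⟩
  choose t htHB htmk using fun i =>
    (Ideal.mem_map_iff_of_surjective _ Ideal.Quotient.mk_surjective).mp (hy_mem i)
  have hne : ((maximalIdeal A).map f).map (algebraMap B' (AdicCompletion (RingHom.ker q) B')) ≠ ⊤ := by
    intro h
    have : Subsingleton (AdicCompletion (RingHom.ker q) B' ⧸
        ((maximalIdeal A).map f).map (algebraMap B' (AdicCompletion (RingHom.ker q) B'))) :=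
      Ideal.Quotient.subsingleton_iff.mpr h
    rw [ringKrullDim_eq_bot_of_subsingleton] at hdim
    exact absurd hdim (by simp)
  have hspan : Ideal.span (Set.range t) =
      (RingHom.ker q).map (algebraMap B' (AdicCompletion (RingHom.ker q) B')) := by
    apply le_antisymm
    · rw [Ideal.span_le]
      rintro _ ⟨i, rfl⟩
      exact htHB i
    · apply Submodule.le_of_le_smul_of_le_jacobson_bot
        (I := ((maximalIdeal A).map f).map (algebraMap B' (AdicCompletion (RingHom.ker q) B')))
      · exact IsNoetherian.noetherian _
      · rw [IsLocalRing.jacobson_eq_maximalIdeal ⊥ bot_ne_top]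
        exact IsLocalRing.le_maximalIdeal hne
      · intro b hb
        have h1 : Ideal.Quotient.mk (((maximalIdeal A).map f).map
            (algebraMap B' (AdicCompletion (RingHom.ker q) B'))) b ∈
            (Ideal.span (Set.range t)).map (Ideal.Quotient.mk _) := by
          rw [Ideal.map_span, ← Set.range_comp]
          have h2 : (Ideal.Quotient.mk (((maximalIdeal A).map f).map
            (algebraMap B' (AdicCompletion (RingHom.ker q) B')))) ∘ t = y := funext htmk
          rw [h2, hy]
          exact Ideal.mem_map_of_mem _ hb
        obtain ⟨s, hs, hsb⟩ := (Ideal.mem_map_iff_of_surjective _ Ideal.Quotient.mk_surjective).mp h1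
        have hdiff : b - s ∈ ((maximalIdeal A).map f).map
            (algebraMap B' (AdicCompletion (RingHom.ker q) B')) := Ideal.Quotient.eq.mp hsb.symm
        have hsHB : s ∈ (RingHom.ker q).map (algebraMap B' (AdicCompletion (RingHom.ker q) B')) := by
          have : Ideal.span (Set.range t) ≤
              (RingHom.ker q).map (algebraMap B' (AdicCompletion (RingHom.ker q) B')) := by
            rw [Ideal.span_le]
            rintro _ ⟨i, rfl⟩
            exact htHB i
          exact this hs
        have hdiff2 : b - s ∈ RingHom.ker (qB q) := by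
          rw [ker_qB]
          exact sub_mem hb hsHB
        have h3 := inf_le_mul (qB q) hq (maximalIdeal A) ⟨hmB ▸ hdiff, hdiff2⟩
        rw [← hmB, ker_qB] at h3
        have h4 : b = s + (b - s) := by ring
        rw [h4]
        exact Submodule.add_mem_sup hs h3
  have hdim' : (r : WithBot ℕ∞) ≤ ringKrullDim (AdicCompletion (RingHom.ker q) B' ⧸
      (maximalIdeal A).map (algebraMap A (AdicCompletion (RingHom.ker q) B'))) := by
    rw [← hmB]
    exact hdim
  obtain ⟨e, he1, he2⟩ := main_abstract A (AdicCompletion (RingHom.ker q) B')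
    ((RingHom.ker q).map (algebraMap B' (AdicCompletion (RingHom.ker q) B'))) (qB q) hq (ker_qB q) r t
    hspan hdim'
  exact ⟨r, e, he1, he2⟩

end T11979
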