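import Mathlib
import Groth.Agent.Lib.Helper28.Chevalley
import Groth.Agent.Lib.Helper23.GeomRegular2

set_option autoImplicit false
set_option linter.unusedSectionVars false
set_option linter.style.haveILetI false
universe u

namespace T12420
open IsLocalRing TensorProduct

section TorsionFree

variable (A B M : Type u) [CommRing A] [IsDomain A] [CommRing B] [IsDomain B] [Algebra A B]
  [Module.Flat A B] [AddCommGroup M] [Module A M]

/-- flat base change of a torsion-free module to a domain is torsion-free. -/
theorem lTensor_mulLeft_injective
    (hM : ∀ a : A, a ≠ 0 → Function.Injective (fun m : M => a • m))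
    (b : B) (hb : b ≠ 0) :
    Function.Injective (LinearMap.lTensor M (LinearMap.mulLeft A b)) := by
  let S₀ : Submonoid A := nonZeroDivisors A
  let V := LocalizedModule S₀ M
  let ι : M →ₗ[A] V := LocalizedModule.mkLinearMap S₀ M
  have hι : Function.Injective ι := by
    rw [injective_iff_map_eq_zero]
    intro m hm
    rw [LocalizedModule.mkLinearMap_apply] at hm
    have h0 : LocalizedModule.mk m (1 : S₀) = LocalizedModule.mk 0 (1 : S₀) := by
      rw [hm, LocalizedModule.zero_mk]
    rw [LocalizedModule.mk_eq] at h0
    obtain ⟨u, hu⟩ := h0
    have hu0 : (u : A) ≠ 0 := nonZeroDivisors.ne_zero u.2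
    apply hM u hu0
    have h3 : (u : A) • m = 0 := by
      simpa [Submonoid.smul_def] using hu
    simpa using h3
  haveI : Module.Flat A (Localization S₀) := IsLocalization.flat _ S₀
  haveI : Module.Flat (Localization S₀) V := inferInstance
  haveI : Module.Flat A V := Module.Flat.trans A (Localization S₀) V
  have h1 : Function.Injective (ι.rTensor B) :=
    Module.Flat.rTensor_preserves_injective_linearMap ι hι
  have h2 : Function.Injective ((LinearMap.mulLeft A b).lTensor V) :=
    Module.Flat.lTensor_preserves_injective_linearMap (LinearMap.mulLeft A b)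
      (mul_right_injective₀ hb)
  have hcomm : ((LinearMap.mulLeft A b).lTensor V).comp (ι.rTensor B) =
      (ι.rTensor B).comp ((LinearMap.mulLeft A b).lTensor M) := by
    rw [LinearMap.lTensor_comp_rTensor, LinearMap.rTensor_comp_lTensor]
  intro x y hxy
  apply h1
  apply h2
  have hx := LinearMap.congr_fun hcomm x
  have hy := LinearMap.congr_fun hcomm y
  simp only [LinearMap.comp_apply] at hx hy
  rw [hx, hy, hxy]

end TorsionFree

end T12420
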