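import Groth.Agent.scratch.T12420a

set_option autoImplicit false
set_option linter.unusedSectionVars false
set_option linter.style.haveILetI false
universe u

namespace T12420
open IsLocalRing TensorProduct

section Abstract

variable (R T : Type u) [CommRing R] [IsNoetherianRing R] [IsLocalRing R]
  [IsAdicComplete (maximalIdeal R) R] [CommRing T] [IsNoetherianRing T]

/-- Chevalley's lemma applied to the contraction of the powers of a prime of an overring on which
the nonzero elements of the complete local ring are nonzerodivisors. -/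
theorem abstract_subspace (ι : R →+* T) (hι : ∀ b : R, b ≠ 0 → ∀ t : T, ι b * t = 0 → t = 0)
    (𝔮 : Ideal T) [𝔮.IsPrime] (j : ℕ) :
    ∃ n : ℕ, ∀ b : R, ι b ∈ 𝔮 ^ n → b ∈ maximalIdeal R ^ j := by
  haveI : IsNoetherianRing (Localization.AtPrime 𝔮) :=
    IsLocalization.isNoetherianRing 𝔮.primeCompl _ inferInstance
  let ψ : R →+* Localization.AtPrime 𝔮 := (algebraMap T (Localization.AtPrime 𝔮)).comp ι
  have hψinj : Function.Injective ψ := by
    rw [injective_iff_map_eq_zero]
    intro b hb
    by_contra hb0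
    rw [RingHom.comp_apply, IsLocalization.map_eq_zero_iff 𝔮.primeCompl] at hb
    obtain ⟨u, hu⟩ := hb
    have h1 : ι b * (u : T) = 0 := by rw [mul_comm]; exact hu
    have h3 : (u : T) = 0 := hι b hb0 _ h1
    exact u.2 (by rw [h3]; exact 𝔮.zero_mem)
  let I : ℕ → Ideal R := fun n => (maximalIdeal (Localization.AtPrime 𝔮) ^ n).comap ψ
  have hI : Antitone I := fun a b hab => Ideal.comap_mono (Ideal.pow_le_pow_right hab)
  have hinf : ⨅ s, I s = ⊥ := by
    show ⨅ s, (maximalIdeal (Localization.AtPrime 𝔮) ^ s).comap ψ = ⊥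
    have hK : ⨅ s, maximalIdeal (Localization.AtPrime 𝔮) ^ s = ⊥ :=
      Ideal.iInf_pow_eq_bot_of_isLocalRing (maximalIdeal (Localization.AtPrime 𝔮))
        (maximalIdeal.isMaximal (Localization.AtPrime 𝔮)).ne_top
    rw [← Ideal.comap_iInf, hK]
    exact (RingHom.injective_iff_ker_eq_bot ψ).mp hψinj
  obtain ⟨n, hn⟩ := Groth.Agent.Lib.Helper28.Chevalley.chevalley I hI hinf j
  refine ⟨n, fun b hb => hn ?_⟩
  show ψ b ∈ maximalIdeal (Localization.AtPrime 𝔮) ^ n
  have h1 : 𝔮.map (algebraMap T (Localization.AtPrime 𝔮)) ≤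
      maximalIdeal (Localization.AtPrime 𝔮) := by
    rw [Ideal.map_le_iff_le_comap]
    intro y hy
    exact (IsLocalization.AtPrime.to_map_mem_maximal_iff _ 𝔮 y).mpr hy
  have h2 := Ideal.mem_map_of_mem (algebraMap T (Localization.AtPrime 𝔮)) hb
  rw [Ideal.map_pow] at h2
  exact Ideal.pow_right_mono h1 n h2

end Abstract

end T12420
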