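import Groth.Agent.scratch.T12420b
import Groth.Agent.Lib.Helper21.AdicNoetherian

set_option autoImplicit false
set_option linter.unusedSectionVars false
set_option linter.style.haveILetI false
universe u

namespace T12420
open IsLocalRing TensorProduct

section Main

variable (A A'' : Type u) [CommRing A] [CommRing A''] [IsNoetherianRing A] [IsNoetherianRing A'']
  [IsLocalRing A] [IsLocalRing A''] [IsDomain A''] [Algebra A A'']
  [IsLocalHom (algebraMap A A'')] [Algebra.EssFiniteType A A'']
  [IsDomain (AdicCompletion (maximalIdeal A) A)]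

theorem subspace_domain (hinj : Function.Injective (algebraMap A A'')) (j : ℕ) :
    ∃ n : ℕ, ((maximalIdeal A'') ^ n).comap (algebraMap A A'') ≤ (maximalIdeal A) ^ j := by
  haveI : IsDomain A := Function.Injective.isDomain (algebraMap A A'') hinj
  haveI : IsNoetherianRing (AdicCompletion (maximalIdeal A) A) :=
    Groth.Agent.Lib.Helper21.isNoetherianRing_adicCompletion_of_fg _ (IsNoetherian.noetherian _)
  haveI : Module.Flat A (AdicCompletion (maximalIdeal A) A) := inferInstance
  haveI ff : Module.FaithfullyFlat A (AdicCompletion (maximalIdeal A) A) :=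
    Module.FaithfullyFlat.of_flat_of_isLocalHom
  haveI : IsNoetherianRing (A'' ⊗[A] AdicCompletion (maximalIdeal A) A) :=
    Groth.Agent.Lib.Helper23.GeomRegular2.isNoetherianRing_tensor_of_essFiniteType
      (k := A) (S := AdicCompletion (maximalIdeal A) A) A''
  haveI : Module.FaithfullyFlat A'' (A'' ⊗[A] AdicCompletion (maximalIdeal A) A) := inferInstance
  haveI : IsAdicComplete (maximalIdeal (AdicCompletion (maximalIdeal A) A))
      (AdicCompletion (maximalIdeal A) A) := inferInstance
  have hne : (maximalIdeal A'').map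
      (algebraMap A'' (A'' ⊗[A] AdicCompletion (maximalIdeal A) A)) ≠ ⊤ := by
    intro h
    have := Ideal.comap_map_eq_self_of_faithfullyFlat
      (B := A'' ⊗[A] AdicCompletion (maximalIdeal A) A) (maximalIdeal A'')
    rw [h, Ideal.comap_top] at this
    exact (maximalIdeal.isMaximal A'').ne_top this.symm
  obtain ⟨𝔮, h𝔮max, h𝔮le⟩ := Ideal.exists_le_maximal _ hne
  haveI := h𝔮max.isPrime
  -- the map from the completion
  let incl : AdicCompletion (maximalIdeal A) A →+* A'' ⊗[A] AdicCompletion (maximalIdeal A) A :=
    (Algebra.TensorProduct.includeRight (R := A) (A := A'')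
      (B := AdicCompletion (maximalIdeal A) A)).toRingHom
  have hmul : ∀ (b : AdicCompletion (maximalIdeal A) A)
      (t : A'' ⊗[A] AdicCompletion (maximalIdeal A) A),
      incl b * t = LinearMap.lTensor A'' (LinearMap.mulLeft A b) t := by
    intro b t
    induction t using TensorProduct.induction_on with
    | zero => rw [mul_zero, map_zero]
    | tmul x c =>
      show ((1 : A'') ⊗ₜ[A] b) * (x ⊗ₜ[A] c) = _
      rw [Algebra.TensorProduct.tmul_mul_tmul, LinearMap.lTensor_tmul, LinearMap.mulLeft_apply,
        one_mul]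
    | add x y hx hy => rw [mul_add, hx, hy, map_add]
  have hincl : ∀ b : AdicCompletion (maximalIdeal A) A, b ≠ 0 →
      ∀ t : A'' ⊗[A] AdicCompletion (maximalIdeal A) A, incl b * t = 0 → t = 0 := by
    intro b hb0 t ht
    rw [hmul] at ht
    have h2 := lTensor_mulLeft_injective A (AdicCompletion (maximalIdeal A) A) A''
      (fun a ha x y hxy => by
        simp only [Algebra.smul_def] at hxy
        exact mul_left_cancel₀ (fun h0 => ha (hinj (by rw [h0, map_zero]))) hxy) b hb0
    exact h2 (by rw [ht, map_zero])
  obtain ⟨n, hn⟩ := abstract_subspace (AdicCompletion (maximalIdeal A) A)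
    (A'' ⊗[A] AdicCompletion (maximalIdeal A) A) incl hincl 𝔮 j
  refine ⟨n, fun x hx => ?_⟩
  have hcompat : incl (algebraMap A (AdicCompletion (maximalIdeal A) A) x) =
      algebraMap A'' (A'' ⊗[A] AdicCompletion (maximalIdeal A) A) (algebraMap A A'' x) := by
    show ((1 : A'') ⊗ₜ[A] (algebraMap A (AdicCompletion (maximalIdeal A) A) x)) = _
    rw [Algebra.TensorProduct.algebraMap_apply, Algebra.algebraMap_eq_smul_one,
      Algebra.algebraMap_eq_smul_one (A := A''), ← TensorProduct.smul_tmul]
    simp [Algebra.algebraMap_eq_smul_one]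
  have h1 : incl (algebraMap A (AdicCompletion (maximalIdeal A) A) x) ∈ 𝔮 ^ n := by
    rw [hcompat]
    have h2 := Ideal.mem_map_of_mem
      (algebraMap A'' (A'' ⊗[A] AdicCompletion (maximalIdeal A) A)) (Ideal.mem_comap.mp hx)
    rw [Ideal.map_pow] at h2
    exact Ideal.pow_right_mono h𝔮le n h2
  have h2 := hn _ h1
  rw [AdicCompletion.maximalIdeal_eq_map, ← Ideal.map_pow] at h2
  have h3 : x ∈ ((maximalIdeal A ^ j).map
      (algebraMap A (AdicCompletion (maximalIdeal A) A))).comap
      (algebraMap A (AdicCompletion (maximalIdeal A) A)) := h2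
  rwa [Ideal.comap_map_eq_self_of_faithfullyFlat] at h3

end Main

end T12420
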