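import Groth.Agent.scratch.T12420c

set_option autoImplicit false
set_option linter.unusedSectionVars false
set_option linter.style.haveILetI false
universe u

namespace T12420
open IsLocalRing TensorProduct

section General

theorem t12420 (A A' : Type u) [CommRing A]
    [CommRing A'] [IsNoetherianRing A] [IsNoetherianRing A'] [IsLocalRing A] [IsLocalRing A'] [Algebra A A']
    (hinj : Function.Injective (algebraMap A A')) [IsLocalHom (algebraMap A A')] [Algebra.EssFiniteType A A']
    [IsDomain (AdicCompletion (IsLocalRing.maximalIdeal A) A)] (j : ℕ) :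
    ∃ n : ℕ, ((IsLocalRing.maximalIdeal A') ^ n).comap (algebraMap A A') ≤ (IsLocalRing.maximalIdeal A) ^ j := by
  haveI : Module.Flat A (AdicCompletion (maximalIdeal A) A) := inferInstance
  haveI ff : Module.FaithfullyFlat A (AdicCompletion (maximalIdeal A) A) :=
    Module.FaithfullyFlat.of_flat_of_isLocalHom
  haveI : IsDomain A := Function.Injective.isDomain (algebraMap A (AdicCompletion (maximalIdeal A) A))
    (FaithfulSMul.algebraMap_injective A (AdicCompletion (maximalIdeal A) A))
  -- a prime of `A'` lying over zero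
  have hdisj : Disjoint ((⊥ : Ideal A') : Set A')
      ((nonZeroDivisors A).map (algebraMap A A') : Submonoid A') := by
    rw [Set.disjoint_left]
    rintro y hy ⟨a, ha, rfl⟩
    have hy0 : algebraMap A A' a = 0 := hy
    have ha0 : a = 0 := hinj (by rw [hy0, map_zero])
    exact nonZeroDivisors.ne_zero ha ha0
  obtain ⟨P', hP'prime, -, hP'⟩ := Ideal.exists_le_prime_disjoint (⊥ : Ideal A') _ hdisj
  haveI := hP'prime
  haveI : Nontrivial (A' ⧸ P') := Ideal.Quotient.nontrivial_iff.mpr hP'prime.ne_top
  haveI : IsLocalRing (A' ⧸ P') :=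
    IsLocalRing.of_surjective' (Ideal.Quotient.mk P') Ideal.Quotient.mk_surjective
  haveI hlocQ : IsLocalHom (Ideal.Quotient.mk P') :=
    IsLocalHom.of_surjective _ Ideal.Quotient.mk_surjective
  haveI : IsLocalHom (algebraMap A (A' ⧸ P')) := by
    have : algebraMap A (A' ⧸ P') = (Ideal.Quotient.mk P').comp (algebraMap A A') := rfl
    rw [this]
    infer_instance
  haveI : Algebra.EssFiniteType A (A' ⧸ P') := by
    haveI : Algebra.FiniteType A' (A' ⧸ P') := inferInstance
    exact Algebra.EssFiniteType.comp A A' (A' ⧸ P')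
  have hinj' : Function.Injective (algebraMap A (A' ⧸ P')) := by
    rw [injective_iff_map_eq_zero]
    intro a ha
    by_contra ha0
    have h1 : algebraMap A A' a ∈ P' := Ideal.Quotient.eq_zero_iff_mem.mp ha
    exact Set.disjoint_left.mp hP' h1 ⟨a, mem_nonZeroDivisors_of_ne_zero ha0, rfl⟩
  obtain ⟨n, hn⟩ := subspace_domain A (A' ⧸ P') hinj' j
  refine ⟨n, fun x hx => hn ?_⟩
  rw [Ideal.mem_comap] at hx ⊢
  have h2 := Ideal.mem_map_of_mem (Ideal.Quotient.mk P') hx
  rw [Ideal.map_pow] at h2
  have h3 : (maximalIdeal A').map (Ideal.Quotient.mk P') ≤ maximalIdeal (A' ⧸ P') := by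
    rw [Ideal.map_le_iff_le_comap]
    intro y hy
    rw [Ideal.mem_comap, mem_maximalIdeal, mem_nonunits_iff]
    intro hu
    exact (mem_maximalIdeal y).mp hy (hlocQ.map_nonunit y hu)
  exact Ideal.pow_right_mono h3 n h2

end General

end T12420
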