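import Mathlib
import Groth.Prelude.Def_CInt
import Groth.Agent.Lib.Helper21.FibStalkComp2
import Groth.Agent.Lib.Helper4.HznDim

namespace T14105
universe u
open AlgebraicGeometry CategoryTheory Limits IsLocalRing

variable {X S S' : Scheme.{u}}

theorem aux (f : X ⟶ S) (g : S' ⟶ S) (s' : S') (t' : (pullback.snd f g).fiber s') :
    ∃ t : f.fiber (g s'),
      f.fiberι (g s') t = (pullback.fst f g) ((pullback.snd f g).fiberι s' t') ∧
      ringKrullDim ((f.fiber (g s')).presheaf.stalk t) ≤
        ringKrullDim (((pullback.snd f g).fiber s').presheaf.stalk t') := by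
  have hpb := IsPullback.of_hasPullback f g
  have sq := isPullback_fiberToSpecResidueField_of_isPullback hpb s'
  let φ : (pullback.snd f g).fiber s' ⟶ f.fiber (g s') :=
    pullback.map (pullback.snd f g) (S'.fromSpecResidueField s') f
      (S.fromSpecResidueField (g s')) (pullback.fst f g) (Spec.map (g.residueFieldMap s')) g
      hpb.w.symm (by simp)
  have hφι : φ ≫ f.fiberι (g s') = (pullback.snd f g).fiberι s' ≫ pullback.fst f g :=
    pullback.lift_fst _ _ _
  haveI hρ : Flat (Spec.map (g.residueFieldMap s')) := by
    rw [Flat.SpecMap_iff]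
    letI := (g.residueFieldMap s').hom.toAlgebra
    change Module.Flat _ _
    infer_instance
  haveI hflat : Flat φ := MorphismProperty.of_isPullback (P := @Flat) sq.flip hρ
  refine ⟨φ t', ?_, ?_⟩
  · rw [← Scheme.Hom.comp_apply, hφι, Scheme.Hom.comp_apply]
  · have hfl := Flat.stalkMap φ t'
    letI : Algebra ((f.fiber (g s')).presheaf.stalk (φ t'))
        (((pullback.snd f g).fiber s').presheaf.stalk t') := (φ.stalkMap t').hom.toAlgebra
    haveI : IsLocalHom (algebraMap ((f.fiber (g s')).presheaf.stalk (φ t'))
        (((pullback.snd f g).fiber s').presheaf.stalk t')) :=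
      inferInstanceAs (IsLocalHom (φ.stalkMap t').hom)
    haveI : Module.Flat ((f.fiber (g s')).presheaf.stalk (φ t'))
        (((pullback.snd f g).fiber s').presheaf.stalk t') := hfl
    haveI : Module.FaithfullyFlat ((f.fiber (g s')).presheaf.stalk (φ t'))
        (((pullback.snd f g).fiber s').presheaf.stalk t') :=
      Module.FaithfullyFlat.of_flat_of_isLocalHom
    exact Groth.Agent.Lib.Helper4.Hzn.ringKrullDim_le_of_faithfullyFlat _ _

/-- the local rings of the fibres of a base change are at least as large as those of the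
original morphism -/
theorem ringKrullDim_fiberStalk_le_baseChange (f : X ⟶ S) (g : S' ⟶ S) (y' : ↥(pullback f g)) :
    ringKrullDim (CInt.fiberStalk f ((pullback.fst f g) y')) ≤
      ringKrullDim (CInt.fiberStalk (pullback.snd f g) y') := by
  obtain ⟨t, ht, hle⟩ := aux f g ((pullback.snd f g) y') ((pullback.snd f g).asFiber y')
  rw [Scheme.Hom.fiberι_asFiber] at ht
  have hfs : f ((pullback.fst f g) y') = g ((pullback.snd f g) y') := by
    rw [← Scheme.Hom.comp_apply, ← Scheme.Hom.comp_apply, pullback.condition]
  have h1 := Groth.Agent.Lib.Helper18.FibStalk.ringKrullDim_stalk_fiber_eq f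
    ((pullback.fst f g) y') (g ((pullback.snd f g) y')) hfs t ht
  change ringKrullDim ((f.fiber (f ((pullback.fst f g) y'))).presheaf.stalk
    (f.asFiber ((pullback.fst f g) y'))) ≤ _
  rw [← h1]
  exact hle

end T14105
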