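import Mathlib
import Groth.Agent.scratch.T14105a

namespace T14105
universe u
open AlgebraicGeometry CategoryTheory Limits IsLocalRing
open Groth.Agent.Lib.Helper21 Groth.Agent.Lib.Helper21.EquiSub

variable {X S S' : Scheme.{u}}

/-- the fibre of a morphism is smaller than the fibre of a composite -/
theorem ringKrullDim_fiberStalk_le_comp {X' : Scheme.{u}} (f' : X' ⟶ S') (g : S' ⟶ S) (y' : X') :
    ringKrullDim (CInt.fiberStalk f' y') ≤ ringKrullDim (CInt.fiberStalk (f' ≫ g) y') := by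
  change ringKrullDim ((f'.fiber (f' y')).presheaf.stalk (f'.asFiber y')) ≤
    ringKrullDim (((f' ≫ g).fiber ((f' ≫ g) y')).presheaf.stalk ((f' ≫ g).asFiber y'))
  rw [← ringKrullDim_quotient_map_maximalIdeal (f' ≫ g) y',
    ← ringKrullDim_quotient_map_maximalIdeal f' y', ← FibStalkComp.map_map_maximalIdeal g f' y']
  have hle : ((maximalIdeal (S.presheaf.stalk (g (f' y')))).map (g.stalkMap (f' y')).hom).map
      (f'.stalkMap y').hom ≤ (maximalIdeal (S'.presheaf.stalk (f' y'))).map (f'.stalkMap y').hom :=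
    Ideal.map_mono (FibStalkDepth.map_maximalIdeal_le g (f' y'))
  exact ringKrullDim_le_of_surjective (Ideal.Quotient.factor hle)
    (Ideal.Quotient.factor_surjective hle)

theorem t14105 {X S S' : Scheme.{u}} (f : X ⟶ S) (g : S' ⟶ S)
    [IsLocallyNoetherian X] [IsLocallyNoetherian S] [IsLocallyNoetherian S']
    [IsLocallyNoetherian (pullback f g)] (Y : Set ↥X) (hY : IsClosed Y) :
    ((⨅ y : Y, ringKrullDim ↑(CInt.fiberStalk f y.1)) ≤
      ⨅ y' : (fun x' => (pullback.fst f g) x') ⁻¹' Y,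
        ringKrullDim ↑(CInt.fiberStalk (pullback.snd f g) y'.1)) ∧
    (Y ⊆ Set.range (pullback.fst f g).base →
      (⨅ y' : (fun x' => (pullback.fst f g) x') ⁻¹' Y,
        ringKrullDim ↑(CInt.fiberStalk (pullback.snd f g) y'.1)) =
        ⨅ y : Y, ringKrullDim ↑(CInt.fiberStalk f y.1)) := by
  have part1 : (⨅ y : Y, ringKrullDim ↑(CInt.fiberStalk f y.1)) ≤
      ⨅ y' : (fun x' => (pullback.fst f g) x') ⁻¹' Y,
        ringKrullDim ↑(CInt.fiberStalk (pullback.snd f g) y'.1) := by
    refine le_iInf fun y' => ?_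
    exact iInf_le_of_le ⟨(pullback.fst f g) y'.1, y'.2⟩
      (ringKrullDim_fiberStalk_le_baseChange f g y'.1)
  refine ⟨part1, fun hrange => le_antisymm ?_ part1⟩
  refine le_iInf fun y => ?_
  obtain ⟨y'₀, hy'₀⟩ := hrange y.2
  obtain ⟨y', hy', hdim⟩ := FibStalkComp.exists_fiberStalk_dim_zero (pullback.fst f g) y'₀
  have hy'y : (pullback.fst f g) y' = y.1 := hy'.trans hy'₀
  have hmem : y' ∈ (fun x' => (pullback.fst f g) x') ⁻¹' Y := by
    change (pullback.fst f g) y' ∈ Y
    rw [hy'y]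
    exact y.2
  refine iInf_le_of_le ⟨y', hmem⟩ ?_
  have h1 := ringKrullDim_fiberStalk_le_comp (pullback.snd f g) g y'
  have h2 := FibStalkComp.ringKrullDim_fiberStalk_comp_le f (pullback.fst f g) y'
  rw [hdim, add_zero, hy'y] at h2
  rw [← pullback.condition] at h1
  exact h1.trans h2

end T14105
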