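import Mathlib
import Groth.Prelude.Def_W4c6modpairsegaMP
import Groth.Agent.Lib.Helper23.IntClosEtale

set_option autoImplicit false
universe u
open CategoryTheory AlgebraicGeometry TopologicalSpace
open Groth.Agent.Lib.Helper23.IntClosEtale

namespace T15547

/-- germ of the pushforward presheaf `g_* O_Z` at `(U, x)` as a ring hom. -/
noncomputable def pg {Z X : Scheme.{u}} (g : Z ⟶ X) (U : X.Opens) (x : X) (hx : x ∈ U) :
    Γ(Z, g ⁻¹ᵁ U) →+* ((g.base _* Z.presheaf).stalk x) :=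
  ((g.base _* Z.presheaf).germ U x hx).hom

theorem pg_res {Z X : Scheme.{u}} (g : Z ⟶ X) {U U' : X.Opens} (h : U' ≤ U) (x : X) (hx : x ∈ U')
    (s : Γ(Z, g ⁻¹ᵁ U)) :
    pg g U' x hx (rs (g.preimage_mono h) s) = pg g U x (h hx) s := by
  exact TopCat.Presheaf.germ_res_apply (g.base _* Z.presheaf) (homOfLE h) x hx s

theorem pg_exists {Z X : Scheme.{u}} (g : Z ⟶ X) (x : X) {U : X.Opens} (hxU : x ∈ U)
    (c : (g.base _* Z.presheaf).stalk x) :
    ∃ (U' : X.Opens) (h : U' ≤ U) (hx : x ∈ U') (s : Γ(Z, g ⁻¹ᵁ U')), pg g U' x hx s = c := by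
  obtain ⟨U', h, hx, s, hs⟩ := TopCat.Presheaf.exists_le_germ_eq (g.base _* Z.presheaf) c hxU
  exact ⟨U', h, hx, s, hs⟩

theorem pg_eq {Z X : Scheme.{u}} (g : Z ⟶ X) (x : X) {U : X.Opens} (hxU : x ∈ U)
    (s t : Γ(Z, g ⁻¹ᵁ U)) (hst : pg g U x hxU s = pg g U x hxU t) :
    ∃ (W : X.Opens) (h : W ≤ U) (_ : x ∈ W),
      rs (g.preimage_mono h) s = rs (g.preimage_mono h) t := by
  obtain ⟨W, hxW, iU, iV, e⟩ := TopCat.Presheaf.germ_eq (g.base _* Z.presheaf) x hxU hxU s t hst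
  exact ⟨W, iU.le, hxW, e⟩

end T15547
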