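import Mathlib
import Groth.Agent.scratch.T15547a

set_option autoImplicit false
universe u
open CategoryTheory AlgebraicGeometry TopologicalSpace
open Groth.Agent.Lib.Helper23.IntClosEtale

namespace T15547

theorem mem_primeCompl_iff {X : Scheme.{u}} {U : X.Opens} (hU : IsAffineOpen U) (x : X)
    (hx : x ∈ U) (a : Γ(X, U)) :
    a ∈ (hU.primeIdealOf ⟨x, hx⟩).asIdeal.primeCompl ↔ x ∈ X.basicOpen a := by
  rw [Scheme.mem_basicOpen _ _ x hx, hU.primeIdealOf_eq_map_closedPoint]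
  change ¬ (X.presheaf.germ U x hx a ∈ IsLocalRing.maximalIdeal _) ↔ _
  rw [IsLocalRing.mem_maximalIdeal, mem_nonunits_iff, not_not]

theorem isUnit_rs_of_eq {Z : Scheme.{u}} {V O : Z.Opens} (b : Γ(Z, V)) (h : O ≤ V)
    (hO : O = Z.basicOpen b) : IsUnit (rs h b) := by
  subst hO
  exact RingedSpace.isUnit_res_basicOpen _ b

theorem exists_pow_mul_eq_rs {Z : Scheme.{u}} {V O : Z.Opens} (hV : IsAffineOpen V)
    (b : Γ(Z, V)) (h : O ≤ V) (hO : O = Z.basicOpen b) (s : Γ(Z, O)) :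
    ∃ (n : ℕ) (t : Γ(Z, V)), s * rs h b ^ n = rs h t := by
  subst hO
  haveI := hV.isLocalization_basicOpen b
  obtain ⟨⟨t, ⟨_, n, rfl⟩⟩, ht⟩ := IsLocalization.surj (Submonoid.powers b) s
  refine ⟨n, t, ?_⟩
  rw [← map_pow]
  exact ht

theorem exists_pow_mul_eq_of_rs_eq {Z : Scheme.{u}} {V O : Z.Opens} (hV : IsAffineOpen V)
    (b : Γ(Z, V)) (h : O ≤ V) (hO : O = Z.basicOpen b) (t t' : Γ(Z, V))
    (e : rs h t = rs h t') : ∃ n : ℕ, b ^ n * t = b ^ n * t' := by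
  subst hO
  haveI := hV.isLocalization_basicOpen b
  obtain ⟨⟨_, n, rfl⟩, hc⟩ := IsLocalization.exists_of_eq (M := Submonoid.powers b)
    (S := Γ(Z, Z.basicOpen b)) (x := t) (y := t') e
  exact ⟨n, hc⟩

end T15547
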