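import Mathlib
import Groth.Agent.scratch.T15547b

set_option autoImplicit false
universe u
open CategoryTheory AlgebraicGeometry TopologicalSpace
open Groth.Agent.Lib.Helper23.IntClosEtale

namespace T15547

theorem isLocalization_pushStalk {Z X : Scheme.{u}} (g : Z ⟶ X) [IsAffineHom g] {U : X.Opens}
    (hU : IsAffineOpen U) (x : X) (hx : x ∈ U) :
    @IsLocalization _ _
      (Submonoid.map (g.app U).hom (hU.primeIdealOf ⟨x, hx⟩).asIdeal.primeCompl)
      ((g.base _* Z.presheaf).stalk x) _ (pg g U x hx).toAlgebra := by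
  letI := (pg g U x hx).toAlgebra
  have hV : IsAffineOpen (g ⁻¹ᵁ U) := hU.preimage g
  have hpre : ∀ a : Γ(X, U), g ⁻¹ᵁ X.basicOpen a = Z.basicOpen ((g.app U).hom a) :=
    fun a => Scheme.preimage_basicOpen g a
  rw [isLocalization_iff]
  refine ⟨?_, ?_, ?_⟩
  · rintro ⟨_, a, ha, rfl⟩
    replace ha := (mem_primeCompl_iff hU x hx a).1 ha
    change IsUnit (pg g U x hx ((g.app U).hom a))
    rw [← pg_res g (X.basicOpen_le a) x ha]
    exact (isUnit_rs_of_eq _ _ (hpre a)).map _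
  · intro c
    obtain ⟨U', hU', hxU', s, rfl⟩ := pg_exists g x hx c
    obtain ⟨a, haU', hxa⟩ := hU.exists_basicOpen_le ⟨x, hxU'⟩ hx
    obtain ⟨n, t, ht⟩ := exists_pow_mul_eq_rs hV ((g.app U).hom a)
      (g.preimage_mono (X.basicOpen_le a)) (hpre a) (rs (g.preimage_mono haU') s)
    refine ⟨⟨t, ⟨((g.app U).hom a) ^ n, a ^ n, ?_, map_pow _ _ _⟩⟩, ?_⟩
    · exact Submonoid.pow_mem _ ((mem_primeCompl_iff hU x hx a).2 hxa) n
    · change pg g U' x hxU' s * pg g U x hx (((g.app U).hom a) ^ n) = pg g U x hx t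
      rw [← pg_res g (X.basicOpen_le a) x hxa, ← pg_res g (X.basicOpen_le a) x hxa t,
        ← pg_res g haU' x hxa s, ← map_mul, map_pow, ht]
  · intro t t' htt'
    obtain ⟨W, hW, hxW, e⟩ := pg_eq g x hx t t' htt'
    obtain ⟨a, haW, hxa⟩ := hU.exists_basicOpen_le ⟨x, hxW⟩ hx
    have e' : rs (g.preimage_mono (X.basicOpen_le a)) t =
        rs (g.preimage_mono (X.basicOpen_le a)) t' := by
      rw [← rs_rs (g.preimage_mono haW) (g.preimage_mono hW),
        ← rs_rs (g.preimage_mono haW) (g.preimage_mono hW), e]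
    obtain ⟨n, hn⟩ := exists_pow_mul_eq_of_rs_eq hV ((g.app U).hom a)
      (g.preimage_mono (X.basicOpen_le a)) (hpre a) t t' e'
    refine ⟨⟨((g.app U).hom a) ^ n, a ^ n, ?_, map_pow _ _ _⟩, hn⟩
    exact Submonoid.pow_mem _ ((mem_primeCompl_iff hU x hx a).2 hxa) n

end T15547
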