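import Mathlib
import Groth.Agent.scratch.T15547c

set_option autoImplicit false
universe u
open CategoryTheory AlgebraicGeometry TopologicalSpace
open Groth.Agent.Lib.Helper23.IntClosEtale

namespace T15547

/-- the canonical map `(g_* O_Z)_x → O_{Z,z}` for `g z = x`. -/
noncomputable abbrev phi {Z X : Scheme.{u}} (g : Z ⟶ X) (x : X) (z : Z) (hz : g.base z = x) :
    ((g.base _* Z.presheaf).stalk x) →+* (Z.presheaf.stalk z) :=
  (((g.base _* Z.presheaf).stalkCongr (Inseparable.of_eq hz)).inv ≫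
    TopCat.Presheaf.stalkPushforward CommRingCat g.base Z.presheaf z).hom

theorem phi_pg {Z X : Scheme.{u}} (g : Z ⟶ X) (x : X) (z : Z) (hz : g.base z = x) (U : X.Opens)
    (hx : x ∈ U) (b : Γ(Z, g ⁻¹ᵁ U)) :
    phi g x z hz (pg g U x hx b) =
      Z.presheaf.germ (g ⁻¹ᵁ U) z (show g.base z ∈ U from hz ▸ hx) b := by
  subst hz
  change ((g.base _* Z.presheaf).germ U (g.base z) hx ≫
    ((g.base _* Z.presheaf).stalkCongr (Inseparable.of_eq rfl)).inv ≫
    TopCat.Presheaf.stalkPushforward CommRingCat g.base Z.presheaf z).hom b = _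
  rw [TopCat.Presheaf.stalkCongr_inv, TopCat.Presheaf.germ_stalkSpecializes_assoc,
    TopCat.Presheaf.stalkPushforward_germ]

end T15547
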