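import Mathlib
import Groth.Agent.scratch.T15547d

set_option autoImplicit false
universe u
open CategoryTheory AlgebraicGeometry TopologicalSpace
open Groth.Agent.Lib.Helper23.IntClosEtale

namespace T15547

section alg

variable {A B C : Type*} [CommRing A] [CommRing B] [CommRing C] [Algebra A B] [Algebra B C]
  [Algebra.IsIntegral A B] (p : Ideal A) [p.IsPrime]
  [IsLocalization (Algebra.algebraMapSubmonoid B p.primeCompl) C]

include p in
theorem disjoint_of_comap_le (q : Ideal B) (hq : q.comap (algebraMap A B) ≤ p) :
    Disjoint (Algebra.algebraMapSubmonoid B p.primeCompl : Set B) (q : Set B) := by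
  rw [Set.disjoint_left]
  rintro _ ⟨a, ha, rfl⟩ haq
  exact ha (hq haq)

theorem comap_le_of_disjoint (q : Ideal B)
    (hq : Disjoint (Algebra.algebraMapSubmonoid B p.primeCompl : Set B) (q : Set B)) :
    q.comap (algebraMap A B) ≤ p := by
  intro a ha
  by_contra hap
  exact Set.disjoint_left.1 hq ⟨a, hap, rfl⟩ ha

/-- (a) primes over `p` give maximal ideals of the localization. -/
theorem isMaximal_map_of_comap_eq (q : Ideal B) [hqp : q.IsPrime]
    (hq : q.comap (algebraMap A B) = p) :
    (q.map (algebraMap B C)).IsMaximal ∧ (q.map (algebraMap B C)).comap (algebraMap B C) = q := by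
  have hd := disjoint_of_comap_le p q hq.le
  have hcm : (q.map (algebraMap B C)).comap (algebraMap B C) = q :=
    IsLocalization.under_map_of_isPrime_disjoint _ C hqp hd
  have hprime : (q.map (algebraMap B C)).IsPrime :=
    IsLocalization.isPrime_of_isPrime_disjoint _ C q hqp hd
  refine ⟨?_, hcm⟩
  obtain ⟨M', hM', hle⟩ := Ideal.exists_le_maximal _ hprime.ne_top
  have hM'prime : M'.IsPrime := hM'.isPrime
  have hd' : Disjoint (Algebra.algebraMapSubmonoid B p.primeCompl : Set B)
      ((M'.comap (algebraMap B C) : Ideal B) : Set B) :=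
    (IsLocalization.disjoint_under_iff (Algebra.algebraMapSubmonoid B p.primeCompl) C M').2
      hM'.ne_top
  have hqq' : q ≤ M'.comap (algebraMap B C) := by
    rw [← hcm]
    exact Ideal.comap_mono hle
  have hle' : (M'.comap (algebraMap B C)).comap (algebraMap A B) ≤ p :=
    comap_le_of_disjoint p _ hd'
  have heq : q = M'.comap (algebraMap B C) := by
    by_contra hne
    have hlt : q < M'.comap (algebraMap B C) := lt_of_le_of_ne hqq' hne
    have := Ideal.IsIntegral.comap_lt_comap (R := A) hlt
    rw [hq] at this
    exact absurd hle' (not_le_of_gt this)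
  have : M' = q.map (algebraMap B C) := by
    rw [heq]
    exact (IsLocalization.map_under (Algebra.algebraMapSubmonoid B p.primeCompl) C M').symm
  rw [← this]
  exact hM'

/-- (b) maximal ideals of the localization lie over `p`. -/
theorem comap_comap_eq_of_isMaximal (M : Ideal C) [hM : M.IsMaximal] :
    (M.comap (algebraMap B C)).comap (algebraMap A B) = p := by
  have hMprime : M.IsPrime := hM.isPrime
  have hd : Disjoint (Algebra.algebraMapSubmonoid B p.primeCompl : Set B)
      ((M.comap (algebraMap B C) : Ideal B) : Set B) :=
    (IsLocalization.disjoint_under_iff (Algebra.algebraMapSubmonoid B p.primeCompl) C M).2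
      hM.ne_top
  have hle := comap_le_of_disjoint p _ hd
  haveI : (M.comap (algebraMap B C)).IsPrime := Ideal.comap_isPrime _ _
  obtain ⟨q', hq'ge, hq'prime, hq'⟩ :=
    Ideal.exists_ideal_over_prime_of_isIntegral_of_isPrime p (M.comap (algebraMap B C)) hle
  have hd' := disjoint_of_comap_le p q' hq'.le
  have hprime' : (q'.map (algebraMap B C)).IsPrime :=
    IsLocalization.isPrime_of_isPrime_disjoint _ C q' hq'prime hd'
  have hMle : M ≤ q'.map (algebraMap B C) := by
    rw [← IsLocalization.map_under (Algebra.algebraMapSubmonoid B p.primeCompl) C M]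
    exact Ideal.map_mono hq'ge
  have hMeq : M = q'.map (algebraMap B C) := hM.eq_of_le hprime'.ne_top hMle
  have : M.comap (algebraMap B C) = q' := by
    rw [hMeq]
    exact IsLocalization.under_map_of_isPrime_disjoint _ C hq'prime hd'
  rw [this, hq']

end alg

end T15547
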