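import Mathlib
import Groth.Agent.scratch.T15547e

set_option autoImplicit false
universe u
open CategoryTheory AlgebraicGeometry TopologicalSpace
open Groth.Agent.Lib.Helper23.IntClosEtale

namespace T15547

theorem comap_primeIdealOf_app {Z X : Scheme.{u}} (g : Z ⟶ X) {U : X.Opens}
    (hU : IsAffineOpen U) (hV : IsAffineOpen (g ⁻¹ᵁ U)) (x : X) (hxU : x ∈ U) (z : Z)
    (hz : g.base z = x) :
    (hV.primeIdealOf ⟨z, show g.base z ∈ U from hz ▸ hxU⟩).asIdeal.comap (g.app U).hom =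
      (hU.primeIdealOf ⟨x, hxU⟩).asIdeal := by
  subst hz
  have h1 := IsAffineOpen.comap_primeIdealOf_appLE U hU (g ⁻¹ᵁ U) hV le_rfl (x := z) hxU
  have h2 := congrArg PrimeSpectrum.asIdeal h1
  rw [Scheme.Hom.appLE_eq_app] at h2
  exact h2

theorem comap_pg_comap_phi {Z X : Scheme.{u}} (g : Z ⟶ X) {U : X.Opens}
    (hV : IsAffineOpen (g ⁻¹ᵁ U)) (x : X) (hxU : x ∈ U) (z : Z) (hz : g.base z = x) :
    ((IsLocalRing.maximalIdeal (Z.presheaf.stalk z)).comap (phi g x z hz)).comap (pg g U x hxU) =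
      (hV.primeIdealOf ⟨z, show g.base z ∈ U from hz ▸ hxU⟩).asIdeal := by
  rw [hV.primeIdealOf_eq_map_closedPoint]
  ext b
  simp only [Ideal.mem_comap]
  rw [phi_pg]
  rfl

theorem primeIdealOf_injective {Z : Scheme.{u}} {V : Z.Opens} (hV : IsAffineOpen V) (z z' : V)
    (h : (hV.primeIdealOf z).asIdeal = (hV.primeIdealOf z').asIdeal) : z.1 = z'.1 := by
  have h1 : hV.primeIdealOf z = hV.primeIdealOf z' := PrimeSpectrum.ext h
  have h2 := congrArg (fun y => hV.fromSpec y) h1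
  simp only [hV.fromSpec_primeIdealOf] at h2
  exact h2

theorem exists_point_of_comap_eq {Z X : Scheme.{u}} (g : Z ⟶ X) {U : X.Opens}
    (hU : IsAffineOpen U) (hV : IsAffineOpen (g ⁻¹ᵁ U)) (x : X) (hxU : x ∈ U)
    (q : Ideal Γ(Z, g ⁻¹ᵁ U)) [hqp : q.IsPrime]
    (hq : q.comap (g.app U).hom = (hU.primeIdealOf ⟨x, hxU⟩).asIdeal) :
    ∃ (z : Z) (hz : g.base z = x),
      (hV.primeIdealOf ⟨z, show g.base z ∈ U from hz ▸ hxU⟩).asIdeal = q := by
  let y : PrimeSpectrum Γ(Z, g ⁻¹ᵁ U) := ⟨q, hqp⟩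
  obtain ⟨z', hz'⟩ : ∃ z' : (g ⁻¹ᵁ U : Z.Opens), hV.primeIdealOf z' = y := by
    refine ⟨hV.isoSpec.inv y, ?_⟩
    change hV.isoSpec.hom (hV.isoSpec.inv y) = y
    rw [← Scheme.Hom.comp_apply, Iso.inv_hom_id]
    rfl
  have hq' : (hV.primeIdealOf z').asIdeal = q := congrArg PrimeSpectrum.asIdeal hz'
  have hgz : g.base z'.1 = x := by
    have h1 := comap_primeIdealOf_app g hU hV (g.base z'.1) z'.2 z'.1 rfl
    have h2 : (hU.primeIdealOf ⟨g.base z'.1, z'.2⟩).asIdeal = (hU.primeIdealOf ⟨x, hxU⟩).asIdeal := by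
      rw [← h1, ← hq]
      exact congrArg (fun I => Ideal.comap (g.app U).hom I) hq'
    exact primeIdealOf_injective hU ⟨g.base z'.1, z'.2⟩ ⟨x, hxU⟩ h2
  exact ⟨z'.1, hgz, hq'⟩

end T15547
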