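import Mathlib
import Groth.Agent.scratch.T15547f

set_option autoImplicit false
universe u
open CategoryTheory AlgebraicGeometry TopologicalSpace
open Groth.Agent.Lib.Helper23.IntClosEtale

namespace T15547

theorem t15547 {Z X : Scheme.{u}} (g : Z ⟶ X)
    [IsFinite g] (x : X) :
    Set.BijOn (fun z : {z : Z // g.base z = x} =>
        Ideal.comap (((g.base _* Z.presheaf).stalkCongr (Inseparable.of_eq z.2)).inv ≫
            TopCat.Presheaf.stalkPushforward CommRingCat g.base Z.presheaf z.1).hom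
          (IsLocalRing.maximalIdeal (Z.presheaf.stalk z.1)))
      Set.univ {I : Ideal ((g.base _* Z.presheaf).stalk x) | I.IsMaximal} := by
  obtain ⟨U, hU, hxU⟩ : ∃ U : X.Opens, IsAffineOpen U ∧ x ∈ U := by
    obtain ⟨_, ⟨U, hU, rfl⟩, hxU, -⟩ :=
      (X.isBasis_affineOpens).exists_subset_of_mem_open (Set.mem_univ x) isOpen_univ
    exact ⟨U, hU, hxU⟩
  have hV : IsAffineOpen (g ⁻¹ᵁ U) := hU.preimage g
  letI algAB : Algebra Γ(X, U) Γ(Z, g ⁻¹ᵁ U) := (g.app U).hom.toAlgebra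
  letI algBC : Algebra Γ(Z, g ⁻¹ᵁ U) ((g.base _* Z.presheaf).stalk x) :=
    (pg g U x hxU).toAlgebra
  haveI : Algebra.IsIntegral Γ(X, U) Γ(Z, g ⁻¹ᵁ U) := ⟨(g.finite_app U hU).to_isIntegral⟩
  haveI hloc : IsLocalization
      (Algebra.algebraMapSubmonoid Γ(Z, g ⁻¹ᵁ U) (hU.primeIdealOf ⟨x, hxU⟩).asIdeal.primeCompl)
      ((g.base _* Z.presheaf).stalk x) := isLocalization_pushStalk g hU x hxU
  -- the ideal attached to z
  have hI : ∀ (z : Z) (hz : g.base z = x),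
      Ideal.comap (phi g x z hz) (IsLocalRing.maximalIdeal (Z.presheaf.stalk z)) =
        (hV.primeIdealOf ⟨z, show g.base z ∈ U from hz ▸ hxU⟩).asIdeal.map
          (algebraMap Γ(Z, g ⁻¹ᵁ U) ((g.base _* Z.presheaf).stalk x)) := by
    intro z hz
    rw [← comap_pg_comap_phi g hV x hxU z hz]
    exact (IsLocalization.map_under (Algebra.algebraMapSubmonoid Γ(Z, g ⁻¹ᵁ U)
      (hU.primeIdealOf ⟨x, hxU⟩).asIdeal.primeCompl) _ _).symm
  refine ⟨?_, ?_, ?_⟩
  · rintro ⟨z, hz⟩ -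
    change (Ideal.comap (phi g x z hz) (IsLocalRing.maximalIdeal (Z.presheaf.stalk z))).IsMaximal
    rw [hI z hz]
    exact (isMaximal_map_of_comap_eq (hU.primeIdealOf ⟨x, hxU⟩).asIdeal _
      (comap_primeIdealOf_app g hU hV x hxU z hz)).1
  · rintro ⟨z, hz⟩ - ⟨z', hz'⟩ - hzz'
    change Ideal.comap (phi g x z hz) (IsLocalRing.maximalIdeal (Z.presheaf.stalk z)) =
      Ideal.comap (phi g x z' hz') (IsLocalRing.maximalIdeal (Z.presheaf.stalk z')) at hzz'
    have h1 := congrArg (Ideal.comap (pg g U x hxU)) hzz'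
    rw [comap_pg_comap_phi g hV x hxU z hz, comap_pg_comap_phi g hV x hxU z' hz'] at h1
    exact Subtype.ext (primeIdealOf_injective hV _ _ h1)
  · intro M hM
    have hM' : M.IsMaximal := hM
    have hq := comap_comap_eq_of_isMaximal (A := Γ(X, U)) (B := Γ(Z, g ⁻¹ᵁ U))
      (hU.primeIdealOf ⟨x, hxU⟩).asIdeal M
    haveI : M.IsPrime := hM'.isPrime
    haveI : (M.comap (algebraMap Γ(Z, g ⁻¹ᵁ U) ((g.base _* Z.presheaf).stalk x))).IsPrime :=
      Ideal.comap_isPrime _ _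
    obtain ⟨z, hz, hzq⟩ := exists_point_of_comap_eq g hU hV x hxU _ hq
    refine ⟨⟨z, hz⟩, Set.mem_univ _, ?_⟩
    change Ideal.comap (phi g x z hz) (IsLocalRing.maximalIdeal (Z.presheaf.stalk z)) = M
    rw [hI z hz, hzq]
    exact IsLocalization.map_under (Algebra.algebraMapSubmonoid Γ(Z, g ⁻¹ᵁ U)
      (hU.primeIdealOf ⟨x, hxU⟩).asIdeal.primeCompl) _ _

end T15547
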