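import Groth.Statements.S15547
import Mathlib
import Groth.Agent.Lib.Helper23.FinFibreMax

set_option autoImplicit false
open CategoryTheory AlgebraicGeometry TopologicalSpace
open Coherent

namespace T15547

theorem t15547 {Z X : Scheme.{u}} (g : Z ⟶ X)
    [IsFinite g] (x : X) :
    Set.BijOn (fun z : {z : Z // g.base z = x} =>
        Ideal.comap (((g.base _* Z.presheaf).stalkCongr (Inseparable.of_eq z.2)).inv ≫
            TopCat.Presheaf.stalkPushforward CommRingCat g.base Z.presheaf z.1).hom
          (IsLocalRing.maximalIdeal (Z.presheaf.stalk z.1)))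
      Set.univ {I : Ideal ((g.base _* Z.presheaf).stalk x) | I.IsMaximal} := by
  exact Groth.Agent.Lib.Helper23.FinFibreMax.t15547 g x

end T15547
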