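import Mathlib
import Groth.Agent.Lib.Helper7.DimFT
import Groth.Agent.Lib.Helper6.FTPoints
import Groth.Agent.Lib.Helper14.SchemeDim

set_option autoImplicit false
universe u
open AlgebraicGeometry CategoryTheory CategoryTheory.Limits

namespace T15551

/-- the local ring at a closed point of an integral scheme locally of finite type over a field has the
dimension of any affine open containing it -/
theorem ringKrullDim_stalk_eq_of_isClosed (k : Type u) [Field k] (X : Scheme.{u}) [IsIntegral X]
    (f : X ⟶ Spec (CommRingCat.of k)) [LocallyOfFiniteType f] {U : X.Opens} (hU : IsAffineOpen U)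
    (w : X) (hwU : w ∈ U) (hw : IsClosed ({w} : Set X)) :
    ringKrullDim (X.presheaf.stalk w) = ringKrullDim Γ(X, U) := by
  haveI : Nonempty U := ⟨⟨w, hwU⟩⟩
  have hmax : (hU.primeIdealOf ⟨w, hwU⟩).asIdeal.IsMaximal := by
    rw [← Groth.Agent.Lib.Helper6.isClosed_singleton_iff_isMaximal hU w hwU]
    have : ({⟨w, hwU⟩} : Set ↥U) = Subtype.val ⁻¹' ({w} : Set X) := by
      ext y
      simp [Subtype.ext_iff]
    rw [this]
    exact hw.preimage continuous_subtype_val
  letI : Algebra Γ(X, U) (X.presheaf.stalk w) :=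
    TopCat.Presheaf.algebra_section_stalk X.presheaf ⟨w, hwU⟩
  haveI : IsLocalization.AtPrime (X.presheaf.stalk w) (hU.primeIdealOf ⟨w, hwU⟩).asIdeal :=
    hU.isLocalization_stalk ⟨w, hwU⟩
  rw [IsLocalization.AtPrime.ringKrullDim_eq_height (hU.primeIdealOf ⟨w, hwU⟩).asIdeal
    (X.presheaf.stalk w)]
  -- the `k`-algebra structure
  have hle : U ≤ f ⁻¹ᵁ ⊤ := le_top
  letI alg : Algebra k Γ(X, U) :=
    ((f.appLE ⊤ U hle).hom.comp (Scheme.ΓSpecIso (CommRingCat.of k)).inv.hom).toAlgebra
  haveI : Algebra.FiniteType k Γ(X, U) := by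
    have h1 : RingHom.FiniteType (f.appLE ⊤ U hle).hom :=
      HasRingHomProperty.appLE (P := @LocallyOfFiniteType) f inferInstance
        ⟨⊤, isAffineOpen_top _⟩ ⟨U, hU⟩ hle
    have h2 : RingHom.FiniteType
        ((f.appLE ⊤ U hle).hom.comp (Scheme.ΓSpecIso (CommRingCat.of k)).inv.hom) :=
      h1.comp (RingHom.FiniteType.of_surjective _
        (ConcreteCategory.bijective_of_isIso (Scheme.ΓSpecIso (CommRingCat.of k)).inv).2)
    exact h2
  exact Groth.Agent.Lib.Helper7.DimFT.height_eq_ringKrullDim_of_isMaximal k Γ(X, U) _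

end T15551
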