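import Mathlib
import Groth.Agent.scratch.T15551a

set_option autoImplicit false
universe u
open AlgebraicGeometry CategoryTheory CategoryTheory.Limits

namespace T15551

theorem ringKrullDim_stalk_eq_stalk_of_isClosed (k : Type u) [Field k] (X : Scheme.{u}) [IsIntegral X]
    (f : X ⟶ Spec (CommRingCat.of k)) [LocallyOfFiniteType f]
    (x x' : X) (hx : IsClosed ({x} : Set X)) (hx' : IsClosed ({x'} : Set X)) :
    ringKrullDim (X.presheaf.stalk x) = ringKrullDim (X.presheaf.stalk x') := by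
  obtain ⟨_, ⟨U, hU : IsAffineOpen U, rfl⟩, hxU, -⟩ :=
    X.isBasis_affineOpens.exists_subset_of_mem_open (Set.mem_univ x) isOpen_univ
  obtain ⟨_, ⟨U', hU' : IsAffineOpen U', rfl⟩, hxU', -⟩ :=
    X.isBasis_affineOpens.exists_subset_of_mem_open (Set.mem_univ x') isOpen_univ
  have := LocallyOfFiniteType.jacobsonSpace f
  have hne : ((U : Set X) ∩ (U' : Set X)).Nonempty :=
    nonempty_preirreducible_inter U.2 U'.2 ⟨x, hxU⟩ ⟨x', hxU'⟩
  obtain ⟨w, ⟨hwU, hwU'⟩, hwc⟩ :=
    nonempty_inter_closedPoints hne (U.2.inter U'.2).isLocallyClosed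
  have hw : IsClosed ({w} : Set X) := hwc
  rw [ringKrullDim_stalk_eq_of_isClosed k X f hU x hxU hx,
    ← ringKrullDim_stalk_eq_of_isClosed k X f hU w hwU hw,
    ringKrullDim_stalk_eq_of_isClosed k X f hU' w hwU' hw,
    ← ringKrullDim_stalk_eq_of_isClosed k X f hU' x' hxU' hx']

theorem ringKrullDim_stalk_eq_topologicalKrullDim (k : Type u) [Field k] (X : Scheme.{u})
    [IsIntegral X] (f : X ⟶ Spec (CommRingCat.of k)) [LocallyOfFiniteType f]
    (x : X) (hx : IsClosed ({x} : Set X)) :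
    ringKrullDim (X.presheaf.stalk x) = topologicalKrullDim X := by
  rw [Groth.Agent.Lib.Helper14.AS.topologicalKrullDim_eq_iSup_stalk]
  refine le_antisymm (le_iSup (fun z : X => ringKrullDim (X.presheaf.stalk z)) x) ?_
  refine iSup_le fun z => ?_
  have := LocallyOfFiniteType.jacobsonSpace f
  obtain ⟨z₀, hz₀, hz₀c⟩ := nonempty_inter_closedPoints
    (⟨z, subset_closure rfl⟩ : (closure ({z} : Set X)).Nonempty) isClosed_closure.isLocallyClosed
  have hspec : z ⤳ z₀ := specializes_iff_mem_closure.mpr hz₀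
  rw [← ringKrullDim_stalk_eq_stalk_of_isClosed k X f z₀ x hz₀c hx, ringKrullDim_stalk_eq_coheight,
    ringKrullDim_stalk_eq_coheight]
  exact WithBot.coe_le_coe.mpr (Order.coheight_anti hspec)

end T15551
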