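import Mathlib
import Groth.Prelude.Def_Pi1
import Groth.Agent.scratch.T15551b
import Groth.Agent.Lib.Helper25.GrpDim
import Groth.Agent.Lib.Helper24.EtaleNormal
import Groth.Agent.Lib.Helper18.SerreNormal

set_option autoImplicit false
universe u
open AlgebraicGeometry CategoryTheory CategoryTheory.Limits

namespace T15551

theorem two_le_depth_of_finite_etale (k : Type u) [Field k]
    (X : Scheme.{u}) (f : X ⟶ Spec (CommRingCat.of k)) [LocallyOfFiniteType f] [IsIntegral X]
    (hN : Pi1.IsNormalScheme X) (hdim : (2 : WithBot ℕ∞) ≤ topologicalKrullDim X)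
    {Y : Scheme.{u}} (g : Y ⟶ X) [IsFinite g] [Etale g] (y : Y) (hy : IsClosed ({y} : Set Y)) :
    2 ≤ LocCoh.depth (Y.presheaf.stalk y) (Y.presheaf.stalk y) := by
  have hx : IsClosed ({g.base y} : Set X) := by
    have := g.isClosedMap _ hy
    rwa [Set.image_singleton] at this
  have h1 := Groth.Agent.Lib.Helper25.GrpDim.ringKrullDim_stalk_eq_of_flat_integral g y
  have h2 := ringKrullDim_stalk_eq_topologicalKrullDim k X f (g.base y) hx
  have hd : (2 : WithBot ℕ∞) ≤ ringKrullDim (Y.presheaf.stalk y) := by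
    rw [h1, h2]; exact hdim
  obtain ⟨hdom, hic⟩ := Groth.Agent.Lib.Helper24.ENorm.stalk_of_etale (fun x => (hN x).2) g y
  haveI : IsLocallyNoetherian (Spec (CommRingCat.of k)) :=
    isLocallyNoetherian_Spec.mpr (inferInstanceAs (IsNoetherianRing k))
  haveI : IsLocallyNoetherian X := LocallyOfFiniteType.isLocallyNoetherian f
  haveI : IsLocallyNoetherian Y := LocallyOfFiniteType.isLocallyNoetherian g
  have h3 := Groth.Agent.Lib.Helper18.Serre.min_two_dim_le_depth_of_normal (Y.presheaf.stalk y)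
  have h4 : ((2 : ℕ) : WithBot ℕ∞) ≤
      ((LocCoh.depth (Y.presheaf.stalk y) (Y.presheaf.stalk y) : ℕ∞) : WithBot ℕ∞) :=
    le_trans (le_min le_rfl (by exact_mod_cast hd)) h3
  have h5 : (((2 : ℕ) : ℕ∞) : WithBot ℕ∞) ≤
      ((LocCoh.depth (Y.presheaf.stalk y) (Y.presheaf.stalk y) : ℕ∞) : WithBot ℕ∞) := h4
  exact_mod_cast WithBot.coe_le_coe.mp h5

end T15551
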