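import Mathlib
import Groth.Prelude.Def_Pi1
import Groth.Prelude.Def_FEt
import Groth.Agent.scratch.T15551c
import Groth.Agent.Lib.Lead.SD.AmpleConn
import Groth.Agent.Lib.Helper29.PullTensor
import Groth.Agent.Lib.Helper28.FlatPull2

set_option autoImplicit false
universe u
open AlgebraicGeometry CategoryTheory CategoryTheory.Limits

namespace T15551

/-- connectedness through an embedding -/
theorem connectedSpace_of_isEmbedding {P Y : Scheme.{u}} (h : P ⟶ Y)
    (hemb : Topology.IsEmbedding h) (hc : _root_.IsConnected (Set.range h)) :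
    ConnectedSpace P := by
  rw [connectedSpace_iff_univ]
  rw [← Set.image_univ] at hc
  refine ⟨?_, ?_⟩
  · exact Set.image_nonempty.mp hc.1
  · exact (hemb.isInducing.isPreconnected_image).mp hc.2

open Groth.Agent.Lib.Helper29.QCoh Groth.Agent.Lib.Helper29.AmpDiv
  Groth.Agent.Lib.Lead.SD.AmpleConn in
theorem main' (k : Type u) [Field k]
    (X : Scheme.{u}) (f : X ⟶ Spec (CommRingCat.of k)) [IsProper f] [IsIntegral X]
    (hN : Pi1.IsNormalScheme X) (hdim : (2 : WithBot ℕ∞) ≤ topologicalKrullDim X)
    (L : X.Modules) (hL : CohB1.IsAmple L) (s : Coh.structureModule X ⟶ L) (hs : Mono s)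
    {Y : Scheme.{u}} (g : Y ⟶ X) [IsFinite g] [Etale g] [ConnectedSpace Y] :
    ConnectedSpace ↥(pullback g (PicF2.zeroScheme L s).subschemeι) := by
  haveI : IsLocallyNoetherian (Spec (CommRingCat.of k)) :=
    isLocallyNoetherian_Spec.mpr (inferInstanceAs (IsNoetherianRing k))
  haveI : IsLocallyNoetherian X := LocallyOfFiniteType.isLocallyNoetherian f
  haveI : IsLocallyNoetherian Y := LocallyOfFiniteType.isLocallyNoetherian g
  letI : Y.Over (Spec (CommRingCat.of k)) := ⟨g ≫ f⟩
  haveI : IsProper (Y ↘ (Spec (CommRingCat.of k))) := by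
    change IsProper (g ≫ f)
    infer_instance
  haveI : CompactSpace X := hL.2.1
  haveI : CompactSpace Y := QuasiCompact.compactSpace_of_compactSpace g
  have hL' : CohB1.IsAmple ((Scheme.Modules.pullback g).obj L) :=
    isAmple_pullback_of_isAffineHom g hL
  have hs' : Mono (pullHom g s) := by
    haveI := Groth.Agent.Lib.Helper28.FlatPull.mono_pullback_map_of_flat g s
    unfold pullHom
    exact mono_comp _ _
  have hdepth : ∀ y : Y, IsClosed ({y} : Set Y) →
      2 ≤ LocCoh.depth (Y.presheaf.stalk y) (Y.presheaf.stalk y) :=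
    fun y hy => two_le_depth_of_finite_etale k X f hN hdim g y hy
  have hconn := connectedSpace_zeroScheme k Y ((Scheme.Modules.pullback g).obj L) hL'
    (pullHom g s) hs' hdepth
  rw [connectedSpace_subscheme_iff] at hconn
  -- supports
  have hsupp' := support_zeroScheme_eq hL'.1 (pullHom g s)
    (assPts_subset_genLocus_of_mono hL'.1 _ hs')
  have hsupp := support_zeroScheme_eq hL.1 s (assPts_subset_genLocus_of_mono hL.1 s hs)
  rw [hsupp', genLocus_pullHom g hL.1 s] at hconn
  apply connectedSpace_of_isEmbedding (pullback.fst g (PicF2.zeroScheme L s).subschemeι)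
    (pullback.fst g (PicF2.zeroScheme L s).subschemeι).isEmbedding
  rw [Scheme.Pullback.range_fst, (PicF2.zeroScheme L s).range_subschemeι, hsupp]
  exact hconn

theorem main (k : Type u) [Field k]
    (X : Scheme.{u}) (f : X ⟶ Spec (CommRingCat.of k)) [IsProper f] [IsIntegral X]
    (hN : Pi1.IsNormalScheme X) (hdim : (2 : WithBot ℕ∞) ≤ topologicalKrullDim X)
    (L : X.Modules) (hL : CohB1.IsAmple L) (s : Coh.structureModule X ⟶ L) (hs : Mono s)
    (Y : FEt.Cat X) [ConnectedSpace Y.left] :
    ConnectedSpace ↥(pullback Y.hom (PicF2.zeroScheme L s).subschemeι) := by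
  have hfin : IsFinite (Y.hom : Y.left ⟶ X) := Y.prop.1
  have het : Etale (Y.hom : Y.left ⟶ X) := Y.prop.2
  exact main' k X f hN hdim L hL s hs (Y := Y.left) Y.hom

end T15551
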