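import Mathlib

namespace T16254
universe u
open MvPolynomial

/-- Cauchy–Binet membership: `det (T * W)` lies in the ideal of column-minors of `T`. -/
theorem det_mul_mem {P : Type*} [CommRing P] {n r : ℕ}
    (T : Matrix (Fin r) (Fin n) P) (W : Matrix (Fin n) (Fin r) P) :
    (T * W).det ∈ Ideal.span (Set.range fun c : Fin r → Fin n =>
      (Matrix.of fun i j => T i (c j)).det) := by
  rw [← Matrix.det_transpose]
  have h1 : (T * W).transpose = Matrix.of (fun k : Fin r => ∑ l : Fin n, W l k • (fun i => T i l)) := by
    ext k i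
    simp [Matrix.mul_apply, mul_comm]
  rw [h1]
  change (Matrix.detRowAlternating (R := P) (n := Fin r)).toMultilinearMap
    (fun k : Fin r => ∑ l : Fin n, W l k • (fun i => T i l)) ∈ _
  rw [MultilinearMap.map_sum]
  refine Ideal.sum_mem _ fun c _ => ?_
  rw [MultilinearMap.map_smul_univ]
  refine Ideal.mul_mem_left _ _ (Ideal.subset_span ⟨c, ?_⟩)
  change _ = Matrix.det (Matrix.of fun k i => T i (c k))
  rw [← Matrix.det_transpose]
  rfl

end T16254
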