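import Mathlib
import Groth.Agent.scratch.T16254a

namespace T16254
universe u
open MvPolynomial

/-- A retraction matrix: `m * R = 1`. -/
theorem exists_retraction (A : Type u) [CommRing A] (N s : ℕ) (m : Fin s → (Fin (N + 1) → A))
    (hli : LinearIndependent A m)
    (hproj : Module.Projective A ((Fin (N + 1) → A) ⧸ Submodule.span A (Set.range m))) :
    ∃ R : Fin (N + 1) → Fin s → A, ∀ i k, ∑ j, m i j * R j k = if i = k then 1 else 0 := by
  classical
  obtain ⟨σ, hσ⟩ := Module.projective_lifting_property (Submodule.span A (Set.range m)).mkQ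
    LinearMap.id (Submodule.mkQ_surjective _)
  have hρ : ∀ x, x - σ ((Submodule.span A (Set.range m)).mkQ x) ∈ Submodule.span A (Set.range m) := by
    intro x
    have h0 : (Submodule.span A (Set.range m)).mkQ (x - σ ((Submodule.span A (Set.range m)).mkQ x)) = 0 := by
      rw [map_sub]
      have := LinearMap.congr_fun hσ ((Submodule.span A (Set.range m)).mkQ x)
      simp only [LinearMap.comp_apply, LinearMap.id_apply] at this
      rw [this, sub_self]
    exact (Submodule.Quotient.mk_eq_zero _).1 h0
  let ρ : (Fin (N + 1) → A) →ₗ[A] Submodule.span A (Set.range m) :=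
    LinearMap.codRestrict _ (LinearMap.id - σ.comp (Submodule.span A (Set.range m)).mkQ)
      (fun x => by simpa using hρ x)
  let r : (Fin (N + 1) → A) →ₗ[A] (Fin s →₀ A) := hli.repr.comp ρ
  have hr : ∀ i, r (m i) = Finsupp.single i 1 := by
    intro i
    have hmi : m i ∈ Submodule.span A (Set.range m) := Submodule.subset_span ⟨i, rfl⟩
    change hli.repr (ρ (m i)) = _
    apply hli.repr_eq_single i
    simp [ρ, (Submodule.Quotient.mk_eq_zero _).2 hmi]
  refine ⟨fun j k => r (Pi.single j 1) k, fun i k => ?_⟩
  have h2 : m i = ∑ j, m i j • (Pi.single j (1 : A) : Fin (N + 1) → A) := by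
    ext l
    simp [Finset.sum_apply, Pi.single_apply]
  have h3 := congrArg (fun v => r v k) h2
  simp only [hr, map_sum, map_smul, Finsupp.coe_finset_sum, Finsupp.coe_smul, Finset.sum_apply,
    Pi.smul_apply, smul_eq_mul] at h3
  rw [← h3, Finsupp.single_apply]
end T16254
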