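import Mathlib
import Groth.Agent.scratch.T16254b

namespace T16254
universe u
open MvPolynomial

section
variable (A : Type u) [CommRing A] (N s : ℕ) (m : Fin s → (Fin (N + 1) → A))

/-- the restriction map on symmetric algebras -/
noncomputable abbrev phi : MvPolynomial (Fin (N + 1)) A →ₐ[A] MvPolynomial (Fin s) A :=
  MvPolynomial.aeval (R := A) (S₁ := MvPolynomial (Fin s) A)
    (fun j : Fin (N + 1) => ∑ i : Fin s, MvPolynomial.C (m i j) * MvPolynomial.X i)

/-- the ideal of maximal minors -/
noncomputable abbrev minorIdeal : Ideal (MvPolynomial (Fin (N + 1)) A) :=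
  Ideal.span (Set.range fun c : Fin (s + 1) → Fin (N + 1) =>
    (Matrix.of fun (i : Fin (s + 1)) (j : Fin (s + 1)) =>
      (Fin.snoc (α := fun _ => MvPolynomial (Fin (N + 1)) A)
        (fun i' : Fin s => MvPolynomial.C (m i' (c j))) (MvPolynomial.X (c j)) i)).det)

theorem minor_mem_ker (c : Fin (s + 1) → Fin (N + 1)) :
    phi A N s m ((Matrix.of fun (i : Fin (s + 1)) (j : Fin (s + 1)) =>
      (Fin.snoc (α := fun _ => MvPolynomial (Fin (N + 1)) A)
        (fun i' : Fin s => MvPolynomial.C (m i' (c j))) (MvPolynomial.X (c j)) i)).det) = 0 := by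
  rw [AlgHom.map_det]
  set B := (phi A N s m).mapMatrix (Matrix.of fun (i : Fin (s + 1)) (j : Fin (s + 1)) =>
      (Fin.snoc (α := fun _ => MvPolynomial (Fin (N + 1)) A)
        (fun i' : Fin s => MvPolynomial.C (m i' (c j))) (MvPolynomial.X (c j)) i)) with hBdef
  set cf : Fin (s + 1) → MvPolynomial (Fin s) A :=
    Fin.snoc (α := fun _ => MvPolynomial (Fin s) A) (fun i => MvPolynomial.X i) 0 with hcf
  have hB : B = B.updateRow (Fin.last s) (∑ k, cf k • B k) := by
    refine Matrix.ext fun i j => ?_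
    refine Fin.lastCases ?_ (fun i' => ?_) i
    · rw [Matrix.updateRow_self, Finset.sum_apply, Fin.sum_univ_castSucc]
      simp only [hBdef, hcf, AlgHom.mapMatrix_apply, Matrix.map_apply, Matrix.of_apply,
        Fin.snoc_last, Fin.snoc_castSucc, Pi.smul_apply, smul_eq_mul, zero_mul, add_zero,
        MvPolynomial.aeval_X, MvPolynomial.aeval_C, MvPolynomial.algebraMap_eq]
      exact Finset.sum_congr rfl fun i _ => by ring
    · rw [Matrix.updateRow_ne (Fin.castSucc_lt_last i').ne]
  rw [hB, Matrix.det_updateRow_sum]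
  simp [hcf]

end
end T16254
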