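import Mathlib
import Groth.Agent.scratch.T16254c

namespace T16254
universe u
open MvPolynomial

section
variable (A : Type u) [CommRing A] (N s : ℕ) (m : Fin s → (Fin (N + 1) → A))

/-- the section of `phi` attached to a retraction matrix -/
noncomputable abbrev psi (R : Fin (N + 1) → Fin s → A) :
    MvPolynomial (Fin s) A →ₐ[A] MvPolynomial (Fin (N + 1)) A :=
  MvPolynomial.aeval (R := A) (S₁ := MvPolynomial (Fin (N + 1)) A)
    (fun k : Fin s => ∑ j : Fin (N + 1), MvPolynomial.C (R j k) * MvPolynomial.X j)

theorem sub_theta_mem (θ : MvPolynomial (Fin (N + 1)) A →ₐ[A] MvPolynomial (Fin (N + 1)) A)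
    (p : MvPolynomial (Fin (N + 1)) A) :
    p - θ p ∈ Ideal.span (Set.range fun j : Fin (N + 1) => (MvPolynomial.X j - θ (MvPolynomial.X j) :
      MvPolynomial (Fin (N + 1)) A)) := by
  set J := Ideal.span (Set.range fun j : Fin (N + 1) => (MvPolynomial.X j - θ (MvPolynomial.X j) :
      MvPolynomial (Fin (N + 1)) A)) with hJ
  have h : (Ideal.Quotient.mkₐ A J).comp θ = Ideal.Quotient.mkₐ A J := by
    refine MvPolynomial.algHom_ext fun j => ?_
    simp only [AlgHom.comp_apply, Ideal.Quotient.mkₐ_eq_mk]
    refine (Ideal.Quotient.eq.2 ?_).symm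
    exact Ideal.subset_span ⟨j, rfl⟩
  have h2 := AlgHom.congr_fun h p
  simp only [AlgHom.comp_apply, Ideal.Quotient.mkₐ_eq_mk] at h2
  exact Ideal.Quotient.eq.1 h2.symm

theorem X_sub_mem (R : Fin (N + 1) → Fin s → A)
    (hR : ∀ i k, ∑ j, m i j * R j k = if i = k then 1 else 0) (j : Fin (N + 1)) :
    (MvPolynomial.X j - (psi A N s R) (phi A N s m (MvPolynomial.X j)) :
      MvPolynomial (Fin (N + 1)) A) ∈ minorIdeal A N s m := by
  classical
  set T : Matrix (Fin (s + 1)) (Fin (N + 1)) (MvPolynomial (Fin (N + 1)) A) :=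
    Matrix.of fun i l => Fin.snoc (α := fun _ => MvPolynomial (Fin (N + 1)) A)
      (fun i' : Fin s => MvPolynomial.C (m i' l)) (MvPolynomial.X l) i with hT
  set W : Matrix (Fin (N + 1)) (Fin (s + 1)) (MvPolynomial (Fin (N + 1)) A) :=
    Matrix.of fun l k => Fin.snoc (α := fun _ => MvPolynomial (Fin (N + 1)) A)
      (fun k' : Fin s => MvPolynomial.C (R l k'))
      (MvPolynomial.C ((if l = j then 1 else 0) - ∑ i, R l i * m i j)) k with hW
  have hmem := det_mul_mem T W
  have hdet : (T * W).det = MvPolynomial.X j - (psi A N s R) (phi A N s m (MvPolynomial.X j)) := by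
    rw [Matrix.det_succ_column _ (Fin.last s), Fin.sum_univ_castSucc]
    have h0 : ∀ i' : Fin s, (T * W) (Fin.castSucc i') (Fin.last s) = 0 := by
      intro i'
      simp only [Matrix.mul_apply, hT, hW, Matrix.of_apply, Fin.snoc_castSucc, Fin.snoc_last]
      rw [← Finset.sum_congr rfl (fun l _ => (MvPolynomial.C_mul (σ := Fin (N + 1))
        (a := m i' l) (a' := (if l = j then 1 else 0) - ∑ i, R l i * m i j))), ← map_sum]
      have : ∑ l, m i' l * ((if l = j then 1 else 0) - ∑ i, R l i * m i j) = 0 := by
        simp only [mul_sub, Finset.sum_sub_distrib, Finset.mul_sum, mul_ite, mul_one, mul_zero,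
          Finset.sum_ite_eq', Finset.mem_univ, if_true]
        rw [Finset.sum_comm]
        have : ∀ i, ∑ l, m i' l * (R l i * m i j) = (if i' = i then 1 else 0) * m i j := by
          intro i
          rw [← hR i' i, Finset.sum_mul]
          exact Finset.sum_congr rfl fun l _ => by ring
        simp only [this, ite_mul, one_mul, zero_mul, Finset.sum_ite_eq, Finset.mem_univ, if_true,
          sub_self]
      rw [this, map_zero]
    have h1 : (T * W).submatrix (Fin.last s).succAbove (Fin.last s).succAbove = 1 := by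
      refine Matrix.ext fun a b => ?_
      simp only [Matrix.submatrix_apply, Fin.succAbove_last, Matrix.mul_apply, hT, hW,
        Matrix.of_apply, Fin.snoc_castSucc]
      rw [← Finset.sum_congr rfl (fun l _ => (MvPolynomial.C_mul (σ := Fin (N + 1))
        (a := m a l) (a' := R l b))), ← map_sum, hR, Matrix.one_apply]
      split_ifs <;> simp
    have h2 : (T * W) (Fin.last s) (Fin.last s) =
        MvPolynomial.X j - (psi A N s R) (phi A N s m (MvPolynomial.X j)) := by
      simp only [Matrix.mul_apply, hT, hW, Matrix.of_apply, Fin.snoc_last, map_sub, mul_sub,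
        Finset.sum_sub_distrib, MvPolynomial.aeval_X, map_sum, map_mul, MvPolynomial.aeval_C,
        MvPolynomial.algebraMap_eq]
      congr 1
      · simp [apply_ite, Finset.sum_ite_eq']
      · simp only [Finset.mul_sum]
        rw [Finset.sum_comm]
        exact Finset.sum_congr rfl fun i _ => Finset.sum_congr rfl fun l _ => by ring
    simp only [h0, mul_zero, zero_mul, Finset.sum_const_zero, zero_add, h1, Matrix.det_one,
      mul_one, h2]
    rw [← two_mul, pow_mul]
    simp
  rw [← hdet]
  exact hmem

end
end T16254
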