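import Mathlib
import Groth.Agent.scratch.T16254d

namespace T16254
universe u
open MvPolynomial

theorem t16254
    (A : Type u) [CommRing A] (N s : ℕ) (m : Fin s → (Fin (N + 1) → A))
    (hli : LinearIndependent A m)
    (hproj : Module.Projective A ((Fin (N + 1) → A) ⧸ Submodule.span A (Set.range m))) :
    RingHom.ker (MvPolynomial.aeval (R := A) (S₁ := MvPolynomial (Fin s) A)
        (fun j : Fin (N + 1) => ∑ i : Fin s, MvPolynomial.C (m i j) * MvPolynomial.X i)) =
      Ideal.span (Set.range fun c : Fin (s + 1) → Fin (N + 1) =>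
        (Matrix.of fun (i : Fin (s + 1)) (j : Fin (s + 1)) =>
          (Fin.snoc (α := fun _ => MvPolynomial (Fin (N + 1)) A)
            (fun i' : Fin s => MvPolynomial.C (m i' (c j))) (MvPolynomial.X (c j)) i)).det) := by
  obtain ⟨R, hR⟩ := exists_retraction A N s m hli hproj
  apply le_antisymm
  · intro p hp
    have hp0 : phi A N s m p = 0 := hp
    have h1 := sub_theta_mem A N ((psi A N s R).comp (phi A N s m)) p
    rw [AlgHom.comp_apply, hp0, map_zero, sub_zero] at h1
    refine (Ideal.span_le.2 ?_) h1
    rintro _ ⟨j, rfl⟩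
    exact X_sub_mem A N s m R hR j
  · refine Ideal.span_le.2 ?_
    rintro _ ⟨c, rfl⟩
    exact minor_mem_ker A N s m c

end T16254
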