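import Mathlib
import Groth.Agent.Lib.Helper23.MiracleFinReg

set_option autoImplicit false
universe u
open IsLocalRing AlgebraicGeometry CategoryTheory

namespace T16551

/-- going-down core: `Spec S → Spec R` is surjective for an injective, essentially integral local
homomorphism from a normal local domain to a local domain -/
theorem comap_surjective_of_ess_integral (R S : Type u) [CommRing R] [CommRing S]
    [IsDomain R] [IsIntegrallyClosed R] [IsDomain S] [IsLocalRing R] [IsLocalRing S]
    [Algebra R S] [IsLocalHom (algebraMap R S)]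
    (hinj : Function.Injective (algebraMap R S))
    (B : Type u) [CommRing B] (g : B →+* S) (hint : ∀ b, IsIntegral R (g b))
    (hsurj : ∀ z : S, ∃ b s : B, IsUnit (g s) ∧ z * g s = g b) :
    Function.Surjective (PrimeSpectrum.comap (algebraMap R S)) := by
  let D := Algebra.adjoin R (Set.range g)
  haveI : Algebra.IsIntegral R D :=
    Algebra.IsIntegral.adjoin (by rintro _ ⟨b, rfl⟩; exact hint b)
  have hs : ∀ z : S, ∃ b s : D, IsUnit (s : S) ∧ z * (s : S) = (b : S) := by
    intro z
    obtain ⟨b, s, hs, hz⟩ := hsurj z
    exact ⟨⟨g b, Algebra.subset_adjoin ⟨b, rfl⟩⟩, ⟨g s, Algebra.subset_adjoin ⟨s, rfl⟩⟩, hs, hz⟩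
  haveI hloc : IsLocalization.AtPrime S ((maximalIdeal S).comap (algebraMap D S)) :=
    Groth.Agent.Lib.Helper23.MiracleFinReg.isLocalization_subalgebra R S D hs
  haveI : FaithfulSMul R D := by
    rw [faithfulSMul_iff_algebraMap_injective]
    intro a b hab
    apply hinj
    have := congrArg (algebraMap D S) hab
    rwa [← IsScalarTower.algebraMap_apply, ← IsScalarTower.algebraMap_apply] at this
  haveI h1 : Algebra.HasGoingDown R D := inferInstance
  haveI : Module.Flat D S :=
    IsLocalization.flat S ((maximalIdeal S).comap (algebraMap D S)).primeCompl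
  haveI h2 : Algebra.HasGoingDown D S := inferInstance
  haveI h3 : Algebra.HasGoingDown R S := Algebra.HasGoingDown.trans R D S
  have hgen := Algebra.HasGoingDown.iff_generalizingMap_primeSpectrumComap.mp h3
  intro p
  have h4 : p ⤳ PrimeSpectrum.comap (algebraMap R S) (closedPoint S) := by
    rw [IsLocalRing.comap_closedPoint]
    exact IsLocalRing.specializes_closedPoint p
  obtain ⟨q, -, hq⟩ := hgen h4
  exact ⟨q, hq⟩

end T16551
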