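import Groth.Agent.scratch.T16551a

set_option autoImplicit false
universe u
open IsLocalRing AlgebraicGeometry CategoryTheory

namespace T16551

/-- going-down for a finite surjective morphism of integral schemes onto a normal scheme -/
theorem exists_generization {W Z : Scheme.{u}} (ψ : W ⟶ Z) [IsFinite ψ] [IsIntegral W]
    [IsIntegral Z] [Surjective ψ]
    (hZn : ∀ z : Z, IsDomain (Z.presheaf.stalk z) ∧ IsIntegrallyClosed (Z.presheaf.stalk z))
    (w : W) (η : Z) (h : η ⤳ ψ.base w) : ∃ w' : W, w' ⤳ w ∧ ψ.base w' = η := by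
  obtain ⟨_, ⟨V, hV : IsAffineOpen V, rfl⟩, hyV, -⟩ :=
    Z.isBasis_affineOpens.exists_subset_of_mem_open (Set.mem_univ (ψ.base w)) isOpen_univ
  have hU : IsAffineOpen (ψ ⁻¹ᵁ V) := hV.preimage ψ
  have hxU : w ∈ ψ ⁻¹ᵁ V := hyV
  haveI := (hZn (ψ.base w)).1
  haveI := (hZn (ψ.base w)).2
  letI : Algebra (Z.presheaf.stalk (ψ.base w)) (W.presheaf.stalk w) :=
    (ψ.stalkMap w).hom.toAlgebra
  haveI : IsLocalHom (algebraMap (Z.presheaf.stalk (ψ.base w)) (W.presheaf.stalk w)) :=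
    inferInstanceAs (IsLocalHom (ψ.stalkMap w).hom)
  have hdom : ∀ Z' ∈ irreducibleComponents (W : Type u),
      closure (ψ.base '' Z') ∈ irreducibleComponents (Z : Type u) := by
    intro Z' hZ'
    rw [irreducibleComponents_eq_singleton, Set.mem_singleton_iff] at hZ'
    rw [hZ', Set.image_univ, (ψ.surjective.denseRange).closure_range,
      irreducibleComponents_eq_singleton]
    rfl
  have hinj : Function.Injective (algebraMap (Z.presheaf.stalk (ψ.base w)) (W.presheaf.stalk w)) :=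
    Groth.Agent.Lib.Helper23.MiracleFinReg.stalkMap_injective ψ (fun y => (hZn y).1) hdom w
  have hsurj := comap_surjective_of_ess_integral (Z.presheaf.stalk (ψ.base w)) (W.presheaf.stalk w)
    hinj Γ(W, ψ ⁻¹ᵁ V) (W.presheaf.germ (ψ ⁻¹ᵁ V) w hxU).hom ?_ ?_
  · have hη : η ∈ Set.range (Z.fromSpecStalk (ψ.base w)) := by
      rw [Scheme.range_fromSpecStalk]
      exact h
    obtain ⟨p, rfl⟩ := hη
    obtain ⟨q, rfl⟩ := hsurj p
    refine ⟨W.fromSpecStalk w q, ?_, ?_⟩
    · have : W.fromSpecStalk w q ∈ Set.range (W.fromSpecStalk w) := ⟨q, rfl⟩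
      rw [Scheme.range_fromSpecStalk] at this
      exact this
    · have h1 := Scheme.SpecMap_stalkMap_fromSpecStalk ψ (x := w)
      have h2 := congrArg (fun φ => φ.base q) h1
      exact h2.symm
  · intro b
    obtain ⟨p, hpm, hp⟩ := (IsIntegralHom.isIntegral_app ψ V hV) b
    refine ⟨p.map (Z.presheaf.germ V (ψ.base w) hyV).hom, hpm.map _, ?_⟩
    rw [Polynomial.eval₂_map]
    have hcomp : (algebraMap (Z.presheaf.stalk (ψ.base w)) (W.presheaf.stalk w)).comp
        (Z.presheaf.germ V (ψ.base w) hyV).hom =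
        (W.presheaf.germ (ψ ⁻¹ᵁ V) w hxU).hom.comp (ψ.app V).hom := by
      ext a
      exact Scheme.Hom.germ_stalkMap_apply ψ V w hyV a
    rw [hcomp, ← Polynomial.hom_eval₂, hp, map_zero]
  · intro z
    letI : Algebra Γ(W, ψ ⁻¹ᵁ V) (W.presheaf.stalk w) :=
      TopCat.Presheaf.algebra_section_stalk W.presheaf ⟨w, hxU⟩
    haveI hloc := hU.isLocalization_stalk ⟨w, hxU⟩
    obtain ⟨⟨b, s⟩, hbs⟩ := IsLocalization.surj (hU.primeIdealOf ⟨w, hxU⟩).asIdeal.primeCompl z
    exact ⟨b, s.1, IsLocalization.map_units (W.presheaf.stalk w) s, hbs⟩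

end T16551
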