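import Groth.Agent.scratch.T16551b

set_option autoImplicit false
universe u
open IsLocalRing AlgebraicGeometry CategoryTheory

namespace T16551

theorem isClosed_of_maximal {α : Type*} [TopologicalSpace α] (F : Set α) (hF : IsClosed F)
    (Δ : Set α) (hΔ : Maximal (fun S : Set α => IsIrreducible S ∧ S ⊆ F) Δ) : IsClosed Δ := by
  rw [← closure_eq_iff_isClosed]
  exact (hΔ.le_of_ge ⟨hΔ.prop.1.closure, (hF.closure_subset_iff).2 hΔ.prop.2⟩ subset_closure).antisymm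
    subset_closure

theorem exists_maximal_ge {α : Type*} [TopologicalSpace α] (F : Set α)
    (T : Set α) (hT : IsIrreducible T) (hTF : T ⊆ F) :
    ∃ Γ, Maximal (fun S : Set α => IsIrreducible S ∧ S ⊆ F) Γ ∧ T ⊆ Γ := by
  obtain ⟨m, hsm, hm⟩ :=
    zorn_subset_nonempty { t : Set α | IsPreirreducible t ∧ t ⊆ F }
      (fun c hc hcc _ =>
        ⟨⋃₀ c, ⟨fun u v hu hv ⟨y, hy, hyu⟩ ⟨x, hx, hxv⟩ =>
          let ⟨p, hpc, hyp⟩ := Set.mem_sUnion.1 hy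
          let ⟨q, hqc, hxq⟩ := Set.mem_sUnion.1 hx
          Or.casesOn (hcc.total hpc hqc)
            (fun hpq : p ⊆ q =>
              let ⟨x, hxp, hxuv⟩ := (hc hqc).1 u v hu hv ⟨y, hpq hyp, hyu⟩ ⟨x, hxq, hxv⟩
              ⟨x, Set.mem_sUnion_of_mem hxp hqc, hxuv⟩)
            fun hqp : q ⊆ p =>
            let ⟨x, hxp, hxuv⟩ := (hc hpc).1 u v hu hv ⟨y, hyp, hyu⟩ ⟨x, hqp hxq, hxv⟩
            ⟨x, Set.mem_sUnion_of_mem hxp hpc, hxuv⟩,
          Set.sUnion_subset fun t ht => (hc ht).2⟩,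
          fun _ hxc => Set.subset_sUnion_of_mem hxc⟩)
      T ⟨hT.isPreirreducible, hTF⟩
  have hmne : m.Nonempty := hT.nonempty.mono hsm
  refine ⟨m, ⟨⟨⟨hmne, hm.prop.1⟩, hm.prop.2⟩, ?_⟩, hsm⟩
  intro S hS hmS
  exact hm.le_of_ge ⟨hS.1.isPreirreducible, hS.2⟩ hmS

theorem topo {α β : Type*} [TopologicalSpace α] [TopologicalSpace β] [QuasiSober β]
    (f : α → β) (hf : Continuous f) (hcl : IsClosedMap f) (F : Set β) (hF : IsClosed F)
    (hgd : ∀ (w : α) (η : β), η ⤳ f w → ∃ w', w' ⤳ w ∧ f w' = η)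
    (Δ : Set β) (hΔ : Maximal (fun S : Set β => IsIrreducible S ∧ S ⊆ F) Δ) (w : α)
    (hw : f w ∈ Δ) :
    ∃ Γ, Maximal (fun S : Set α => IsIrreducible S ∧ S ⊆ f ⁻¹' F) Γ ∧ w ∈ Γ ∧ f '' Γ = Δ := by
  have hΔc : IsClosed Δ := isClosed_of_maximal F hF Δ hΔ
  obtain ⟨η, hη⟩ := QuasiSober.sober hΔ.prop.1 hΔc
  have hηw : η ⤳ f w := by
    rw [specializes_iff_mem_closure, hη.def]
    exact hw
  obtain ⟨w', hw'w, hw'η⟩ := hgd w η hηw
  have hηΔ : η ∈ Δ := by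
    rw [← hη.def]
    exact subset_closure rfl
  have hFc : IsClosed (f ⁻¹' F) := hF.preimage hf
  have hw'F : w' ∈ f ⁻¹' F := by
    change f w' ∈ F
    rw [hw'η]
    exact hΔ.prop.2 hηΔ
  obtain ⟨Γ, hΓ, hΓ'⟩ := exists_maximal_ge (f ⁻¹' F) (closure {w'})
    isIrreducible_singleton.closure
    ((hFc.closure_subset_iff).2 (Set.singleton_subset_iff.2 hw'F))
  have hΓc : IsClosed Γ := isClosed_of_maximal _ hFc Γ hΓ
  refine ⟨Γ, hΓ, hΓ' (specializes_iff_mem_closure.1 hw'w), ?_⟩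
  have himc : IsClosed (f '' Γ) := hcl Γ hΓc
  have him : IsIrreducible (f '' Γ) := hΓ.prop.1.image f hf.continuousOn
  have himF : f '' Γ ⊆ F := by
    rintro _ ⟨x, hx, rfl⟩
    exact hΓ.prop.2 hx
  have hsub : Δ ⊆ f '' Γ := by
    rw [← hη.def]
    apply (himc.closure_subset_iff).2
    rw [Set.singleton_subset_iff, ← hw'η]
    exact ⟨w', hΓ' (subset_closure rfl), rfl⟩
  exact (hΔ.le_of_ge ⟨him, himF⟩ hsub).antisymm hsub

end T16551
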