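import Groth.Agent.scratch.T16551c
import Groth.Prelude.Def_ModelsG
import Groth.Prelude.Def_Pi1

set_option autoImplicit false
universe u
open CategoryTheory CategoryTheory.Limits AlgebraicGeometry TopologicalSpace

namespace T16551

theorem t16551
    (R : Type u) [CommRing R] [IsDomain R] [IsDiscreteValuationRing R]
    (W Z : Over (Spec (CommRingCat.of R))) [IsIntegral W.left] [IsIntegral Z.left]
    (hWn : Pi1.IsNormalScheme W.left) (hZn : Pi1.IsNormalScheme Z.left)
    [Flat W.hom] [LocallyOfFiniteType W.hom] [QuasiCompact W.hom]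
    [Flat Z.hom] [LocallyOfFiniteType Z.hom] [QuasiCompact Z.hom]
    (hdW : topologicalKrullDim W.left = 2) (hdZ : topologicalKrullDim Z.left = 2)
    (ψ : W ⟶ Z) [IsFinite ψ.left] [Surjective ψ.left]
    (z : Z.left) (hzc : IsClosed ({z} : Set Z.left)) (hz : z ∈ Models.specialFibreSet R Z)
    (w : W.left) (hw : ψ.left.base w = z)
    (Δ : Set Z.left) (hΔ : Δ ∈ Models.fibreComponents R Z) (hzΔ : z ∈ Δ) :
    ∃ Γ ∈ Models.fibreComponents R W, w ∈ Γ ∧ ψ.left.base '' Γ = Δ := by
  have hFW : Models.specialFibreSet R W = ψ.left.base ⁻¹' (Models.specialFibreSet R Z) := by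
    unfold Models.specialFibreSet
    rw [← Set.preimage_comp, ← Over.w ψ]
    rfl
  obtain ⟨Γ, hΓ, hwΓ, hΓΔ⟩ := topo (ψ.left.base) ψ.left.continuous ψ.left.isClosedMap
    (Models.specialFibreSet R Z) (Models.isClosed_specialFibreSet R Z)
    (exists_generization ψ.left hZn) Δ hΔ w (by rw [hw]; exact hzΔ)
  refine ⟨Γ, ?_, hwΓ, hΓΔ⟩
  change Maximal (fun S : Set W.left => IsIrreducible S ∧ S ⊆ Models.specialFibreSet R W) Γ
  rw [hFW]
  exact hΓ

end T16551
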