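import Mathlib
import Groth.Prelude.Def_W4c6modpairsegaMP
import Groth.Agent.Lib.Helper23.FinFibreMax

set_option autoImplicit false
universe u
open CategoryTheory AlgebraicGeometry TopologicalSpace

namespace T16917

/-- ACC above a given member in a family of irreducible closed subsets of a locally Noetherian
scheme: every member lies below a maximal member. -/
theorem exists_maximal_ge {X : Scheme.{u}} [IsLocallyNoetherian X] (𝒞 : Set (Closeds X))
    (h𝒞 : ∀ T ∈ 𝒞, IsIrreducible (T : Set X)) (T₀ : Closeds X) (hT₀ : T₀ ∈ 𝒞) :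
    ∃ T ∈ 𝒞, T₀ ≤ T ∧ ∀ T' ∈ 𝒞, T ≤ T' → T' = T := by
  classical
  obtain ⟨η₀, hη₀⟩ : ∃ η₀, IsGenericPoint η₀ (T₀ : Set X) :=
    QuasiSober.sober (h𝒞 T₀ hT₀) T₀.isClosed
  obtain ⟨_, ⟨U, hU, rfl⟩, hη₀U, -⟩ :=
    X.isBasis_affineOpens.exists_subset_of_mem_open (Set.mem_univ η₀) isOpen_univ
  have hUaff : IsAffineOpen U := hU
  haveI : IsNoetherianRing Γ(X, U) := IsLocallyNoetherian.component_noetherian ⟨U, hU⟩
  let P : Set U := {y | ∃ T ∈ 𝒞, T₀ ≤ T ∧ IsGenericPoint y.1 (T : Set X)}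
  have hPne : P.Nonempty := ⟨⟨η₀, hη₀U⟩, T₀, hT₀, le_rfl, hη₀⟩
  let ht : U → ℕ∞ := fun y => (hUaff.primeIdealOf y).asIdeal.height
  obtain ⟨y, hyP, hymin⟩ := (InvImage.wf ht wellFounded_lt).has_min P hPne
  obtain ⟨T, hT𝒞, hT₀T, hyT⟩ := hyP
  refine ⟨T, hT𝒞, hT₀T, ?_⟩
  intro T' hT'𝒞 hTT'
  by_contra hne
  obtain ⟨η', hη'⟩ : ∃ η', IsGenericPoint η' (T' : Set X) :=
    QuasiSober.sober (h𝒞 T' hT'𝒞) T'.isClosed
  have hspec : η' ⤳ y.1 := by
    rw [specializes_iff_mem_closure, hη'.def]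
    exact hTT' hyT.mem
  have hη'U : η' ∈ U := hspec.mem_open U.isOpen y.2
  have hy'P : (⟨η', hη'U⟩ : U) ∈ P := ⟨T', hT'𝒞, hT₀T.trans hTT', hη'⟩
  apply hymin ⟨η', hη'U⟩ hy'P
  change (hUaff.primeIdealOf ⟨η', hη'U⟩).asIdeal.height < (hUaff.primeIdealOf y).asIdeal.height
  have hle : hUaff.primeIdealOf ⟨η', hη'U⟩ ≤ hUaff.primeIdealOf y := by
    rw [PrimeSpectrum.le_iff_specializes]
    have h1 : (⟨η', hη'U⟩ : U) ⤳ y := by
      rw [← Topology.IsInducing.subtypeVal.specializes_iff]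
      exact hspec
    exact h1.map (hUaff.isoSpec.hom.continuous)
  have hneq : hUaff.primeIdealOf ⟨η', hη'U⟩ ≠ hUaff.primeIdealOf y := by
    intro heq
    have h2 := Groth.Agent.Lib.Helper23.FinFibreMax.primeIdealOf_injective hUaff
      ⟨η', hη'U⟩ y (congrArg PrimeSpectrum.asIdeal heq)
    apply hne
    apply SetLike.coe_injective
    rw [← hη'.def, ← hyT.def]
    exact congrArg (fun z => closure {z}) h2
  have hlt : (hUaff.primeIdealOf ⟨η', hη'U⟩).asIdeal < (hUaff.primeIdealOf y).asIdeal :=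
    lt_of_le_of_ne hle (fun h => hneq (PrimeSpectrum.ext h))
  exact Ideal.height_strict_mono_of_isPrime_of_isPrime hlt

end T16917
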