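import Mathlib
import Groth.Agent.Lib.Helper28.UncountableNss
import Groth.Agent.scratch.T16917a

set_option autoImplicit false
universe u
open CategoryTheory AlgebraicGeometry TopologicalSpace

namespace T16917

/-- An irreducible closed subset of a finite type scheme over an uncountable algebraically
closed field whose closed points are covered by countably many closed subsets is contained in
one of them. -/
theorem exists_le_of_closedPoints (k : Type u) [Field k] [IsAlgClosed k] [Uncountable k]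
    (X : Scheme.{u}) (sX : X ⟶ Spec (CommRingCat.of k)) [LocallyOfFiniteType sX]
    (T : Closeds X) (hT : IsIrreducible (T : Set X)) (T' : ℕ → Closeds X)
    (h : ∀ x : X, IsClosed ({x} : Set X) → x ∈ T → ∃ n, x ∈ T' n) : ∃ n, T ≤ T' n := by
  classical
  by_contra hcon
  push_neg at hcon
  have hJac : JacobsonSpace X := LocallyOfFiniteType.jacobsonSpace sX
  obtain ⟨η, hη⟩ : ∃ η, IsGenericPoint η (T : Set X) := QuasiSober.sober hT T.isClosed
  have hηT' : ∀ n, η ∉ T' n := by
    intro n hn
    apply hcon n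
    intro x hx
    have : x ∈ closure ({η} : Set X) := hη.def ▸ hx
    exact (closure_minimal (Set.singleton_subset_iff.mpr hn) (T' n).isClosed) this
  obtain ⟨_, ⟨U, hU, rfl⟩, hηU, -⟩ :=
    X.isBasis_affineOpens.exists_subset_of_mem_open (Set.mem_univ η) isOpen_univ
  have hUaff : IsAffineOpen U := hU
  let φ₀ : k →+* Γ(X, U) :=
    (sX.appLE ⊤ U (by simp)).hom.comp (Scheme.ΓSpecIso (CommRingCat.of k)).inv.hom
  let _ : Algebra k Γ(X, U) := φ₀.toAlgebra
  have hft : Algebra.FiniteType k Γ(X, U) := by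
    have h1 : (sX.appLE ⊤ U (by simp)).hom.FiniteType :=
      sX.finiteType_appLE (isAffineOpen_top _) hUaff _
    have h2 : ((Scheme.ΓSpecIso (CommRingCat.of k)).inv.hom).FiniteType :=
      RingHom.FiniteType.of_surjective _
        (ConcreteCategory.bijective_of_isIso (Scheme.ΓSpecIso (CommRingCat.of k)).inv).2
    exact h1.comp h2
  have hjemb : Topology.IsOpenEmbedding hUaff.fromSpec := hUaff.fromSpec.isOpenEmbedding
  have hjrange : Set.range hUaff.fromSpec = U := hUaff.range_fromSpec
  obtain ⟨y₀, hy₀⟩ : ∃ y₀ : PrimeSpectrum Γ(X, U), hUaff.fromSpec y₀ = η := by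
    have : η ∈ Set.range hUaff.fromSpec := hjrange ▸ hηU
    exact this
  -- choose the functions
  have hex : ∀ n, ∃ f : Γ(X, U), f ∉ y₀.asIdeal ∧
      ∀ q : PrimeSpectrum Γ(X, U), f ∉ q.asIdeal → hUaff.fromSpec q ∉ T' n := by
    intro n
    set W : Set (PrimeSpectrum Γ(X, U)) := hUaff.fromSpec ⁻¹' (T' n : Set X) with hW
    have hWcl : IsClosed W := (T' n).isClosed.preimage hjemb.continuous
    have hp : y₀ ∉ W := fun hy => hηT' n (hy₀ ▸ hy)
    have hWz : W = PrimeSpectrum.zeroLocus (PrimeSpectrum.vanishingIdeal W : Set Γ(X, U)) := by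
      rw [PrimeSpectrum.zeroLocus_vanishingIdeal_eq_closure, hWcl.closure_eq]
    rw [hWz, PrimeSpectrum.mem_zeroLocus, Set.not_subset] at hp
    obtain ⟨f, hfW, hfp⟩ := hp
    refine ⟨f, hfp, fun q hq hqZ => hq ?_⟩
    exact (PrimeSpectrum.mem_vanishingIdeal W f).mp hfW q hqZ
  choose f hf1 hf2 using hex
  -- the quotient domain
  let R := Γ(X, U) ⧸ y₀.asIdeal
  haveI : IsDomain R := Ideal.Quotient.isDomain _
  haveI : Algebra.FiniteType k R :=
    Algebra.FiniteType.of_surjective (Ideal.Quotient.mkₐ k y₀.asIdeal)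
      (Ideal.Quotient.mkₐ_surjective k y₀.asIdeal)
  have hnil : nilradical R = ⊥ := nilradical_eq_zero R
  have hprime : (nilradical R).IsPrime := hnil ▸ Ideal.isPrime_bot
  have hfbar : ∀ n, Ideal.Quotient.mk y₀.asIdeal (f n) ∉ nilradical R := by
    intro n hn
    rw [hnil, Ideal.mem_bot, Ideal.Quotient.eq_zero_iff_mem] at hn
    exact hf1 n hn
  obtain ⟨mbar, hmbar, hfm⟩ := Groth.Agent.Lib.Helper28.exists_maximal_not_mem (k := k) hprime
    (fun n => Ideal.Quotient.mk y₀.asIdeal (f n)) hfbar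
  let m : Ideal Γ(X, U) := mbar.comap (Ideal.Quotient.mk y₀.asIdeal)
  have hm : m.IsMaximal := Ideal.comap_isMaximal_of_surjective _ Ideal.Quotient.mk_surjective
  have hpm : y₀.asIdeal ≤ m := by
    intro a ha
    change Ideal.Quotient.mk y₀.asIdeal a ∈ mbar
    rw [Ideal.Quotient.eq_zero_iff_mem.mpr ha]
    exact mbar.zero_mem
  let y : PrimeSpectrum Γ(X, U) := ⟨m, hm.isPrime⟩
  have hxcl : IsClosed ({hUaff.fromSpec y} : Set X) := by
    apply isClosed_singleton_of_isLocallyClosed_singleton
    have hycl : IsClosed ({y} : Set (PrimeSpectrum Γ(X, U))) :=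
      (PrimeSpectrum.isClosed_singleton_iff_isMaximal y).mpr hm
    have := hycl.isLocallyClosed.image hjemb.isInducing hjemb.isOpen_range.isLocallyClosed
    simpa using this
  have hxT : hUaff.fromSpec y ∈ T := by
    have h1 : y₀ ⤳ y := (PrimeSpectrum.le_iff_specializes y₀ y).mp hpm
    have h2 : hUaff.fromSpec y₀ ⤳ hUaff.fromSpec y := h1.map hjemb.continuous
    rw [hy₀, specializes_iff_mem_closure, hη.def] at h2
    exact h2
  obtain ⟨n, hn⟩ := h _ hxcl hxT
  exact hf2 n y (hfm n) hn

end T16917
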