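import Mathlib
import Groth.Agent.scratch.T16917b

set_option autoImplicit false
universe u
open CategoryTheory AlgebraicGeometry TopologicalSpace

namespace T16917

/-- countable-set version of `exists_le_of_closedPoints`. -/
theorem exists_mem_le_of_closedPoints (k : Type u) [Field k] [IsAlgClosed k] [Uncountable k]
    (X : Scheme.{u}) (sX : X ⟶ Spec (CommRingCat.of k)) [LocallyOfFiniteType sX]
    (T : Closeds X) (hT : IsIrreducible (T : Set X)) (S' : Set (Closeds X)) (hS' : S'.Countable)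
    (h : ∀ x : X, IsClosed ({x} : Set X) → x ∈ T → ∃ T' ∈ S', x ∈ T') : ∃ T' ∈ S', T ≤ T' := by
  have hc : (S' ∪ {⊥}).Countable := hS'.union (Set.countable_singleton _)
  have hne : (S' ∪ {⊥}).Nonempty := ⟨⊥, Or.inr rfl⟩
  obtain ⟨e, he⟩ := hc.exists_eq_range hne
  obtain ⟨n, hn⟩ := exists_le_of_closedPoints k X sX T hT e (by
    intro x hx hxT
    obtain ⟨T', hT', hxT'⟩ := h x hx hxT
    have : T' ∈ Set.range e := he ▸ Or.inl hT'
    obtain ⟨n, rfl⟩ := this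
    exact ⟨n, hxT'⟩)
  have hen : e n ∈ S' ∪ {⊥} := he ▸ Set.mem_range_self n
  rcases hen with hen | hen
  · exact ⟨e n, hen, hn⟩
  · exfalso
    rw [Set.mem_singleton_iff] at hen
    rw [hen] at hn
    obtain ⟨x, hx⟩ := hT.nonempty
    exact hn hx

theorem subset_of_closedPoints_eq (k : Type u) [Field k] [IsAlgClosed k] [Uncountable k]
    (X : Scheme.{u}) (sX : X ⟶ Spec (CommRingCat.of k)) [LocallyOfFiniteType sX]
    (S S' : Set (Closeds X)) (hSc : S.Countable) (hS'c : S'.Countable)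
    (hSirr : ∀ T ∈ S, IsIrreducible (T : Set X)) (hS'irr : ∀ T ∈ S', IsIrreducible (T : Set X))
    (hSanti : IsAntichain (· ≤ ·) S)
    (heq : {x : X | IsClosed ({x} : Set X) ∧ ∃ T ∈ S, x ∈ T} =
      {x : X | IsClosed ({x} : Set X) ∧ ∃ T ∈ S', x ∈ T}) : S ⊆ S' := by
  intro T hT
  obtain ⟨T', hT', hTT'⟩ := exists_mem_le_of_closedPoints k X sX T (hSirr T hT) S' hS'c (by
    intro x hx hxT
    have : x ∈ {x : X | IsClosed ({x} : Set X) ∧ ∃ T ∈ S', x ∈ T} := heq ▸ ⟨hx, T, hT, hxT⟩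
    exact this.2)
  obtain ⟨T'', hT'', hT'T''⟩ := exists_mem_le_of_closedPoints k X sX T' (hS'irr T' hT') S hSc (by
    intro x hx hxT
    have : x ∈ {x : X | IsClosed ({x} : Set X) ∧ ∃ T ∈ S, x ∈ T} := heq ▸ ⟨hx, T', hT', hxT⟩
    exact this.2)
  have h1 : T = T'' := by
    by_contra hne
    exact hSanti hT hT'' hne (hTT'.trans hT'T'')
  have h2 : T = T' := le_antisymm hTT' (h1 ▸ hT'T'')
  exact h2 ▸ hT'

theorem t16917 (k : Type u) [Field k] [IsAlgClosed k]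
    [Uncountable k] (X : Scheme.{u}) (sX : X ⟶ Spec (CommRingCat.of k)) [LocallyOfFiniteType sX]
    [QuasiCompact sX] (Z : ℕ → TopologicalSpace.Closeds X) :
    ∃! S : Set (TopologicalSpace.Closeds X), S.Countable ∧ (∀ T ∈ S, IsIrreducible (T : Set X)) ∧
      IsAntichain (· ≤ ·) S ∧
      {x : X | IsClosed ({x} : Set X) ∧ ∃ T ∈ S, x ∈ T} =
        {x : X | IsClosed ({x} : Set X) ∧ ∃ n, x ∈ Z n} := by
  classical
  haveI : IsLocallyNoetherian X := LocallyOfFiniteType.isLocallyNoetherian sX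
  haveI : CompactSpace X := QuasiCompact.compactSpace_of_compactSpace sX
  haveI : IsNoetherian X := {}
  haveI : NoetherianSpace X := inferInstance
  choose F hFfin hFcl hFirr hFsup using fun n =>
    NoetherianSpace.exists_finite_set_isClosed_irreducible (Z n).isClosed
  let 𝒞 : Set (Closeds X) := {T | ∃ n, (T : Set X) ∈ F n}
  have h𝒞count : 𝒞.Countable := by
    have h1 : (⋃ n, F n).Countable := Set.countable_iUnion fun n => (hFfin n).countable
    have h2 : 𝒞 = (fun T : Closeds X => (T : Set X)) ⁻¹' (⋃ n, F n) := by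
      ext T
      simp [𝒞]
    rw [h2]
    exact h1.preimage_of_injOn (SetLike.coe_injective.injOn)
  have h𝒞irr : ∀ T ∈ 𝒞, IsIrreducible (T : Set X) := by
    rintro T ⟨n, hT⟩
    exact hFirr n _ hT
  have h𝒞cover : ∀ x : X, (∃ n, x ∈ Z n) ↔ ∃ T ∈ 𝒞, x ∈ T := by
    intro x
    constructor
    · rintro ⟨n, hn⟩
      have : x ∈ ⋃₀ F n := hFsup n ▸ hn
      obtain ⟨t, ht, hxt⟩ := this
      exact ⟨⟨t, hFcl n t ht⟩, ⟨n, ht⟩, hxt⟩
    · rintro ⟨T, ⟨n, hT⟩, hxT⟩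
      refine ⟨n, ?_⟩
      change x ∈ (Z n : Set X)
      rw [hFsup n]
      exact ⟨_, hT, hxT⟩
  let S : Set (Closeds X) := {T | T ∈ 𝒞 ∧ ∀ T' ∈ 𝒞, T ≤ T' → T' = T}
  have hSsub : S ⊆ 𝒞 := fun T hT => hT.1
  have hSc : S.Countable := h𝒞count.mono hSsub
  have hSirr : ∀ T ∈ S, IsIrreducible (T : Set X) := fun T hT => h𝒞irr T hT.1
  have hSanti : IsAntichain (· ≤ ·) S := by
    intro T hT T' hT' hne hle
    exact hne (hT.2 T' hT'.1 hle).symm
  have hScover : {x : X | IsClosed ({x} : Set X) ∧ ∃ T ∈ S, x ∈ T} =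
      {x : X | IsClosed ({x} : Set X) ∧ ∃ n, x ∈ Z n} := by
    ext x
    constructor
    · rintro ⟨hx, T, hT, hxT⟩
      exact ⟨hx, (h𝒞cover x).2 ⟨T, hT.1, hxT⟩⟩
    · rintro ⟨hx, hn⟩
      obtain ⟨T₀, hT₀, hxT₀⟩ := (h𝒞cover x).1 hn
      obtain ⟨T, hT, hT₀T, hmax⟩ := exists_maximal_ge 𝒞 h𝒞irr T₀ hT₀
      exact ⟨hx, T, ⟨hT, hmax⟩, hT₀T hxT₀⟩
  refine ⟨S, ⟨hSc, hSirr, hSanti, hScover⟩, ?_⟩
  rintro S' ⟨hS'c, hS'irr, hS'anti, hS'cover⟩
  apply Set.Subset.antisymm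
  · exact subset_of_closedPoints_eq k X sX S' S hS'c hSc hS'irr hSirr hS'anti
      (hS'cover.trans hScover.symm)
  · exact subset_of_closedPoints_eq k X sX S S' hSc hS'c hSirr hS'irr hSanti
      (hScover.trans hS'cover.symm)

end T16917
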