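import Groth.Statements.S16917
import Mathlib
import Groth.Agent.Lib.Helper23.IrredCountable

set_option autoImplicit false
open CategoryTheory AlgebraicGeometry
open Variety

namespace T16917

theorem t16917 (k : Type u) [Field k] [IsAlgClosed k]
    [Uncountable k] (X : Scheme.{u}) (sX : X ⟶ Spec (CommRingCat.of k)) [LocallyOfFiniteType sX]
    [QuasiCompact sX] (Z : ℕ → TopologicalSpace.Closeds X) :
    ∃! S : Set (TopologicalSpace.Closeds X), S.Countable ∧ (∀ T ∈ S, IsIrreducible (T : Set X)) ∧
      IsAntichain (· ≤ ·) S ∧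
      {x : X | IsClosed ({x} : Set X) ∧ ∃ T ∈ S, x ∈ T} =
        {x : X | IsClosed ({x} : Set X) ∧ ∃ n, x ∈ Z n} := by
  exact Groth.Agent.Lib.Helper23.IrredCountable.t16917 k X sX Z

end T16917
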