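import Mathlib

set_option autoImplicit false
universe u
open TensorProduct

namespace T20016

/-- `A → B` smooth, `A` integrally closed in `A_f` ⟹ `B` integrally closed in `B_f`. -/
theorem alg_core {A B : Type u} [CommRing A] [CommRing B] [Algebra A B] [Algebra.Smooth A B]
    (A' B' : Type u) [CommRing A'] [CommRing B'] [Algebra A A'] [Algebra B B']
    (f : A) [IsLocalization.Away f A'] [IsLocalization.Away (algebraMap A B f) B']
    (hA : ∀ s : A', IsIntegral A s → s ∈ (algebraMap A A').range)
    (t : B') (ht : IsIntegral B t) : t ∈ (algebraMap B B').range := by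
  let e : B' ≃ₐ[B] B ⊗[A] A' :=
    IsLocalization.algEquiv (Submonoid.powers (algebraMap A B f)) B' (B ⊗[A] A')
  have ht' : IsIntegral B (e t) := ht.map e.toAlgHom
  have hbot : integralClosure A A' = ⊥ := by
    rw [eq_bot_iff]
    intro s hs
    obtain ⟨a, rfl⟩ := hA s hs
    exact Subalgebra.algebraMap_mem _ a
  obtain ⟨z, hz⟩ := (TensorProduct.toIntegralClosure_bijective_of_smooth (R := A) (S := B)
    (B := A')).2 ⟨e t, ht'⟩
  have hz' : e t = Algebra.TensorProduct.map (AlgHom.id B B) (integralClosure A A').val z := by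
    have := congrArg Subtype.val hz
    exact this.symm
  have key : ∀ z : B ⊗[A] integralClosure A A',
      Algebra.TensorProduct.map (AlgHom.id B B) (integralClosure A A').val z ∈
        (algebraMap B (B ⊗[A] A')).range := by
    intro z
    induction z with
    | zero => exact ⟨0, by simp⟩
    | add x y hx hy =>
      obtain ⟨a, ha⟩ := hx
      obtain ⟨b, hb⟩ := hy
      exact ⟨a + b, by rw [map_add, map_add, ha, hb]⟩
    | tmul u c =>
      obtain ⟨c, hc⟩ := c
      have hc' : c ∈ (⊥ : Subalgebra A A') := by
        rw [← hbot]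
        exact hc
      obtain ⟨r, rfl⟩ := Algebra.mem_bot.mp hc'
      refine ⟨r • u, ?_⟩
      simp [Algebra.TensorProduct.algebraMap_apply, Algebra.smul_def]
      rw [← Algebra.smul_def, TensorProduct.smul_tmul, Algebra.smul_def, mul_one]
  obtain ⟨b, hb⟩ := key z
  refine ⟨b, ?_⟩
  apply e.injective
  rw [hz', ← hb]
  exact e.commutes b

end T20016
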