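import Groth.Agent.scratch.T20016a
import Groth.Prelude.Def_W4c6modpairsegaMP
import Groth.Prelude.Def_BlowUp2

set_option autoImplicit false
universe u
open CategoryTheory AlgebraicGeometry TopologicalSpace

namespace T20016

theorem inf_interior_eq_basicOpen {X : Scheme.{u}} (IX : X.IdealSheafData) (U : X.affineOpens)
    (f : Γ(X, U.1)) (hf : IX.ideal U = Ideal.span {f}) :
    U.1 ⊓ ModPair.interior IX = X.basicOpen f := by
  ext x
  constructor
  · rintro ⟨hxU, hx⟩
    have h1 : x ∉ IX.support := hx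
    rw [Scheme.IdealSheafData.mem_support_iff_of_mem hxU, hf, Scheme.zeroLocus_span,
      Scheme.zeroLocus_singleton] at h1
    simpa using h1
  · intro hx
    have hxU : x ∈ U.1 := X.basicOpen_le f hx
    refine ⟨hxU, ?_⟩
    change x ∉ IX.support
    rw [Scheme.IdealSheafData.mem_support_iff_of_mem hxU, hf, Scheme.zeroLocus_span,
      Scheme.zeroLocus_singleton]
    simpa using hx

theorem transport_hint {X : Scheme.{u}} {U O' : X.Opens} (hle : O' ≤ U) (f : Γ(X, U))
    (h : O' = X.basicOpen f)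
    (hint : ∀ s : Γ(X, O'), (X.presheaf.map (homOfLE hle).op).hom.IsIntegralElem s →
      s ∈ Set.range (X.presheaf.map (homOfLE hle).op).hom) :
    ∀ s : Γ(X, X.basicOpen f),
      (X.presheaf.map (homOfLE (X.basicOpen_le f)).op).hom.IsIntegralElem s →
        s ∈ Set.range (X.presheaf.map (homOfLE (X.basicOpen_le f)).op).hom := by
  subst h
  exact hint

theorem local_aux {X Y : Scheme.{u}} (g : Y ⟶ X) [Etale g] {U : X.Opens} (hU : IsAffineOpen U)
    (f : Γ(X, U)) {W : Y.Opens} (hW : IsAffineOpen W) (hWU : W ≤ g ⁻¹ᵁ U)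
    (hA : ∀ s : Γ(X, X.basicOpen f),
      (X.presheaf.map (homOfLE (X.basicOpen_le f)).op).hom.IsIntegralElem s →
        s ∈ Set.range (X.presheaf.map (homOfLE (X.basicOpen_le f)).op).hom)
    (O : Y.Opens) (hO : O = Y.basicOpen (g.appLE U W hWU f)) (hOW : O ≤ W)
    (t : Γ(Y, O)) (ht : (Y.presheaf.map (homOfLE hOW).op).hom.IsIntegralElem t) :
    t ∈ Set.range (Y.presheaf.map (homOfLE hOW).op).hom := by
  subst hO
  have hφ : (g.appLE U W hWU).hom.Etale :=
    HasRingHomProperty.appLE @Etale g inferInstance ⟨U, hU⟩ ⟨W, hW⟩ hWU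
  algebraize [(g.appLE U W hWU).hom]
  haveI := hU.isLocalization_basicOpen f
  haveI : IsLocalization.Away (algebraMap Γ(X, U) Γ(Y, W) f)
      Γ(Y, Y.basicOpen (g.appLE U W hWU f)) := hW.isLocalization_basicOpen (g.appLE U W hWU f)
  have h1 := alg_core (A := Γ(X, U)) (B := Γ(Y, W)) Γ(X, X.basicOpen f)
    Γ(Y, Y.basicOpen (g.appLE U W hWU f)) f
    (fun s hs => by
      obtain ⟨a, ha⟩ := hA s hs
      exact ⟨a, ha⟩) t ht
  obtain ⟨b, hb⟩ := h1
  exact ⟨b, hb⟩

end T20016
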