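import Groth.Agent.scratch.T20016b

set_option autoImplicit false
universe u
open CategoryTheory AlgebraicGeometry TopologicalSpace

namespace T20016

/-- restriction of sections -/
noncomputable abbrev rs {Y : Scheme.{u}} {O₁ O₂ : Y.Opens} (h : O₁ ≤ O₂) : Γ(Y, O₂) →+* Γ(Y, O₁) :=
  (Y.presheaf.map (homOfLE h).op).hom

theorem rs_rs {Y : Scheme.{u}} {O₁ O₂ O₃ : Y.Opens} (h₁ : O₁ ≤ O₂) (h₂ : O₂ ≤ O₃) (a : Γ(Y, O₃)) :
    rs h₁ (rs h₂ a) = rs (h₁.trans h₂) a := by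
  change (Y.presheaf.map (homOfLE h₂).op ≫ Y.presheaf.map (homOfLE h₁).op).hom a = _
  rw [← Y.presheaf.map_comp]
  rfl

theorem rs_comp {Y : Scheme.{u}} {O₁ O₂ O₃ : Y.Opens} (h₁ : O₁ ≤ O₂) (h₂ : O₂ ≤ O₃) :
    (rs h₁).comp (rs h₂) = rs (h₁.trans h₂) := by
  ext a
  exact rs_rs h₁ h₂ a

theorem integral_restrict {Y : Scheme.{u}} {V V' W W' : Y.Opens} (hV : V' ≤ V) (hW : W' ≤ W)
    (hWV : W ≤ V) (hWV' : W' ≤ V') (t : Γ(Y, V')) (ht : (rs hV).IsIntegralElem t) :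
    (rs hW).IsIntegralElem (rs hWV' t) := by
  obtain ⟨p, hpm, hp⟩ := ht
  refine ⟨p.map (rs hWV), hpm.map _, ?_⟩
  rw [Polynomial.eval₂_map, rs_comp hW hWV, ← rs_comp hWV' hV, ← Polynomial.hom_eval₂, hp, map_zero]

theorem inj_affine {X Y : Scheme.{u}} (g : Y ⟶ X) [Etale g] {U : X.Opens} (hU : IsAffineOpen U)
    (f : Γ(X, U)) (hfn : f ∈ nonZeroDivisors Γ(X, U))
    {W : Y.Opens} (hW : IsAffineOpen W) (hWU : W ≤ g ⁻¹ᵁ U)
    (O : Y.Opens) (hO : O = Y.basicOpen (g.appLE U W hWU f)) (hOW : O ≤ W) :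
    Function.Injective (rs hOW) := by
  subst hO
  have hφ : (g.appLE U W hWU).hom.Etale :=
    HasRingHomProperty.appLE @Etale g inferInstance ⟨U, hU⟩ ⟨W, hW⟩ hWU
  algebraize [(g.appLE U W hWU).hom]
  haveI := hW.isLocalization_basicOpen (g.appLE U W hWU f)
  have hreg : IsSMulRegular Γ(Y, W) f := Module.Flat.isSMulRegular_of_nonZeroDivisors hfn
  have hnzd : g.appLE U W hWU f ∈ nonZeroDivisors Γ(Y, W) := by
    rw [mem_nonZeroDivisors_iff_right]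
    intro b hb
    apply hreg
    change f • b = f • 0
    rw [smul_zero, Algebra.smul_def, mul_comm]
    exact hb
  exact IsLocalization.injective Γ(Y, Y.basicOpen (g.appLE U W hWU f))
    (Submonoid.powers_le.mpr hnzd)

end T20016
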