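import Groth.Agent.scratch.T20016c

set_option autoImplicit false
universe u
open CategoryTheory AlgebraicGeometry TopologicalSpace

namespace T20016

theorem inf_preimage_interior_eq {X Y : Scheme.{u}} (IX : X.IdealSheafData) (g : Y ⟶ X)
    (U : X.affineOpens) (f : Γ(X, U.1)) (hf : IX.ideal U = Ideal.span {f}) (W : Y.Opens)
    (hWU : W ≤ g ⁻¹ᵁ U.1) :
    W ⊓ g ⁻¹ᵁ ModPair.interior IX = Y.basicOpen (g.appLE U.1 W hWU f) := by
  rw [Scheme.basicOpen_appLE, ← inf_interior_eq_basicOpen IX U f hf]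
  ext y
  constructor
  · rintro ⟨h1, h2⟩
    exact ⟨h1, hWU h1, h2⟩
  · rintro ⟨h1, -, h2⟩
    exact ⟨h1, h2⟩

theorem exists_chart {X Y : Scheme.{u}} (IX : X.IdealSheafData)
    (hX : BlowUp.IsEffCartierIdeal IX) (g : Y ⟶ X) (O : Y.Opens) (y : Y) (hy : y ∈ O) :
    ∃ (U : X.affineOpens) (f : Γ(X, U.1)) (W : Y.Opens) (_ : IsAffineOpen W)
      (_ : W ≤ g ⁻¹ᵁ U.1), f ∈ nonZeroDivisors Γ(X, U.1) ∧ IX.ideal U = Ideal.span {f} ∧
        y ∈ W ∧ W ≤ O := by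
  obtain ⟨U, hgyU, f, hfn, hf⟩ := hX (g.base y)
  have hy' : y ∈ O ⊓ g ⁻¹ᵁ U.1 := ⟨hy, hgyU⟩
  obtain ⟨_, ⟨W, hW : IsAffineOpen W, rfl⟩, hyW, hWsub⟩ :=
    Y.isBasis_affineOpens.exists_subset_of_mem_open hy' (O ⊓ g ⁻¹ᵁ U.1).2
  exact ⟨U, f, W, hW, fun z hz => (hWsub hz).2, hfn, hf, hyW, fun z hz => (hWsub hz).1⟩

theorem inj_general {X Y : Scheme.{u}} (IX : X.IdealSheafData)
    (hX : BlowUp.IsEffCartierIdeal IX) (g : Y ⟶ X) [Etale g] (O : Y.Opens) :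
    Function.Injective (rs (inf_le_left : O ⊓ g ⁻¹ᵁ ModPair.interior IX ≤ O)) := by
  intro a b hab
  choose U f W hW hWU hfn hf hyW hWO using fun y : O => exists_chart IX hX g O y.1 y.2
  refine Y.sheaf.eq_of_locally_eq' W O (fun y => homOfLE (hWO y)) ?_ a b ?_
  · intro y hy
    exact Opens.mem_iSup.mpr ⟨⟨y, hy⟩, hyW ⟨y, hy⟩⟩
  · intro y
    have hO := inf_preimage_interior_eq IX g (U y) (f y) (hf y) (W y) (hWU y)
    have hinj := inj_affine g (U y).2 (f y) (hfn y) (hW y) (hWU y)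
      (W y ⊓ g ⁻¹ᵁ ModPair.interior IX) hO inf_le_left
    apply hinj
    have hle : W y ⊓ g ⁻¹ᵁ ModPair.interior IX ≤ O ⊓ g ⁻¹ᵁ ModPair.interior IX :=
      inf_le_inf_right _ (hWO y)
    change rs inf_le_left (rs (hWO y) a) = rs inf_le_left (rs (hWO y) b)
    rw [rs_rs, rs_rs, ← rs_rs hle inf_le_left a, ← rs_rs hle inf_le_left b, hab]

end T20016
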