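import Groth.Agent.scratch.T20016d

set_option autoImplicit false
universe u
open CategoryTheory AlgebraicGeometry TopologicalSpace

namespace T20016

theorem t20016 {X Y : Scheme.{u}}
    (IX : X.IdealSheafData) (hX : BlowUp.IsEffCartierIdeal IX)
    (hint : ∀ U ∈ X.affineOpens, ∀ s : Γ(X, U ⊓ ModPair.interior IX),
      (X.presheaf.map (homOfLE (inf_le_left : U ⊓ ModPair.interior IX ≤ U)).op).hom.IsIntegralElem s →
        s ∈ Set.range (X.presheaf.map (homOfLE (inf_le_left : U ⊓ ModPair.interior IX ≤ U)).op).hom)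
    (g : Y ⟶ X) [Etale g] :
    ∀ V ∈ Y.affineOpens, ∀ t : Γ(Y, V ⊓ g ⁻¹ᵁ ModPair.interior IX),
      (Y.presheaf.map (homOfLE (inf_le_left : V ⊓ g ⁻¹ᵁ ModPair.interior IX ≤ V)).op).hom.IsIntegralElem t →
        t ∈ Set.range (Y.presheaf.map (homOfLE (inf_le_left : V ⊓ g ⁻¹ᵁ ModPair.interior IX ≤ V)).op).hom := by
  intro V hV t ht
  choose U f W hW hWU hfn hf hyW hWV using fun y : V => exists_chart IX hX g V y.1 y.2
  have hloc : ∀ y : V, ∃ s : Γ(Y, W y),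
      rs (inf_le_left : W y ⊓ g ⁻¹ᵁ ModPair.interior IX ≤ W y) s =
        rs (inf_le_inf_right _ (hWV y)) t := by
    intro y
    have hO := inf_preimage_interior_eq IX g (U y) (f y) (hf y) (W y) (hWU y)
    have hA := transport_hint (inf_le_left : (U y).1 ⊓ ModPair.interior IX ≤ (U y).1) (f y)
      (inf_interior_eq_basicOpen IX (U y) (f y) (hf y)) (hint (U y).1 (U y).2)
    have h1 := local_aux g (U y).2 (f y) (hW y) (hWU y) hA (W y ⊓ g ⁻¹ᵁ ModPair.interior IX) hO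
      inf_le_left (rs (inf_le_inf_right _ (hWV y)) t)
      (integral_restrict inf_le_left inf_le_left (hWV y) _ t ht)
    obtain ⟨s, hs⟩ := h1
    exact ⟨s, hs⟩
  choose s hs using hloc
  have key : ∀ (y : V) (O' : Y.Opens) (h : O' ≤ W y ⊓ g ⁻¹ᵁ ModPair.interior IX),
      rs (h.trans inf_le_left) (s y) = rs (h.trans (inf_le_inf_right _ (hWV y))) t := by
    intro y O' h
    rw [← rs_rs h inf_le_left, hs y, rs_rs]
  have hcompat : TopCat.Presheaf.IsCompatible Y.sheaf.1 W s := by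
    intro y y'
    apply inj_general IX hX g (W y ⊓ W y')
    change rs inf_le_left (rs inf_le_left (s y)) = rs inf_le_left (rs inf_le_right (s y'))
    rw [rs_rs, rs_rs]
    have h1 : (W y ⊓ W y') ⊓ g ⁻¹ᵁ ModPair.interior IX ≤ W y ⊓ g ⁻¹ᵁ ModPair.interior IX :=
      inf_le_inf_right _ inf_le_left
    have h2 : (W y ⊓ W y') ⊓ g ⁻¹ᵁ ModPair.interior IX ≤ W y' ⊓ g ⁻¹ᵁ ModPair.interior IX :=
      inf_le_inf_right _ inf_le_right
    exact (key y _ h1).trans (key y' _ h2).symm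
  have hcover : V ≤ iSup W := by
    intro y hy
    exact Opens.mem_iSup.mpr ⟨⟨y, hy⟩, hyW ⟨y, hy⟩⟩
  obtain ⟨S, hS, -⟩ := Y.sheaf.existsUnique_gluing' W V (fun y => homOfLE (hWV y)) hcover s hcompat
  refine ⟨S, ?_⟩
  refine Y.sheaf.eq_of_locally_eq' (fun y : V => W y ⊓ g ⁻¹ᵁ ModPair.interior IX)
    (V ⊓ g ⁻¹ᵁ ModPair.interior IX) (fun y => homOfLE (inf_le_inf_right _ (hWV y))) ?_ _ _ ?_
  · rintro y ⟨hyV, hy0⟩
    exact Opens.mem_iSup.mpr ⟨⟨y, hyV⟩, hyW ⟨y, hyV⟩, hy0⟩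
  · intro y
    change rs (inf_le_inf_right _ (hWV y)) (rs inf_le_left S) = rs (inf_le_inf_right _ (hWV y)) t
    rw [rs_rs, ← hs y, ← rs_rs inf_le_left (hWV y) S]
    congr 1
    exact hS y

end T20016
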