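import Groth.Statements.S2497
import Mathlib
import Groth.Agent.Lib.Helper23.ZariskiSubspace

set_option autoImplicit false
set_option linter.unusedSectionVars false
set_option linter.style.haveILetI false
universe u
open FDesc

namespace T2497
open Groth.Agent.Lib.Helper23.ZariskiSubspace

theorem t2497 {A B C : Type u} [CommRing A] [CommRing B] [CommRing C]
    [IsNoetherianRing A] [IsNoetherianRing B] [IsLocalRing A] [IsLocalRing B]
    [Algebra A B] [IsLocalHom (algebraMap A B)] [Algebra A C] [Algebra.FiniteType A C]
    (S : Submonoid C) [Algebra C B] [IsScalarTower A C B] [IsLocalization S B]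
    (hdom : IsDomain (AdicCompletion (IsLocalRing.maximalIdeal A) A))
    (hinj : Function.Injective (algebraMap A B)) (k : ℕ) :
    ∃ N : ℕ, (IsLocalRing.maximalIdeal B ^ N).comap (algebraMap A B) ≤ IsLocalRing.maximalIdeal A ^ k := by
  haveI := hdom
  haveI : Algebra.EssFiniteType C B := Algebra.EssFiniteType.of_isLocalization B S
  haveI : Algebra.EssFiniteType A B := Algebra.EssFiniteType.comp A C B
  exact Groth.Agent.Lib.Helper23.ZariskiSubspace.t12420 A B hinj k

end T2497
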