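import Mathlib
import Groth.Agent.Lib.Helper23.CKFree
import Groth.Agent.Lib.Helper21.EquidimAt2

set_option autoImplicit false
set_option linter.unusedSectionVars false
set_option linter.style.haveILetI false
universe u

namespace T3851
open IsLocalRing TensorProduct KaehlerDifferential

section LQ

variable {R S : Type u} [CommRing R] [CommRing S] (f : R →+* S) (P : Ideal S) [P.IsPrime]
  (p : Ideal R) [p.IsPrime]

/-- a surjection whose kernel dies at `p` induces an isomorphism of local rings. -/
theorem isLocalization_of_surjective (hf : Function.Surjective f) (hp : P.comap f = p)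
    (hker : ∀ r, f r = 0 → ∃ s, s ∉ p ∧ s * r = 0) :
    letI := ((algebraMap S (Localization.AtPrime P)).comp f).toAlgebra
    IsLocalization.AtPrime (Localization.AtPrime P) p := by
  letI := ((algebraMap S (Localization.AtPrime P)).comp f).toAlgebra
  have halg : ∀ r, algebraMap R (Localization.AtPrime P) r =
      algebraMap S (Localization.AtPrime P) (f r) := fun r => rfl
  have hmem : ∀ r, f r ∈ P ↔ r ∈ p := fun r => by rw [← hp, Ideal.mem_comap]
  refine ⟨?_, ?_, ?_⟩
  · rintro ⟨s, hs⟩
    rw [halg]
    exact IsLocalization.map_units (Localization.AtPrime P)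
      (⟨f s, fun h => hs ((hmem s).mp h)⟩ : P.primeCompl)
  · intro z
    obtain ⟨⟨x, t⟩, hxt⟩ := IsLocalization.surj P.primeCompl z
    obtain ⟨r, rfl⟩ := hf x
    obtain ⟨s, hs⟩ := hf (t : S)
    have hsp : s ∉ p := fun h => t.2 (hs ▸ (hmem s).mpr h)
    refine ⟨⟨r, ⟨s, hsp⟩⟩, ?_⟩
    simp only at hxt ⊢
    rw [halg, halg, hs]
    exact hxt
  · intro x y hxy
    rw [halg, halg, IsLocalization.eq_iff_exists P.primeCompl] at hxy
    obtain ⟨t, ht⟩ := hxy
    obtain ⟨s, hs⟩ := hf (t : S)
    have hsp : s ∉ p := fun h => t.2 (hs ▸ (hmem s).mpr h)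
    have h0 : f (s * (x - y)) = 0 := by
      rw [map_mul, map_sub, hs, mul_sub, ht, sub_self]
    obtain ⟨s', hs', hs0⟩ := hker _ h0
    refine ⟨⟨s' * s, p.primeCompl.mul_mem hs' hsp⟩, ?_⟩
    show s' * s * x = s' * s * y
    have : s' * s * x - s' * s * y = s' * (s * (x - y)) := by ring
    rw [← sub_eq_zero, this, hs0]

/-- the induced ring isomorphism. -/
theorem exists_ringEquiv_of_surjective (hf : Function.Surjective f) (hp : P.comap f = p)
    (hker : ∀ r, f r = 0 → ∃ s, s ∉ p ∧ s * r = 0) :
    ∃ e : Localization.AtPrime p ≃+* Localization.AtPrime P,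
      ∀ r, e (algebraMap R (Localization.AtPrime p) r) =
        algebraMap S (Localization.AtPrime P) (f r) := by
  letI := ((algebraMap S (Localization.AtPrime P)).comp f).toAlgebra
  haveI := isLocalization_of_surjective f P p hf hp hker
  let e := IsLocalization.algEquiv p.primeCompl (Localization.AtPrime p)
    (Localization.AtPrime P)
  exact ⟨e.toRingEquiv, fun r => e.commutes r⟩

end LQ

end T3851
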