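import Groth.Agent.scratch.T3851a

set_option autoImplicit false
set_option linter.unusedSectionVars false
set_option linter.style.haveILetI false
universe u

namespace T3851
open IsLocalRing TensorProduct KaehlerDifferential
open Groth.Agent.Lib.Helper23.CKFree Groth.Agent.Lib.Helper21.ChartPt

section Red

variable {A : Type u} [CommRing A] (p : Ideal A) [p.IsPrime]

/-- the kernel of `A → A_p`. -/
abbrev kerLoc : Ideal A := RingHom.ker (algebraMap A (Localization.AtPrime p))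

theorem kerLoc_le : kerLoc p ≤ p := ker_le_of_le p p le_rfl

theorem mem_kerLoc_iff (a : A) : a ∈ kerLoc p ↔ ∃ s, s ∉ p ∧ s * a = 0 := by
  rw [RingHom.mem_ker, IsLocalization.map_eq_zero_iff p.primeCompl]
  constructor
  · rintro ⟨s, hs⟩; exact ⟨s, s.2, hs⟩
  · rintro ⟨s, hs, h⟩; exact ⟨⟨s, hs⟩, h⟩

/-- minimal primes over `kerLoc p` are the minimal primes of `A` below `p`. -/
theorem minimalPrimes_kerLoc (Q : Ideal A) (hQ : Q ∈ (kerLoc p).minimalPrimes) :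
    Q ∈ minimalPrimes A ∧ Q ≤ p := by
  haveI hQprime : Q.IsPrime := hQ.1.1
  have h0 : Disjoint ((⊥ : Ideal A) : Set A) ((p.primeCompl ⊔ Q.primeCompl : Submonoid A) : Set A) := by
    rw [Set.disjoint_left]
    intro x hx hxS
    rw [SetLike.mem_coe, Ideal.mem_bot] at hx
    subst hx
    obtain ⟨s, hs, t, ht, hst⟩ := Submonoid.mem_sup.mp hxS
    have : t ∈ kerLoc p := (mem_kerLoc_iff p t).mpr ⟨s, hs, hst⟩
    exact ht (hQ.1.2 this)
  obtain ⟨q, hqprime, -, hqdisj⟩ := Ideal.exists_le_prime_disjoint ⊥ _ h0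
  have hqp : q ≤ p := by
    intro x hx
    by_contra hxp
    exact Set.disjoint_left.mp hqdisj hx
      ((le_sup_left : p.primeCompl ≤ p.primeCompl ⊔ Q.primeCompl) hxp)
  have hqQ : q ≤ Q := by
    intro x hx
    by_contra hxQ
    exact Set.disjoint_left.mp hqdisj hx
      ((le_sup_right : Q.primeCompl ≤ p.primeCompl ⊔ Q.primeCompl) hxQ)
  obtain ⟨q₀, hq₀, hq₀q⟩ := Ideal.exists_minimalPrimes_le (bot_le : (⊥ : Ideal A) ≤ q)
  haveI : q₀.IsPrime := hq₀.1.1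
  have h1 : kerLoc p ≤ q₀ := ker_le_of_le p q₀ (hq₀q.trans hqp)
  have h2 : Q ≤ q₀ := hQ.2 ⟨inferInstance, h1⟩ (hq₀q.trans hqQ)
  have h3 : Q = q₀ := le_antisymm h2 (hq₀q.trans hqQ)
  rw [h3]
  exact ⟨hq₀, hq₀q.trans hqp⟩

/-- minimal primes of `A ⧸ kerLoc p`. -/
theorem comap_mem_minimalPrimes (Q₁ : Ideal (A ⧸ kerLoc p)) (hQ₁ : Q₁ ∈ minimalPrimes (A ⧸ kerLoc p)) :
    Q₁.comap (Ideal.Quotient.mk (kerLoc p)) ∈ minimalPrimes A ∧
      Q₁.comap (Ideal.Quotient.mk (kerLoc p)) ≤ p := by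
  apply minimalPrimes_kerLoc
  have h1 := Ideal.comap_minimalPrimes_eq_of_surjective
    (f := Ideal.Quotient.mk (kerLoc p)) Ideal.Quotient.mk_surjective ⊥
  rw [← RingHom.ker_eq_comap_bot, Ideal.mk_ker] at h1
  rw [h1]
  exact ⟨Q₁, hQ₁, rfl⟩

theorem map_mem_minimalPrimes (q : Ideal A) (hq : q ∈ minimalPrimes A) (hqp : q ≤ p) :
    q.map (Ideal.Quotient.mk (kerLoc p)) ∈ minimalPrimes (A ⧸ kerLoc p) := by
  haveI : q.IsPrime := hq.1.1
  have hle : kerLoc p ≤ q := ker_le_of_le p q hqp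
  haveI := map_mk_isPrime (kerLoc p) q hle
  refine ⟨⟨inferInstance, bot_le⟩, ?_⟩
  rintro Q' ⟨hQ', -⟩ hQ'q
  have h1 : Q'.comap (Ideal.Quotient.mk (kerLoc p)) ≤ q := by
    rw [← comap_map_mk (kerLoc p) q hle]
    exact Ideal.comap_mono hQ'q
  have h2 : q ≤ Q'.comap (Ideal.Quotient.mk (kerLoc p)) :=
    hq.2 ⟨Ideal.comap_isPrime _ _, bot_le⟩ h1
  rw [← Ideal.map_comap_of_surjective _ Ideal.Quotient.mk_surjective Q']
  exact Ideal.map_mono h2

variable [IsNoetherianRing A] [IsLocalRing A]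

/-- the dimension of `A ⧸ kerLoc p`. -/
theorem ringKrullDim_quot_kerLoc (n : ℕ)
    (hn₁ : ∀ q ∈ minimalPrimes A, q ≤ p → ringKrullDim (A ⧸ q) ≤ n)
    (hn₂ : ∃ q ∈ minimalPrimes A, q ≤ p ∧ ringKrullDim (A ⧸ q) = n) :
    ringKrullDim (A ⧸ kerLoc p) = n := by
  haveI : Nontrivial (A ⧸ kerLoc p) :=
    Ideal.Quotient.nontrivial_iff.mpr (fun h => (Ideal.IsPrime.ne_top inferInstance)
      (top_le_iff.mp (h ▸ kerLoc_le p)))
  haveI : IsLocalRing (A ⧸ kerLoc p) :=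
    IsLocalRing.of_surjective' (Ideal.Quotient.mk _) Ideal.Quotient.mk_surjective
  apply le_antisymm
  · obtain ⟨Q₁, hQ₁, hdim⟩ :=
      Groth.Agent.Lib.Helper21.EquidimAt.exists_minimalPrimes_ringKrullDim_quotient_eq
        (A ⧸ kerLoc p)
    obtain ⟨hmin, hle⟩ := comap_mem_minimalPrimes p Q₁ hQ₁
    have hle' : kerLoc p ≤ Q₁.comap (Ideal.Quotient.mk (kerLoc p)) := by
      intro a ha
      rw [Ideal.mem_comap, Ideal.Quotient.eq_zero_iff_mem.mpr ha]
      exact zero_mem _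
    have e := DoubleQuot.quotQuotEquivQuotOfLE hle'
    rw [Ideal.map_comap_of_surjective _ Ideal.Quotient.mk_surjective] at e
    rw [← hdim, ringKrullDim_eq_of_ringEquiv e]
    exact hn₁ _ hmin hle
  · obtain ⟨q, hq, hqp, hdim⟩ := hn₂
    haveI : q.IsPrime := hq.1.1
    have hle : kerLoc p ≤ q := ker_le_of_le p q hqp
    rw [← hdim, ← ringKrullDim_eq_of_ringEquiv (DoubleQuot.quotQuotEquivQuotOfLE hle)]
    exact ringKrullDim_quotient_le _

end Red

end T3851
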