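import Groth.Agent.scratch.T3851b
import Groth.Agent.Lib.Helper25.GeomRegSmooth1

set_option autoImplicit false
set_option linter.unusedSectionVars false
set_option linter.style.haveILetI false
universe u

namespace T3851
open IsLocalRing TensorProduct KaehlerDifferential MvPowerSeries
open Groth.Agent.Lib.Helper23.CKFree Groth.Agent.Lib.Helper21.ChartPt
open Groth.Agent.Lib.Helper23.CompletedKaehlerSep Groth.Agent.Lib.Helper23.CK

section Indep

variable {A : Type u} [CommRing A] (p : Ideal A) [p.IsPrime] {M : Type u} [AddCommGroup M]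
  [Module A M]

/-- `n` elements generating at `p` a module whose localization is free of rank `n` are independent
at `p`. -/
theorem indepAt_of_genAt_of_free {n : ℕ} (x : Fin n → M) (hx : GenAt p x)
    [Module.Free (Localization.AtPrime p) (LocalizedModule p.primeCompl M)]
    (hrank : Module.finrank (Localization.AtPrime p) (LocalizedModule p.primeCompl M) = n) :
    IndepAt p x := by
  classical
  have hli : LinearIndependent (Localization.AtPrime p)
      (fun i => LocalizedModule.mkLinearMap p.primeCompl M (x i)) := by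
    apply linearIndependent_of_top_le_span_of_card_eq_finrank
    · exact hx.span_localized.ge
    · rw [Fintype.card_fin, hrank]
  intro a s hs hsum j
  have h1 := congrArg (LocalizedModule.mkLinearMap p.primeCompl M) hsum
  rw [map_zero, map_smul, map_sum] at h1
  have h2 : ∀ i, LocalizedModule.mkLinearMap p.primeCompl M (a i • x i) =
      algebraMap A (Localization.AtPrime p) (a i) •
        LocalizedModule.mkLinearMap p.primeCompl M (x i) := by
    intro i
    rw [map_smul, algebraMap_smul]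
  rw [Finset.sum_congr rfl fun i _ => h2 i, ← algebraMap_smul (Localization.AtPrime p) s] at h1
  have hu : IsUnit (algebraMap A (Localization.AtPrime p) s) :=
    IsLocalization.map_units (M := p.primeCompl) _ ⟨s, hs⟩
  have h3 : ∑ i, algebraMap A (Localization.AtPrime p) (a i) •
      LocalizedModule.mkLinearMap p.primeCompl M (x i) = 0 := by
    obtain ⟨u, hu'⟩ := hu
    have := congrArg (fun z => (↑u⁻¹ : Localization.AtPrime p) • z) h1
    simp only [smul_zero] at this
    rwa [smul_smul, ← hu', Units.inv_mul, one_smul] at this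
  have h4 := (Fintype.linearIndependent_iff.mp hli) _ h3 j
  rw [IsLocalization.map_eq_zero_iff p.primeCompl] at h4
  obtain ⟨s', hs'⟩ := h4
  exact ⟨s', s'.2, hs'⟩

end Indep

section G

variable {k A : Type u} [Field k] [CommRing A] [IsLocalRing A] [IsNoetherianRing A] [Algebra k A]
  [IsAdicComplete (maximalIdeal A) A] [Module.Finite k (ResidueField A)]
  (p : Ideal A) [p.IsPrime]

/-- Lemma G: if `Ω̂_p` is generated by `n` elements then it is free of rank `n`, `A_p` is
geometrically regular and `A ⧸ ker(A → A_p)` is finite over `k[[T_1..T_n]]`, étale at `p`. -/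
theorem lemmaG [IsLocalRing (A ⧸ kerLoc p)]
    [IsAdicComplete (maximalIdeal (A ⧸ kerLoc p)) (A ⧸ kerLoc p)]
    [Module.Finite k (ResidueField (A ⧸ kerLoc p))]
    [(p.map (Ideal.Quotient.mk (kerLoc p))).IsPrime]
    (hp : p ≠ maximalIdeal A) (n : ℕ)
    (hn₁ : ∀ q ∈ minimalPrimes A, q ≤ p → ringKrullDim (A ⧸ q) ≤ n)
    (hn₂ : ∃ q ∈ minimalPrimes A, q ≤ p ∧ ringKrullDim (A ⧸ q) = n)
    (x : Fin n → AdicCompletion (maximalIdeal A) (Ω[A⁄k])) (hx : GenAt p x) :
    (Module.Free (Localization.AtPrime p)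
        (LocalizedModule p.primeCompl (AdicCompletion (maximalIdeal A) (Ω[A⁄k]))) ∧
      Module.finrank (Localization.AtPrime p)
        (LocalizedModule p.primeCompl (AdicCompletion (maximalIdeal A) (Ω[A⁄k]))) = n) ∧
    CAlg.IsGeometricallyRegular k (Localization.AtPrime p) ∧
    ∃ (_ : Algebra (MvPowerSeries (Fin n) k) (A ⧸ kerLoc p))
      (_ : IsScalarTower k (MvPowerSeries (Fin n) k) (A ⧸ kerLoc p)),
      IsLocalHom (algebraMap (MvPowerSeries (Fin n) k) (A ⧸ kerLoc p)) ∧
      Module.Finite (MvPowerSeries (Fin n) k) (A ⧸ kerLoc p) ∧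
      Algebra.IsEtaleAt (MvPowerSeries (Fin n) k) (p.map (Ideal.Quotient.mk (kerLoc p))) := by
  classical
  set 𝔞 := kerLoc p with h𝔞
  have h𝔞p : 𝔞 ≤ p := kerLoc_le p
  set p₁ := p.map (Ideal.Quotient.mk 𝔞) with hp₁def
  have hcomap : p₁.comap (Ideal.Quotient.mk 𝔞) = p := comap_map_mk 𝔞 p h𝔞p
  have hdim := ringKrullDim_quot_kerLoc p n hn₁ hn₂
  have hp₁ : p₁ ≠ maximalIdeal (A ⧸ 𝔞) := by
    intro h
    apply hp
    apply le_antisymm (le_maximalIdeal (Ideal.IsPrime.ne_top inferInstance))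
    intro a ha
    rw [← hcomap, Ideal.mem_comap, h, mem_maximalIdeal, mem_nonunits_iff]
    intro hu
    have hlh : IsLocalHom (Ideal.Quotient.mk 𝔞) :=
      IsLocalHom.of_surjective _ Ideal.Quotient.mk_surjective
    exact (mem_maximalIdeal a).mp ha (IsLocalHom.map_nonunit a hu)
  have hq₁ : ∃ q₁ ∈ minimalPrimes (A ⧸ 𝔞), q₁ ≤ p₁ ∧ ringKrullDim ((A ⧸ 𝔞) ⧸ q₁) = n := by
    obtain ⟨q, hq, hqp, hqdim⟩ := hn₂
    haveI : q.IsPrime := hq.1.1
    have hle : 𝔞 ≤ q := ker_le_of_le p q hqp
    refine ⟨q.map (Ideal.Quotient.mk 𝔞), map_mem_minimalPrimes p q hq hqp, Ideal.map_mono hqp, ?_⟩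
    rw [ringKrullDim_eq_of_ringEquiv (DoubleQuot.quotQuotEquivQuotOfLE hle), hqdim]
  -- the surjection on completed differentials
  haveI := finite_mhat' (k := k) (A := A ⧸ 𝔞)
  haveI : Module.Finite A (AdicCompletion (maximalIdeal (A ⧸ 𝔞)) (Ω[(A ⧸ 𝔞)⁄k])) :=
    Module.Finite.trans (A ⧸ 𝔞) _
  obtain ⟨l, hl⟩ := exists_lift (k := k) (A := A)
    ((dhat (k := k) (A := A ⧸ 𝔞)).compAlgebraMap A)
  have hlsurj : Function.Surjective l := by
    apply lift_surjective (k := k) l
    have h1 : (Set.range fun a => l (dhat (k := k) a)) =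
        Set.range (dhat (k := k) (A := A ⧸ 𝔞)) := by
      ext y
      constructor
      · rintro ⟨a, rfl⟩
        exact ⟨Ideal.Quotient.mk 𝔞 a, (hl a).symm⟩
      · rintro ⟨b, rfl⟩
        obtain ⟨a, rfl⟩ := Ideal.Quotient.mk_surjective b
        exact ⟨a, hl a⟩
    rw [h1, ← Submodule.restrictScalars_span A (A ⧸ 𝔞) Ideal.Quotient.mk_surjective,
      span_dhat (k := k) (A := A ⧸ 𝔞)]
    rfl
  have hx₁ : GenAt p₁ (l ∘ x) := (hx.map l hlsurj).of_surjective p₁ (by
    show p₁.comap (Ideal.Quotient.mk 𝔞) ≤ p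
    rw [hcomap])
  obtain ⟨inst, tower, hloc, hfin, het⟩ :=
    exists_etale_of_genAt (k := k) n hdim p₁ hp₁ hq₁ (l ∘ x) hx₁
  have hfree₁ := free_of_isEtaleAt (k := k) (n := n) p₁
  -- independence upstairs
  haveI := hfree₁.1
  have hi₁ : IndepAt p₁ (l ∘ x) := indepAt_of_genAt_of_free p₁ (l ∘ x) hx₁ hfree₁.2
  have hi : IndepAt p x := by
    intro a s hs hsum j
    have h1 := congrArg l hsum
    rw [map_zero, map_smul, map_sum] at h1
    have h2 : (Ideal.Quotient.mk 𝔞 s) • ∑ i, (Ideal.Quotient.mk 𝔞 (a i)) • (l ∘ x) i = 0 := by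
      rw [← h1]
      show _ = s • ∑ i, l (a i • x i)
      rw [← algebraMap_smul (A ⧸ 𝔞) s]
      congr 1
      refine Finset.sum_congr rfl fun i _ => ?_
      rw [map_smul, ← algebraMap_smul (A ⧸ 𝔞) (a i)]
      rfl
    have hs₁ : Ideal.Quotient.mk 𝔞 s ∉ p₁ := by
      intro h
      apply hs
      rw [← hcomap]
      exact h
    obtain ⟨s', hs', hs'0⟩ := hi₁ (fun i => Ideal.Quotient.mk 𝔞 (a i)) _ hs₁ h2 j
    obtain ⟨t, rfl⟩ := Ideal.Quotient.mk_surjective s'
    have htp : t ∉ p := by
      intro h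
      apply hs'
      exact Ideal.mem_map_of_mem _ h
    rw [← map_mul, Ideal.Quotient.eq_zero_iff_mem, mem_kerLoc_iff] at hs'0
    obtain ⟨t', ht', h0⟩ := hs'0
    exact ⟨t' * t, p.primeCompl.mul_mem ht' htp, by rw [mul_assoc]; exact h0⟩
  refine ⟨free_of_genAt_of_indepAt x hx hi, ?_, ⟨inst, tower, hloc, hfin, het⟩⟩
  -- geometric regularity
  haveI : Algebra.FormallyEtale (MvPowerSeries (Fin n) k) (Localization.AtPrime p₁) := het
  haveI : IsNoetherianRing (Localization.AtPrime p₁) :=
    IsLocalization.isNoetherianRing p₁.primeCompl _ inferInstance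
  have hgr₁ : CAlg.IsGeometricallyRegular k (Localization.AtPrime p₁) :=
    geomRegular_of_formallySmooth (geomRegular_mvPowerSeries k n) p₁
  obtain ⟨e, he⟩ := exists_ringEquiv_of_surjective (Ideal.Quotient.mk 𝔞) p₁ p
    Ideal.Quotient.mk_surjective hcomap (fun r hr => by
      rw [Ideal.Quotient.eq_zero_iff_mem] at hr
      exact (mem_kerLoc_iff p r).mp hr)
  let e' : Localization.AtPrime p₁ ≃ₐ[k] Localization.AtPrime p :=
    { e.symm with
      commutes' := fun c => by
        show e.symm _ = _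
        rw [RingEquiv.symm_apply_eq, IsScalarTower.algebraMap_apply k A (Localization.AtPrime p),
          he, IsScalarTower.algebraMap_apply k (A ⧸ 𝔞) (Localization.AtPrime p₁)]
        rfl }
  exact Groth.Agent.Lib.Helper25.GeomRegSmooth.geomRegular_of_algEquiv e' hgr₁

end G

end T3851
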