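import Groth.Agent.scratch.T3851c
import Groth.Agent.Lib.Helper23.CTens10

set_option autoImplicit false
set_option linter.unusedSectionVars false
set_option linter.style.haveILetI false
universe u

namespace T3851
open IsLocalRing TensorProduct MvPowerSeries
open Groth.Agent.Lib.Helper23.CTens Groth.Agent.Lib.Helper1.ArtFunLib
  Groth.Agent.Lib.Helper23.CTensStr Groth.Agent.Lib.Helper23.CTensFld

section StepA

variable (k A k' : Type u) [Field k] [CommRing A] [IsNoetherianRing A] [IsLocalRing A] [Algebra k A]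
  [IsAdicComplete (maximalIdeal A) A] [Module.Finite k (ResidueField A)]
  [Field k'] [Algebra k k']

set_option maxHeartbeats 1000000 in
/-- the completed tensor product of a quotient is a quotient of the completed tensor product,
with kernel generated by the ideal. -/
theorem exists_cTensor_quot (𝔞 : Ideal A) [IsLocalRing (A ⧸ 𝔞)] :
    ∃ Ψ₁ : EGA4.CTensor k A k' →+* EGA4.CTensor k (A ⧸ 𝔞) k', Function.Surjective Ψ₁ ∧
      (∀ a : A, Ψ₁ (algebraMap A (EGA4.CTensor k A k') a) =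
        algebraMap (A ⧸ 𝔞) (EGA4.CTensor k (A ⧸ 𝔞) k') (Ideal.Quotient.mk 𝔞 a)) ∧
      ∀ r, Ψ₁ r = 0 → r ∈ 𝔞.map (algebraMap A (EGA4.CTensor k A k')) := by
  classical
  haveI : IsAdicComplete (maximalIdeal k') k' := by
    rw [IsLocalRing.maximalIdeal_eq_bot]; infer_instance
  have hfg : (maximalIdeal A).FG := (isNoetherianRing_iff_ideal_fg A).mp inferInstance _
  obtain ⟨d, u, hspan⟩ := Submodule.fg_iff_exists_fin_generating_family.mp hfg
  have hu : ∀ i, u i ∈ maximalIdeal A := fun i => by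
    rw [← hspan]; exact Submodule.subset_span ⟨i, rfl⟩
  letI algP : Algebra (MvPowerSeries (Fin d) k) A := psAlgebra k A d u hu
  haveI : IsScalarTower k (MvPowerSeries (Fin d) k) A := psAlgebra_tower k A d u hu
  have huu : uu k A d = u := funext (fun i => psAlgebra_X k A d u hu i)
  have hX : ∀ i, uu k A d i ∈ maximalIdeal A := fun i => by rw [huu]; exact hu i
  have hN : maximalIdeal A ^ 1 ≤ Ideal.span (Set.range (uu k A d)) := by
    rw [huu, pow_one]; exact hspan.ge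
  haveI hfin : Module.Finite (MvPowerSeries (Fin d) k) A := finite_ps k A d hX 1 hN
  obtain ⟨e, he⟩ := exists_cTensor_equiv_swap k A k' d hX 1 hN
  -- the quotient
  have hlh : IsLocalHom (Ideal.Quotient.mk 𝔞) :=
    IsLocalHom.of_surjective _ Ideal.Quotient.mk_surjective
  have hmax : maximalIdeal (A ⧸ 𝔞) = (maximalIdeal A).map (Ideal.Quotient.mk 𝔞) := by
    apply le_antisymm
    · intro y hy
      obtain ⟨a, rfl⟩ := Ideal.Quotient.mk_surjective y
      apply Ideal.mem_map_of_mem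
      rw [mem_maximalIdeal, mem_nonunits_iff] at hy ⊢
      exact fun h => hy (h.map _)
    · rw [Ideal.map_le_iff_le_comap]
      intro a ha
      rw [Ideal.mem_comap, mem_maximalIdeal, mem_nonunits_iff]
      intro h
      exact (mem_maximalIdeal a).mp ha (IsLocalHom.map_nonunit a h)
  haveI : Module.Finite (MvPowerSeries (Fin d) k) (A ⧸ 𝔞) :=
    Module.Finite.of_surjective (Ideal.Quotient.mkₐ (MvPowerSeries (Fin d) k) 𝔞).toLinearMap
      Ideal.Quotient.mk_surjective
  have huu₁ : ∀ i, uu k (A ⧸ 𝔞) d i = Ideal.Quotient.mk 𝔞 (uu k A d i) := fun i => rfl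
  have hX₁ : ∀ i, uu k (A ⧸ 𝔞) d i ∈ maximalIdeal (A ⧸ 𝔞) := by
    intro i
    rw [huu₁, hmax]
    exact Ideal.mem_map_of_mem _ (hX i)
  have hN₁ : maximalIdeal (A ⧸ 𝔞) ^ 1 ≤ Ideal.span (Set.range (uu k (A ⧸ 𝔞) d)) := by
    rw [pow_one, hmax, ← hspan, ← huu]
    show Ideal.map _ (Ideal.span _) ≤ _
    rw [Ideal.map_span, ← Set.range_comp]
    exact Ideal.span_mono (by rintro _ ⟨i, rfl⟩; exact ⟨i, huu₁ i⟩)
  haveI : IsAdicComplete (maximalIdeal (A ⧸ 𝔞)) (A ⧸ 𝔞) :=
    Groth.Agent.Lib.Helper9.SemiLocalProd.isAdicComplete_maximalIdeal_of_finite A (A ⧸ 𝔞)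
  obtain ⟨e₁, he₁⟩ := exists_cTensor_equiv_swap k (A ⧸ 𝔞) k' d hX₁ 1 hN₁
  set P := MvPowerSeries (Fin d) k with hP
  set MB := MvPowerSeries (Fin d) k' with hMB
  have heA : ∀ a : A, e (algebraMap A (EGA4.CTensor k A k') a) = (1 : MB) ⊗ₜ[P] a := by
    intro a
    have h1 : algebraMap A (EGA4.CTensor k A k') a =
        AdicCompletion.of (EGA4.cTensorIdeal k A k') (A ⊗[k] k') (a ⊗ₜ[k] (1 : k')) := rfl
    rw [h1, he, Algebra.TensorProduct.comm_tmul, theta_tmul, map_one]
  have heA₁ : ∀ a : A ⧸ 𝔞, e₁ (algebraMap (A ⧸ 𝔞) (EGA4.CTensor k (A ⧸ 𝔞) k') a) =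
      (1 : MB) ⊗ₜ[P] a := by
    intro a
    have h1 : algebraMap (A ⧸ 𝔞) (EGA4.CTensor k (A ⧸ 𝔞) k') a =
        AdicCompletion.of (EGA4.cTensorIdeal k (A ⧸ 𝔞) k') ((A ⧸ 𝔞) ⊗[k] k')
          (a ⊗ₜ[k] (1 : k')) := rfl
    rw [h1, he₁, Algebra.TensorProduct.comm_tmul, theta_tmul, map_one]
  let τ : MB ⊗[P] A →ₐ[MB] MB ⊗[P] (A ⧸ 𝔞) :=
    Algebra.TensorProduct.map (AlgHom.id MB MB) (Ideal.Quotient.mkₐ P 𝔞)
  have hτ : ∀ (m : MB) (a : A), τ (m ⊗ₜ[P] a) = m ⊗ₜ[P] (Ideal.Quotient.mk 𝔞 a) := fun m a => rfl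
  have hτsurj : Function.Surjective τ := by
    intro z
    induction z using TensorProduct.induction_on with
    | zero => exact ⟨0, map_zero _⟩
    | tmul m b =>
      obtain ⟨a, rfl⟩ := Ideal.Quotient.mk_surjective b
      exact ⟨m ⊗ₜ[P] a, hτ m a⟩
    | add x y hx hy =>
      obtain ⟨x', rfl⟩ := hx
      obtain ⟨y', rfl⟩ := hy
      exact ⟨x' + y', map_add _ _ _⟩
  let Ψ₁ : EGA4.CTensor k A k' →+* EGA4.CTensor k (A ⧸ 𝔞) k' :=
    (e₁.symm : MB ⊗[P] (A ⧸ 𝔞) →+* _).comp (τ.toRingHom.comp (e : _ →+* MB ⊗[P] A))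
  have hΨ₁ : ∀ r, Ψ₁ r = e₁.symm (τ (e r)) := fun r => rfl
  refine ⟨Ψ₁, ?_, ?_, ?_⟩
  · intro y
    obtain ⟨z, hz⟩ := hτsurj (e₁ y)
    refine ⟨e.symm z, ?_⟩
    rw [hΨ₁, e.apply_symm_apply, hz, e₁.symm_apply_apply]
  · intro a
    rw [hΨ₁, heA, hτ, RingEquiv.symm_apply_eq, heA₁]
  · intro r hr
    rw [hΨ₁, RingEquiv.symm_apply_eq, map_zero] at hr
    -- kernel of τ
    let f : (𝔞.restrictScalars P) →ₗ[P] A := (𝔞.restrictScalars P).subtype
    let g : A →ₗ[P] (A ⧸ 𝔞) := (Ideal.Quotient.mkₐ P 𝔞).toLinearMap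
    have hfg : Function.Exact f g := by
      intro y
      constructor
      · intro hy
        exact ⟨⟨y, Ideal.Quotient.eq_zero_iff_mem.mp hy⟩, rfl⟩
      · rintro ⟨⟨y', hy'⟩, rfl⟩
        exact Ideal.Quotient.eq_zero_iff_mem.mpr hy'
    have hg : Function.Surjective g := Ideal.Quotient.mk_surjective
    have hex := lTensor_exact MB hfg hg
    have h1 : (LinearMap.lTensor MB g) (e r) = 0 := by
      have : ∀ z, (LinearMap.lTensor MB g) z = τ z := by
        intro z
        induction z using TensorProduct.induction_on with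
        | zero => rw [map_zero, map_zero]
        | tmul m a => rw [LinearMap.lTensor_tmul, hτ]; rfl
        | add x y hx hy => rw [map_add, map_add, hx, hy]
      rw [this, hr]
    obtain ⟨w, hw⟩ := (hex (e r)).mp h1
    have key : ∀ w : MB ⊗[P] (𝔞.restrictScalars P), e.symm ((LinearMap.lTensor MB f) w) ∈
        𝔞.map (algebraMap A (EGA4.CTensor k A k')) := by
      intro w
      induction w using TensorProduct.induction_on with
      | zero => rw [map_zero, map_zero]; exact zero_mem _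
      | tmul m a =>
        have h2 : (LinearMap.lTensor MB f) (m ⊗ₜ[P] a) =
            (m ⊗ₜ[P] (1 : A)) * ((1 : MB) ⊗ₜ[P] (a : A)) := by
          rw [LinearMap.lTensor_tmul, Algebra.TensorProduct.tmul_mul_tmul, mul_one, one_mul]
          rfl
        have h4 : e.symm ((1 : MB) ⊗ₜ[P] (a : A)) = algebraMap A (EGA4.CTensor k A k') (a : A) := by
          rw [RingEquiv.symm_apply_eq, heA]
        rw [h2, map_mul, h4]
        apply Ideal.mul_mem_left
        exact Ideal.mem_map_of_mem _ a.2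
      | add x y hx hy => rw [map_add, map_add]; exact Ideal.add_mem _ hx hy
    have h3 := key w
    rw [hw, e.symm_apply_apply] at h3
    exact h3

end StepA

end T3851
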