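import Groth.Agent.scratch.T3851d

set_option autoImplicit false
set_option linter.unusedSectionVars false
set_option linter.style.haveILetI false
universe u

namespace T3851
open IsLocalRing TensorProduct MvPowerSeries

section EtBC

variable {R R' S : Type u} [CommRing R] [CommRing R'] [CommRing S] [Algebra R R'] [Algebra R S]
  (p : Ideal S) [p.IsPrime]

/-- étaleness at a prime is stable under base change. -/
theorem formallyEtale_tensor_atPrime [Algebra.FormallyEtale R (Localization.AtPrime p)]
    (P : Ideal (R' ⊗[R] S)) [P.IsPrime]
    (hP : P.comap (Algebra.TensorProduct.includeRight : S →ₐ[R] R' ⊗[R] S).toRingHom = p) :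
    Algebra.FormallyEtale R' (Localization.AtPrime P) := by
  set M' : Submonoid (R' ⊗[R] S) :=
    p.primeCompl.map (Algebra.TensorProduct.includeRight (R := R) (A := R')) with hM'
  have hle : M' ≤ P.primeCompl := by
    rintro _ ⟨s, hs, rfl⟩
    intro h
    apply hs
    rw [← hP]
    exact h
  let e := IsLocalization.tensorProductEquivOfMapIncludeRight R R' p.primeCompl
    (Localization.AtPrime p) (Localization M')
  haveI h1 : Algebra.FormallyEtale R' (R' ⊗[R] Localization.AtPrime p) := inferInstance
  haveI h2 : Algebra.FormallyEtale R' (Localization M') := Algebra.FormallyEtale.of_equiv e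
  -- the further localization
  let φ : Localization M' →+* Localization.AtPrime P :=
    IsLocalization.lift (M := M') (g := algebraMap (R' ⊗[R] S) (Localization.AtPrime P))
      (fun y => IsLocalization.map_units (Localization.AtPrime P) (⟨y, hle y.2⟩ : P.primeCompl))
  letI : Algebra (Localization M') (Localization.AtPrime P) := φ.toAlgebra
  haveI : IsScalarTower (R' ⊗[R] S) (Localization M') (Localization.AtPrime P) := by
    refine ⟨fun x y z => ?_⟩
    rw [Algebra.smul_def, Algebra.smul_def, Algebra.smul_def, map_mul, mul_assoc]
    congr 1
    exact IsLocalization.lift_eq _ x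
  haveI : IsLocalization (P.primeCompl.map (algebraMap (R' ⊗[R] S) (Localization M')))
      (Localization.AtPrime P) :=
    IsLocalization.isLocalization_of_submonoid_le (Localization M') (Localization.AtPrime P)
      M' P.primeCompl hle
  haveI h3 : Algebra.FormallyEtale (Localization M') (Localization.AtPrime P) :=
    Algebra.FormallyEtale.of_isLocalization
      (P.primeCompl.map (algebraMap (R' ⊗[R] S) (Localization M')))
  haveI : IsScalarTower R' (Localization M') (Localization.AtPrime P) := by
    refine ⟨fun x y z => ?_⟩
    rw [Algebra.smul_def, Algebra.smul_def, Algebra.smul_def, map_mul, mul_assoc]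
    congr 1
    rw [IsScalarTower.algebraMap_apply R' (R' ⊗[R] S) (Localization M'),
      ← IsScalarTower.algebraMap_apply (R' ⊗[R] S) (Localization M') (Localization.AtPrime P),
      ← IsScalarTower.algebraMap_apply R' (R' ⊗[R] S) (Localization.AtPrime P)]
  exact Algebra.FormallyEtale.comp R' (Localization M') (Localization.AtPrime P)

end EtBC

end T3851
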