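import Groth.Agent.scratch.T3851e

set_option autoImplicit false
set_option linter.unusedSectionVars false
set_option linter.style.haveILetI false
universe u

namespace T3851
open IsLocalRing TensorProduct MvPowerSeries
open Groth.Agent.Lib.Helper23.CTens Groth.Agent.Lib.Helper1.ArtFunLib
  Groth.Agent.Lib.Helper23.CTensStr Groth.Agent.Lib.Helper23.CTensFld
open Groth.Agent.Lib.Helper23.CK Groth.Agent.Lib.Helper21.ChartPt

section BA

variable (k A k' : Type u) [Field k] [CommRing A] [IsNoetherianRing A] [IsLocalRing A] [Algebra k A]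
  [IsAdicComplete (maximalIdeal A) A] [Module.Finite k (ResidueField A)]
  [Field k'] [Algebra k k'] (p : Ideal A) [p.IsPrime]

set_option maxHeartbeats 1000000 in
/-- (b) ⇒ (a), core: regularity of the completed base change at primes over `p`. -/
theorem regular_of_etale [IsLocalRing (A ⧸ kerLoc p)]
    [(p.map (Ideal.Quotient.mk (kerLoc p))).IsPrime] (n : ℕ)
    [Algebra (MvPowerSeries (Fin n) k) (A ⧸ kerLoc p)]
    [IsScalarTower k (MvPowerSeries (Fin n) k) (A ⧸ kerLoc p)]
    (hloc : IsLocalHom (algebraMap (MvPowerSeries (Fin n) k) (A ⧸ kerLoc p)))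
    [Module.Finite (MvPowerSeries (Fin n) k) (A ⧸ kerLoc p)]
    [het : Algebra.IsEtaleAt (MvPowerSeries (Fin n) k) (p.map (Ideal.Quotient.mk (kerLoc p)))]
    (p' : Ideal (EGA4.CTensor k A k')) [p'.IsPrime]
    (hp' : p'.comap (algebraMap A (EGA4.CTensor k A k')) = p) :
    IsRegularLocalRing (Localization.AtPrime p') := by
  classical
  have hKp : (kerLoc p) ≤ p := kerLoc_le p
  have hcomap : (p.map (Ideal.Quotient.mk (kerLoc p))).comap (Ideal.Quotient.mk (kerLoc p)) = p := comap_map_mk (kerLoc p) p hKp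
  haveI : IsAdicComplete (maximalIdeal k') k' := by
    rw [IsLocalRing.maximalIdeal_eq_bot]; infer_instance
  obtain ⟨Ψ₁, hsurj₁, hcompat₁, hker₁⟩ := exists_cTensor_quot k A k' (kerLoc p)
  have hXT : ∀ i, uu k (A ⧸ (kerLoc p)) n i ∈ maximalIdeal (A ⧸ (kerLoc p)) := by
    intro i
    rw [mem_maximalIdeal, mem_nonunits_iff]
    intro h
    have h1 := hloc.map_nonunit _ h
    exact (mem_maximalIdeal _).mp (PS.X_mem_maximalIdeal i) h1
  obtain ⟨N, hN⟩ := exists_pow_le_span k (A ⧸ (kerLoc p)) n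
  obtain ⟨eT, heT⟩ := exists_cTensor_equiv_swap k (A ⧸ (kerLoc p)) k' n hXT N hN
  set P := MvPowerSeries (Fin n) k with hP
  set MB := MvPowerSeries (Fin n) k' with hMB
  have heA₁ : ∀ a : A ⧸ (kerLoc p), eT (algebraMap (A ⧸ (kerLoc p)) (EGA4.CTensor k (A ⧸ (kerLoc p)) k') a) =
      (1 : MB) ⊗ₜ[P] a := by
    intro a
    have h1 : algebraMap (A ⧸ (kerLoc p)) (EGA4.CTensor k (A ⧸ (kerLoc p)) k') a =
        AdicCompletion.of (EGA4.cTensorIdeal k (A ⧸ (kerLoc p)) k') ((A ⧸ (kerLoc p)) ⊗[k] k')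
          (a ⊗ₜ[k] (1 : k')) := rfl
    rw [h1, heT, Algebra.TensorProduct.comm_tmul, theta_tmul, map_one]
  let Ψ : EGA4.CTensor k A k' →+* MB ⊗[P] (A ⧸ (kerLoc p)) := (eT : _ →+* MB ⊗[P] (A ⧸ (kerLoc p))).comp Ψ₁
  have hΨ : ∀ r, Ψ r = eT (Ψ₁ r) := fun r => rfl
  have hΨsurj : Function.Surjective Ψ := eT.surjective.comp hsurj₁
  have hΨcompat : ∀ a : A, Ψ (algebraMap A (EGA4.CTensor k A k') a) =
      (1 : MB) ⊗ₜ[P] (Ideal.Quotient.mk (kerLoc p) a) := by
    intro a
    rw [hΨ, hcompat₁, heA₁]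
  have hΨker : ∀ r, Ψ r = 0 → r ∈ (kerLoc p).map (algebraMap A (EGA4.CTensor k A k')) := by
    intro r hr
    apply hker₁
    rw [hΨ] at hr
    exact eT.injective (hr.trans (map_zero _).symm)
  have hkill : ∀ r ∈ (kerLoc p).map (algebraMap A (EGA4.CTensor k A k')), ∃ s, s ∉ p' ∧ s * r = 0 := by
    intro r hr
    have key : ∃ s : A, s ∉ p ∧ algebraMap A (EGA4.CTensor k A k') s * r = 0 := by
      unfold Ideal.map at hr
      induction hr using Submodule.span_induction with
      | mem x hx =>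
        obtain ⟨a, ha, rfl⟩ := hx
        obtain ⟨s, hs, hsa⟩ := (mem_kerLoc_iff p a).mp ha
        exact ⟨s, hs, by rw [← map_mul, hsa, map_zero]⟩
      | zero => exact ⟨1, fun h => (Ideal.IsPrime.ne_top inferInstance)
          ((Ideal.eq_top_iff_one p).mpr h), mul_zero _⟩
      | add x y _ _ hx hy =>
        obtain ⟨s, hs, hsx⟩ := hx
        obtain ⟨t, ht, hty⟩ := hy
        refine ⟨s * t, p.primeCompl.mul_mem hs ht, ?_⟩
        rw [map_mul, mul_add]
        have e1 : algebraMap A (EGA4.CTensor k A k') s * algebraMap A _ t * x =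
            algebraMap A _ t * (algebraMap A _ s * x) := by ring
        have e2 : algebraMap A (EGA4.CTensor k A k') s * algebraMap A _ t * y =
            algebraMap A _ s * (algebraMap A _ t * y) := by ring
        rw [e1, e2, hsx, hty, mul_zero, mul_zero, add_zero]
      | smul c x _ hx =>
        obtain ⟨s, hs, hsx⟩ := hx
        refine ⟨s, hs, ?_⟩
        rw [smul_eq_mul, mul_left_comm, hsx, mul_zero]
    obtain ⟨s, hs, hsr⟩ := key
    refine ⟨algebraMap A _ s, fun h => hs ?_, hsr⟩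
    rw [← hp']
    exact h
  have hkerle : RingHom.ker Ψ ≤ p' := by
    intro r hr
    have h1 := hΨker r hr
    have h2 : (kerLoc p).map (algebraMap A (EGA4.CTensor k A k')) ≤ p' := by
      rw [Ideal.map_le_iff_le_comap, hp']
      exact hKp
    exact h2 h1
  haveI hP''prime : (p'.map Ψ).IsPrime := Ideal.map_isPrime_of_surjective hΨsurj hkerle
  have hcomapP'' : (p'.map Ψ).comap Ψ = p' := by
    rw [Ideal.comap_map_of_surjective' Ψ hΨsurj]
    exact sup_eq_left.mpr hkerle
  obtain ⟨ε, -⟩ := exists_ringEquiv_of_surjective Ψ (p'.map Ψ) p' hΨsurj hcomapP''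
    (fun r hr => hkill r (hΨker r hr))
  -- the prime lies over `(p.map (Ideal.Quotient.mk (kerLoc p)))`
  have hover : (p'.map Ψ).comap
      (Algebra.TensorProduct.includeRight : (A ⧸ (kerLoc p)) →ₐ[P] MB ⊗[P] (A ⧸ (kerLoc p))).toRingHom = (p.map (Ideal.Quotient.mk (kerLoc p))) := by
    apply Ideal.comap_injective_of_surjective (Ideal.Quotient.mk (kerLoc p)) Ideal.Quotient.mk_surjective
    rw [hcomap]
    have h1 : p = Ideal.comap (algebraMap A (EGA4.CTensor k A k'))
        (Ideal.comap Ψ (Ideal.map Ψ p')) := by rw [hcomapP'', hp']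
    rw [Ideal.comap_comap]
    conv_rhs => rw [h1, Ideal.comap_comap]
    congr 1
    refine RingHom.ext fun a => ?_
    exact (hΨcompat a).symm
  haveI : Algebra.FormallyEtale P (Localization.AtPrime (p.map (Ideal.Quotient.mk (kerLoc p)))) := het
  haveI := formallyEtale_tensor_atPrime (R := P) (R' := MB) (S := A ⧸ (kerLoc p)) (p.map (Ideal.Quotient.mk (kerLoc p))) (p'.map Ψ) hover
  haveI : IsNoetherianRing (MB ⊗[P] (A ⧸ (kerLoc p))) := IsNoetherianRing.of_finite MB _
  haveI : IsNoetherianRing (Localization.AtPrime (p'.map Ψ)) :=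
    IsLocalization.isNoetherianRing (p'.map Ψ).primeCompl _ inferInstance
  have hgr : CAlg.IsGeometricallyRegular k' (Localization.AtPrime (p'.map Ψ)) :=
    geomRegular_of_formallySmooth (geomRegular_mvPowerSeries k' n) (p'.map Ψ)
  haveI := Groth.Agent.Lib.Helper18.PMor.isRegularRing_of_isGeometricallyRegular hgr
  haveI : IsRegularLocalRing (Localization.AtPrime (p'.map Ψ)) :=
    .of_isRegularRing_of_isLocalRing _
  exact IsRegularLocalRing.of_ringEquiv ε.symm

end BA

end T3851
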