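import Groth.Agent.scratch.T3851f

set_option autoImplicit false
set_option linter.unusedSectionVars false
set_option linter.style.haveILetI false
universe u

namespace T3851
open IsLocalRing TensorProduct

section Ext

variable {R E : Type*} [CommRing R] [CommRing E] (I : Ideal R) (J : Ideal E) (ψ₀ : R →+* E)
  (hψ : ∀ j : ℕ, I ^ (j + 1) ≤ (J ^ j).comap ψ₀)

/-- shifted level maps. -/
noncomputable def slvl (j : ℕ) : AdicCompletion I R →+* E ⧸ J ^ j :=
  (Ideal.quotientMap (J ^ j) ψ₀ (hψ j)).comp (AdicCompletion.evalₐ I (j + 1)).toRingHom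

theorem slvl_mk (j : ℕ) (a : AdicCompletion.AdicCauchySequence I R) :
    slvl I J ψ₀ hψ j (AdicCompletion.mk I R a) = Ideal.Quotient.mk (J ^ j) (ψ₀ (a (j + 1))) := by
  unfold slvl
  rw [RingHom.comp_apply]
  change Ideal.quotientMap _ ψ₀ _ (AdicCompletion.evalₐ I (j + 1) (AdicCompletion.mk I R a)) = _
  rw [AdicCompletion.evalₐ_mk, Ideal.quotientMap_mk]

theorem slvl_compat {m n : ℕ} (hmn : m ≤ n) :
    (Ideal.Quotient.factorPow J hmn).comp (slvl I J ψ₀ hψ n) = slvl I J ψ₀ hψ m := by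
  ext x
  obtain ⟨a, rfl⟩ := AdicCompletion.mk_surjective I R x
  rw [RingHom.comp_apply, slvl_mk, slvl_mk]
  change Ideal.Quotient.mk _ _ = _
  rw [Ideal.Quotient.eq, ← map_sub]
  have h := a.2 (Nat.succ_le_succ hmn)
  rw [SModEq.sub_mem, smul_eq_mul, Ideal.mul_top] at h
  have h' : (a : ℕ → R) (n + 1) - (a : ℕ → R) (m + 1) ∈ I ^ (m + 1) := by
    rw [← neg_sub]; exact (I ^ (m + 1)).neg_mem h
  exact hψ m h'

include hψ in
/-- extension by continuity of a ring map losing one power of the ideal. -/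
theorem exists_extension [IsAdicComplete J E] :
    ∃ ψ₁ : AdicCompletion I R →+* E, (∀ r, ψ₁ (AdicCompletion.of I R r) = ψ₀ r) ∧
      ∀ (j : ℕ) (x : AdicCompletion I R) (r : R),
        AdicCompletion.evalₐ I (j + 1) x = Ideal.Quotient.mk (I ^ (j + 1)) r →
          ψ₁ x - ψ₀ r ∈ J ^ j := by
  let Φ : AdicCompletion I R →+* E :=
    IsAdicComplete.liftRingHom J (slvl I J ψ₀ hψ) (fun hle => slvl_compat I J ψ₀ hψ hle)
  have hΦ : ∀ n x, Ideal.Quotient.mk (J ^ n) (Φ x) = slvl I J ψ₀ hψ n x := fun n x =>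
    IsAdicComplete.mk_liftRingHom J _ _ n x
  have key : ∀ (j : ℕ) (x : AdicCompletion I R) (r : R),
      AdicCompletion.evalₐ I (j + 1) x = Ideal.Quotient.mk (I ^ (j + 1)) r →
        Φ x - ψ₀ r ∈ J ^ j := by
    intro j x r hx
    rw [← Ideal.Quotient.eq, hΦ]
    unfold slvl
    rw [RingHom.comp_apply]
    change Ideal.quotientMap _ ψ₀ _ (AdicCompletion.evalₐ I (j + 1) x) = _
    rw [hx, Ideal.quotientMap_mk]
  refine ⟨Φ, fun r => ?_, key⟩
  have h1 : ∀ j, Φ (AdicCompletion.of I R r) - ψ₀ r ∈ J ^ j := fun j =>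
    key j _ r (AdicCompletion.evalₐ_of I (j + 1) r)
  have h2 : Φ (AdicCompletion.of I R r) - ψ₀ r ∈ (⨅ j : ℕ, J ^ j) := (Ideal.mem_iInf).mpr h1
  have h3 : (⨅ j : ℕ, J ^ j) = ⊥ := by
    have := (IsHausdorff.iInf_pow_smul (I := J) (M := E)) inferInstance
    simpa [smul_eq_mul, Ideal.mul_top] using this
  rw [h3, Ideal.mem_bot, sub_eq_zero] at h2
  exact h2

end Ext

end T3851
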