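import Groth.Agent.scratch.T3851g

set_option autoImplicit false
set_option linter.unusedSectionVars false
set_option linter.style.haveILetI false
universe u

namespace T3851
open IsLocalRing TensorProduct TrivSqZeroExt KaehlerDifferential
open Groth.Agent.Lib.Helper23.CompletedKaehlerSep Groth.Agent.Lib.Helper23.CK

section Pow

variable {L N : Type u} [CommRing L] [IsLocalRing L] [AddCommGroup N] [Module L N]
  [Module Lᵐᵒᵖ N] [IsCentralScalar L N]

/-- elements with first component in the maximal ideal. -/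
theorem fst_pow_le (j : ℕ) :
    ((maximalIdeal L).comap (fstHom L L N).toRingHom) ^ (j + 1) ≤
      ((maximalIdeal L).map (algebraMap L (TrivSqZeroExt L N))) ^ j := by
  set K := (maximalIdeal L).comap (fstHom L L N).toRingHom with hK
  set 𝔪E := (maximalIdeal L).map (algebraMap L (TrivSqZeroExt L N)) with h𝔪E
  set 𝔫 : Ideal (TrivSqZeroExt L N) := RingHom.ker (fstHom L L N).toRingHom with h𝔫
  have h𝔫2 : 𝔫 * 𝔫 = ⊥ := by
    rw [eq_bot_iff, Ideal.mul_le]
    intro x hx y hy
    rw [Ideal.mem_bot]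
    have hx0 : x.fst = 0 := hx
    have hy0 : y.fst = 0 := hy
    apply TrivSqZeroExt.ext
    · rw [TrivSqZeroExt.fst_mul, hx0, zero_mul]; rfl
    · rw [TrivSqZeroExt.snd_mul, hx0, hy0, zero_smul, MulOpposite.op_zero, zero_smul, add_zero]
      rfl
  have hKle : K ≤ 𝔪E ⊔ 𝔫 := by
    intro x hx
    have hx' : x.fst ∈ maximalIdeal L := hx
    have h1 : x = algebraMap L (TrivSqZeroExt L N) x.fst + inr x.snd := by
      apply TrivSqZeroExt.ext
      · simp [TrivSqZeroExt.algebraMap_eq_inl]
      · simp [TrivSqZeroExt.algebraMap_eq_inl]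
    rw [h1]
    refine Ideal.add_mem _ (Ideal.mem_sup_left (Ideal.mem_map_of_mem _ hx')) (Ideal.mem_sup_right ?_)
    show (fstHom L L N) (inr x.snd) = 0
    simp
  have key : ∀ j : ℕ, K ^ (j + 1) ≤ 𝔪E ^ (j + 1) ⊔ 𝔪E ^ j * 𝔫 := by
    intro j
    induction j with
    | zero => simpa using hKle
    | succ j ih =>
      rw [pow_succ]
      refine (Ideal.mul_mono ih hKle).trans ?_
      rw [Ideal.sup_mul, Ideal.mul_sup, Ideal.mul_sup]
      refine sup_le (sup_le ?_ ?_) (sup_le ?_ ?_)
      · rw [← pow_succ]; exact le_sup_left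
      · exact le_sup_right
      · rw [mul_assoc, mul_comm 𝔫 𝔪E, ← mul_assoc, ← pow_succ]; exact le_sup_right
      · rw [mul_assoc, h𝔫2, Ideal.mul_bot]; exact bot_le
  refine (key j).trans (sup_le (Ideal.pow_le_pow_right (Nat.le_succ j)) Ideal.mul_le_left)

end Pow

end T3851
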