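import Groth.Agent.scratch.T3851h
import Groth.Agent.S0499

set_option autoImplicit false
set_option linter.unusedSectionVars false
set_option linter.style.haveILetI false
universe u

namespace T3851
open IsLocalRing TensorProduct MvPowerSeries
open Groth.Agent.Lib.Helper23.CTens Groth.Agent.Lib.Helper1.ArtFunLib
  Groth.Agent.Lib.Helper23.CTensStr Groth.Agent.Lib.Helper23.CTensFld

section Pkg

variable (k A k' : Type u) [Field k] [CommRing A] [IsNoetherianRing A] [IsLocalRing A] [Algebra k A]
  [IsAdicComplete (maximalIdeal A) A] [Module.Finite k (ResidueField A)]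
  [Field k'] [Algebra k k']

set_option maxHeartbeats 1000000 in
/-- the local rings of the completed tensor product at maximal ideals. -/
theorem local_pkg (M : Ideal (EGA4.CTensor k A k')) [hM : M.IsMaximal] :
    IsNoetherianRing (EGA4.CTensor k A k') ∧
    IsNoetherianRing (Localization.AtPrime M) ∧
    IsAdicComplete (maximalIdeal (Localization.AtPrime M)) (Localization.AtPrime M) ∧
    Function.Surjective (algebraMap (EGA4.CTensor k A k') (Localization.AtPrime M)) ∧
    Module.Flat A (Localization.AtPrime M) ∧
    IsLocalHom (algebraMap A (Localization.AtPrime M)) ∧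
    (∀ J : Ideal (Localization.AtPrime M),
      (maximalIdeal A).map (algebraMap A (Localization.AtPrime M)) ≤ J → J ≠ ⊤ →
        ringKrullDim (Localization.AtPrime M ⧸ J) = 0) ∧
    ((algebraMap (Localization.AtPrime M) (ResidueField (Localization.AtPrime M))).comp
      ((algebraMap (EGA4.CTensor k A k') (Localization.AtPrime M)).comp
        ((algebraMap (A ⊗[k] k') (EGA4.CTensor k A k')).comp
          (Algebra.TensorProduct.includeRight (R := k) (A := A) (B := k')).toRingHom))).Finite := by
  classical
  obtain ⟨d, algMB, hfinMB, hflat, hmax, hC⟩ := structure_pkg k A k'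
  set MB := MvPowerSeries (Fin d) k' with hMB
  set CC := EGA4.CTensor k A k' with hCC
  letI := algMB
  haveI := hfinMB
  haveI := hflat
  haveI : IsAdicComplete (maximalIdeal MB) MB := by
    rw [maximalIdeal_mvPowerSeries_eq_span]
    infer_instance
  haveI hNCC : IsNoetherianRing CC := IsNoetherianRing.of_finite MB CC
  haveI : HenselianLocalRing MB :=
    Groth.Agent.Lib.Helper25.henselianLocalRing_of_isAdicComplete MB
  obtain ⟨ι, hι, Afam, hcr, hloc, ⟨eqv⟩⟩ := Groth.Agent.S0499.result MB CC
  let φ : ∀ i, CC →+* Afam i := fun i => (Pi.evalRingHom Afam i).comp eqv.toRingHom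
  have hΦ : Function.Bijective (RingHom.pi φ) := eqv.bijective
  set L := Localization.AtPrime M with hL
  have hsurj : Function.Surjective (algebraMap CC L) :=
    Groth.Agent.Lib.Helper9.SemiLocalProd.algebraMap_localization_surjective' (φ := φ) hΦ M
  haveI hfinL : Module.Finite MB L :=
    Module.Finite.of_surjective (IsScalarTower.toAlgHom MB CC L).toLinearMap hsurj
  have hcomap := Groth.Agent.Lib.Helper21.BrR.comap_maximal MB CC ⟨M, hM⟩
  have hmapM : (maximalIdeal A).map (algebraMap A CC) ≤ M := by
    rw [← hmax, Ideal.map_le_iff_le_comap, hcomap]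
  have hmapL : (maximalIdeal A).map (algebraMap A L) =
      (maximalIdeal MB).map (algebraMap MB L) := by
    rw [IsScalarTower.algebraMap_eq A CC L, IsScalarTower.algebraMap_eq MB CC L,
      ← Ideal.map_map, ← Ideal.map_map, hmax]
  have hmem : ∀ a ∈ maximalIdeal A, algebraMap A L a ∈ maximalIdeal L := by
    intro a ha
    rw [IsScalarTower.algebraMap_apply A CC L,
      IsLocalization.AtPrime.to_map_mem_maximal_iff L M]
    exact hmapM (Ideal.mem_map_of_mem _ ha)
  have hlocal : IsLocalHom (algebraMap A L) := by
    refine ⟨fun a ha => ?_⟩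
    by_contra hna
    have h1 : a ∈ maximalIdeal A := (IsLocalRing.mem_maximalIdeal a).mpr hna
    exact (IsLocalRing.mem_maximalIdeal _).mp (hmem a h1) ha
  haveI : Module.Flat CC L := IsLocalization.flat L M.primeCompl
  have hflatL : Module.Flat A L := Module.Flat.trans A CC L
  haveI hNL : IsNoetherianRing L := IsNoetherianRing.of_finite MB L
  refine ⟨hNCC, hNL, ?_, hsurj, hflatL, hlocal, ?_, ?_⟩
  · exact Groth.Agent.Lib.Helper9.SemiLocalProd.isAdicComplete_maximalIdeal_of_finite MB L
  · intro J hJ hJ'
    apply ringKrullDim_quot_eq_zero MB L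
    · rw [← hmapL]; exact hJ
    · exact hJ'
  · letI algk' : Algebra k' CC :=
      ((algebraMap (A ⊗[k] k') CC).comp
        (Algebra.TensorProduct.includeRight (R := k) (A := A) (B := k')).toRingHom).toAlgebra
    haveI : IsScalarTower k' MB CC := IsScalarTower.of_algebraMap_eq (fun c => by
      rw [MvPowerSeries.algebraMap_apply, Algebra.algebraMap_self, RingHom.id_apply, hC]
      rfl)
    have hXM : ∀ i, algebraMap MB CC (X i) ∈ M := by
      intro i
      have h2 : (X i : MB) ∈ maximalIdeal MB := PS.X_mem_maximalIdeal i
      rw [← hcomap] at h2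
      exact h2
    have hfin : Module.Finite k' (CC ⧸ M) :=
      finite_quotient_of_X_mem k' d CC M hXM
    have h3 : (algebraMap k' (CC ⧸ M)).Finite := RingHom.finite_algebraMap.mpr hfin
    -- transfer along CC ⧸ M → residue field of L
    let ρ : CC →+* ResidueField L := (algebraMap L (ResidueField L)).comp (algebraMap CC L)
    have hρ : ∀ x ∈ M, ρ x = 0 := by
      intro x hx
      show algebraMap L (ResidueField L) (algebraMap CC L x) = 0
      rw [IsLocalRing.ResidueField.algebraMap_eq, IsLocalRing.residue_eq_zero_iff,
        IsLocalization.AtPrime.to_map_mem_maximal_iff L M]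
      exact hx
    let ρ' : CC ⧸ M →+* ResidueField L := Ideal.Quotient.lift M ρ hρ
    have hρ'surj : Function.Surjective ρ' := by
      apply Ideal.Quotient.lift_surjective_of_surjective
      exact (IsLocalRing.residue_surjective).comp hsurj
    have h4 : (ρ'.comp (algebraMap k' (CC ⧸ M))).Finite :=
      (RingHom.Finite.of_surjective ρ' hρ'surj).comp h3 |> fun h => h
    convert h4 using 1
    ext c
    rfl
end Pkg

end T3851
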