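import Groth.Agent.scratch.T3851i

set_option autoImplicit false
set_option linter.unusedSectionVars false
set_option linter.style.haveILetI false
universe u

namespace T3851
open IsLocalRing TensorProduct TrivSqZeroExt KaehlerDifferential
open Groth.Agent.Lib.Helper23.CompletedKaehlerSep Groth.Agent.Lib.Helper23.CK
open Groth.Agent.Lib.Helper23.CTensFld

section Uniq

variable {R L : Type*} [CommRing R] [CommRing L] (I : Ideal R) (𝔪 : Ideal L)

/-- two ring maps out of an adic completion into a separated ring agreeing on `R` and sending `I`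
into `𝔪` are equal. -/
theorem adic_hom_ext (hI : I.FG) (hH : (⨅ j : ℕ, 𝔪 ^ j) = ⊥)
    (f g : AdicCompletion I R →+* L)
    (hf : ∀ i ∈ I, f (AdicCompletion.of I R i) ∈ 𝔪)
    (hg : ∀ i ∈ I, g (AdicCompletion.of I R i) ∈ 𝔪)
    (h : ∀ r, f (AdicCompletion.of I R r) = g (AdicCompletion.of I R r)) : f = g := by
  have key : ∀ (φ : AdicCompletion I R →+* L), (∀ i ∈ I, φ (AdicCompletion.of I R i) ∈ 𝔪) →
      ∀ (j : ℕ) (y : AdicCompletion I R), y ∈ (I ^ j • ⊤ : Submodule R (AdicCompletion I R)) →
        φ y ∈ 𝔪 ^ j := by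
    intro φ hφ j y hy
    have hpow : ∀ i ∈ I ^ j, φ (AdicCompletion.of I R i) ∈ 𝔪 ^ j := by
      intro i hi
      have h1 : I ^ j ≤ (𝔪 ^ j).comap (φ.comp (algebraMap R (AdicCompletion I R))) := by
        refine (Ideal.pow_right_mono (fun i hi => ?_) j).trans (Ideal.le_comap_pow _ j)
        exact hφ i hi
      exact h1 hi
    refine Submodule.smul_induction_on hy ?_ ?_
    · intro i hi z _
      have h1 : i • z = AdicCompletion.of I R i * z := by
        rw [Algebra.smul_def]; rfl
      rw [h1, map_mul]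
      exact Ideal.mul_mem_right _ _ (hpow i hi)
    · intro x y hx hy
      rw [map_add]; exact Ideal.add_mem _ hx hy
  ext x
  have h2 : ∀ j : ℕ, f x - g x ∈ 𝔪 ^ j := by
    intro j
    obtain ⟨r, hr⟩ := Submodule.Quotient.mk_surjective _ (AdicCompletion.eval I R j x)
    have h3 : x - AdicCompletion.of I R r ∈ (I ^ j • ⊤ : Submodule R (AdicCompletion I R)) := by
      rw [AdicCompletion.pow_smul_top_eq_ker_eval hI, LinearMap.mem_ker, map_sub, sub_eq_zero,
        ← hr]
      rfl
    have h5 : f x - g x = f (x - AdicCompletion.of I R r) - g (x - AdicCompletion.of I R r) := by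
      rw [map_sub, map_sub, h]; ring
    rw [h5]
    exact Ideal.sub_mem _ (key f hf j _ h3) (key g hg j _ h3)
  have h6 : f x - g x ∈ (⨅ j : ℕ, 𝔪 ^ j) := Ideal.mem_iInf.mpr h2
  rw [hH, Ideal.mem_bot, sub_eq_zero] at h6
  exact h6

end Uniq

section Surj

variable (k A k' : Type u) [Field k] [CommRing A] [IsNoetherianRing A] [IsLocalRing A] [Algebra k A]
  [IsAdicComplete (maximalIdeal A) A] [Module.Finite k (ResidueField A)]
  [Field k'] [Algebra k k']

set_option maxHeartbeats 1600000 in
/-- the completed differentials of the local rings of the completed base change surject onto the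
base change of the completed differentials. -/
theorem exists_surjection_kaehler (M : Ideal (EGA4.CTensor k A k')) [M.IsMaximal]
    [Algebra k' (Localization.AtPrime M)]
    (halg : ∀ c : k', algebraMap k' (Localization.AtPrime M) c =
      algebraMap (EGA4.CTensor k A k') (Localization.AtPrime M)
        (AdicCompletion.of (EGA4.cTensorIdeal k A k') (A ⊗[k] k') ((1 : A) ⊗ₜ[k] c)))
    [IsNoetherianRing (Localization.AtPrime M)]
    [IsAdicComplete (maximalIdeal (Localization.AtPrime M)) (Localization.AtPrime M)]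
    [Module.Finite k' (ResidueField (Localization.AtPrime M))]
    (hloc : IsLocalHom (algebraMap A (Localization.AtPrime M))) :
    ∃ l : AdicCompletion (maximalIdeal (Localization.AtPrime M)) (Ω[Localization.AtPrime M⁄k']) →ₗ[Localization.AtPrime M]
        (Localization.AtPrime M) ⊗[A] AdicCompletion (maximalIdeal A) (Ω[A⁄k]),
      Function.Surjective l := by
  classical
  set L := Localization.AtPrime M with hL
  set CC := EGA4.CTensor k A k' with hCC
  set Ωh := AdicCompletion (maximalIdeal A) (Ω[A⁄k]) with hΩh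
  haveI := finite_mhat' (k := k) (A := A)
  haveI : Module.Finite L (L ⊗[A] Ωh) := inferInstance
  have hsmulA : ∀ (a : A) (m : Ωh),
      (1 : L) ⊗ₜ[A] (a • m) = algebraMap A L a • ((1 : L) ⊗ₜ[A] m) := by
    intro a m
    rw [TensorProduct.smul_tmul', ← TensorProduct.smul_tmul, smul_eq_mul, mul_one,
      Algebra.algebraMap_eq_smul_one]
  let α : A →+* TrivSqZeroExt L (L ⊗[A] Ωh) :=
    { toFun := fun a => TrivSqZeroExt.inl (algebraMap A L a) +
        TrivSqZeroExt.inr ((1 : L) ⊗ₜ[A] dhat (k := k) a)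
      map_one' := by simp
      map_mul' := fun a b => by
        apply TrivSqZeroExt.ext
        · simp
        · simp only [TrivSqZeroExt.snd_add, TrivSqZeroExt.snd_inl, TrivSqZeroExt.snd_inr, zero_add,
            TrivSqZeroExt.snd_mul, TrivSqZeroExt.fst_add, TrivSqZeroExt.fst_inl,
            TrivSqZeroExt.fst_inr, add_zero, op_smul_eq_smul, Derivation.leibniz,
            TensorProduct.tmul_add, hsmulA]
      map_zero' := by simp
      map_add' := fun a b => by
        apply TrivSqZeroExt.ext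
        · simp
        · simp [TensorProduct.tmul_add] }
  have hα : ∀ a, α a = TrivSqZeroExt.inl (algebraMap A L a) +
        TrivSqZeroExt.inr ((1 : L) ⊗ₜ[A] dhat (k := k) a) := fun a => rfl
  let β : k' →+* TrivSqZeroExt L (L ⊗[A] Ωh) :=
    (TrivSqZeroExt.inlHom L (L ⊗[A] Ωh)).comp (algebraMap k' L)
  have hβ : ∀ c, β c = TrivSqZeroExt.inl (algebraMap k' L c) := fun c => rfl
  have hof : ∀ a : A, algebraMap A L a = algebraMap CC L
      (AdicCompletion.of (EGA4.cTensorIdeal k A k') (A ⊗[k] k') (a ⊗ₜ[k] (1 : k'))) := by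
    intro a
    rw [IsScalarTower.algebraMap_apply A CC L]
    rfl
  have hkk : ∀ c : k, algebraMap k' L (algebraMap k k' c) = algebraMap A L (algebraMap k A c) := by
    intro c
    rw [halg, hof, Algebra.TensorProduct.tmul_one_eq_one_tmul]
  have halgkE : ∀ c : k, algebraMap k (TrivSqZeroExt L (L ⊗[A] Ωh)) c =
      TrivSqZeroExt.inl (algebraMap k L c) := fun c => rfl
  have hkL : ∀ c : k, algebraMap k L c = algebraMap A L (algebraMap k A c) := by
    intro c
    rw [IsScalarTower.algebraMap_apply k A L]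
  let αₐ : A →ₐ[k] TrivSqZeroExt L (L ⊗[A] Ωh) :=
    { α with
      commutes' := fun c => by
        show α (algebraMap k A c) = _
        rw [halgkE, hα, hkL, Derivation.map_algebraMap, TensorProduct.tmul_zero,
          TrivSqZeroExt.inr_zero, add_zero] }
  let βₐ : k' →ₐ[k] TrivSqZeroExt L (L ⊗[A] Ωh) :=
    { β with
      commutes' := fun c => by
        show β (algebraMap k k' c) = _
        rw [hβ, halgkE, hkk, hkL] }
  let ψ₀ₐ : A ⊗[k] k' →ₐ[k] TrivSqZeroExt L (L ⊗[A] Ωh) :=
    Algebra.TensorProduct.lift αₐ βₐ (fun _ _ => mul_comm _ _)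
  let ψ₀ : A ⊗[k] k' →+* TrivSqZeroExt L (L ⊗[A] Ωh) := ψ₀ₐ.toRingHom
  have hψ₀ : ∀ a c, ψ₀ (a ⊗ₜ[k] c) = α a * β c := fun a c =>
    Algebra.TensorProduct.lift_tmul _ _ _ a c
  -- completeness of the square-zero extension
  haveI hfinE : Module.Finite L (TrivSqZeroExt L (L ⊗[A] Ωh)) :=
    inferInstanceAs (Module.Finite L (L × (L ⊗[A] Ωh)))
  have hc0 : IsAdicComplete (maximalIdeal L) (TrivSqZeroExt L (L ⊗[A] Ωh)) :=
    Groth.Agent.Lib.Helper9.SemiLocalProd.isAdicComplete_of_finite L _
  haveI hc : IsAdicComplete ((maximalIdeal L).map (algebraMap L (TrivSqZeroExt L (L ⊗[A] Ωh))))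
      (TrivSqZeroExt L (L ⊗[A] Ωh)) :=
    (IsAdicComplete.map_algebraMap_iff (R := L) (S := TrivSqZeroExt L (L ⊗[A] Ωh))
      (M := TrivSqZeroExt L (L ⊗[A] Ωh)) (I := maximalIdeal L)).mpr hc0
  set I := EGA4.cTensorIdeal k A k' with hI
  have hIeq : I = (maximalIdeal A).map (algebraMap A (A ⊗[k] k')) := (ideal_eq k A k').symm
  have hIFG : I.FG := by
    rw [hIeq]
    exact Ideal.FG.map ((isNoetherianRing_iff_ideal_fg A).mp inferInstance _) _
  have hmemL : ∀ a ∈ maximalIdeal A, algebraMap A L a ∈ maximalIdeal L := by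
    intro a ha
    by_contra hna
    have h1 : IsUnit (algebraMap A L a) := by
      by_contra h2
      exact hna ((mem_maximalIdeal _).mpr h2)
    exact (mem_maximalIdeal a).mp ha (hloc.map_nonunit a h1)
  have hIK : I ≤ ((maximalIdeal L).comap (fstHom L L (L ⊗[A] Ωh)).toRingHom).comap ψ₀ := by
    rw [hIeq, Ideal.map_le_iff_le_comap]
    intro a ha
    rw [Ideal.mem_comap, Ideal.mem_comap]
    have h1 : algebraMap A (A ⊗[k] k') a = a ⊗ₜ[k] (1 : k') := rfl
    rw [h1, hψ₀, map_one, mul_one, hα]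
    show (TrivSqZeroExt.inl (algebraMap A L a) +
        TrivSqZeroExt.inr ((1 : L) ⊗ₜ[A] dhat (k := k) a)).fst ∈ maximalIdeal L
    simpa using hmemL a ha
  have hψ : ∀ j : ℕ, I ^ (j + 1) ≤
      (((maximalIdeal L).map (algebraMap L (TrivSqZeroExt L (L ⊗[A] Ωh)))) ^ j).comap ψ₀ := by
    intro j
    refine (Ideal.pow_right_mono hIK (j + 1)).trans ?_
    refine (Ideal.le_comap_pow _ (j + 1)).trans ?_
    exact Ideal.comap_mono (fst_pow_le j)
  obtain ⟨ψ₁, hψ₁, -⟩ := exists_extension I
    ((maximalIdeal L).map (algebraMap L (TrivSqZeroExt L (L ⊗[A] Ωh)))) ψ₀ hψ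
  -- first component of ψ₁ is the localization map
  have hHaus : (⨅ j : ℕ, (maximalIdeal L) ^ j) = ⊥ := by
    have := (IsHausdorff.iInf_pow_smul (I := maximalIdeal L) (M := L)) inferInstance
    simpa [smul_eq_mul, Ideal.mul_top] using this
  have hofalg : ∀ r : A ⊗[k] k', AdicCompletion.of I (A ⊗[k] k') r =
      algebraMap (A ⊗[k] k') CC r := fun r => rfl
  have hfst₀ : ∀ r : A ⊗[k] k', (ψ₀ r).fst = algebraMap CC L (AdicCompletion.of I _ r) := by
    intro r
    induction r using TensorProduct.induction_on with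
    | zero => simp
    | tmul a c =>
      have h1 : a ⊗ₜ[k] c = (a ⊗ₜ[k] (1 : k')) * ((1 : A) ⊗ₜ[k] c) := by
        rw [Algebra.TensorProduct.tmul_mul_tmul, mul_one, one_mul]
      rw [hψ₀, hα, hβ]
      conv_rhs => rw [h1, hofalg, map_mul, map_mul, ← hofalg, ← hofalg, ← hof, ← halg]
      simp
      rfl
    | add x y hx hy =>
      rw [map_add, TrivSqZeroExt.fst_add, hx, hy, hofalg, hofalg, hofalg, map_add, map_add]
  have hfst₁ : (fstHom L L (L ⊗[A] Ωh)).toRingHom.comp ψ₁ = algebraMap CC L := by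
    apply adic_hom_ext I (maximalIdeal L) hIFG hHaus
    · intro i hi
      rw [RingHom.comp_apply, hψ₁]
      exact hIK hi
    · intro i hi
      rw [← hfst₀]
      exact hIK hi
    · intro r
      rw [RingHom.comp_apply, hψ₁]
      exact hfst₀ r
  have hunit : ∀ y : M.primeCompl, IsUnit (ψ₁ (y : CC)) := by
    intro y
    rw [TrivSqZeroExt.isUnit_iff_isUnit_fst]
    have h1 : (ψ₁ (y : CC)).fst = algebraMap CC L y := RingHom.congr_fun hfst₁ y
    rw [h1]
    exact IsLocalization.map_units L y
  let ψ₂ : L →+* TrivSqZeroExt L (L ⊗[A] Ωh) := IsLocalization.lift (M := M.primeCompl) hunit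
  have hψ₂ : ∀ x : CC, ψ₂ (algebraMap CC L x) = ψ₁ x := fun x => IsLocalization.lift_eq hunit x
  have hF1 : ∀ y : L, (ψ₂ y).fst = y := by
    intro y
    have h1 : (fstHom L L (L ⊗[A] Ωh)).toRingHom.comp ψ₂ = RingHom.id L := by
      apply IsLocalization.ringHom_ext M.primeCompl
      ext x
      rw [RingHom.comp_apply, RingHom.comp_apply, hψ₂, RingHom.comp_apply, RingHom.id_apply]
      exact RingHom.congr_fun hfst₁ x
    exact RingHom.congr_fun h1 y
  have hF2 : ∀ c : k', ψ₂ (algebraMap k' L c) = TrivSqZeroExt.inl (algebraMap k' L c) := by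
    intro c
    rw [halg, hψ₂, hψ₁, hψ₀, map_one, one_mul, hβ, ← halg]
  have hF3 : ∀ a : A, ψ₂ (algebraMap A L a) = α a := by
    intro a
    rw [hof, hψ₂, hψ₁, hψ₀, map_one, mul_one]
  let D : Derivation k' L (L ⊗[A] Ωh) :=
    { toLinearMap :=
        { toFun := fun y => (ψ₂ y).snd
          map_add' := fun x y => by rw [map_add, TrivSqZeroExt.snd_add]
          map_smul' := fun c y => by
            show (ψ₂ (c • y)).snd = c • (ψ₂ y).snd
            rw [← algebraMap_smul L c (ψ₂ y).snd, Algebra.smul_def, map_mul, hF2, TrivSqZeroExt.snd_mul, TrivSqZeroExt.fst_inl,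
              TrivSqZeroExt.snd_inl, smul_zero, add_zero] }
      map_one_eq_zero' := by
        show (ψ₂ 1).snd = 0
        rw [map_one]; rfl
      leibniz' := fun x y => by
        show (ψ₂ (x * y)).snd = x • (ψ₂ y).snd + y • (ψ₂ x).snd
        rw [map_mul, TrivSqZeroExt.snd_mul, hF1, hF1, op_smul_eq_smul] }
  have hD : ∀ y, D y = (ψ₂ y).snd := fun y => rfl
  obtain ⟨l, hl⟩ := exists_lift (k := k') (A := L) D
  refine ⟨l, lift_surjective (k := k') l ?_⟩
  rw [eq_top_iff, ← span_one_tmul_eq_top (A := A) (M := Ωh) L, Submodule.span_le]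
  rintro _ ⟨m, rfl⟩
  have hm : m ∈ Submodule.span A (Set.range (dhat (k := k) (A := A))) := by
    rw [span_dhat]; trivial
  show (1 : L) ⊗ₜ[A] m ∈ _
  induction hm using Submodule.span_induction with
  | mem x hx =>
    obtain ⟨a, rfl⟩ := hx
    refine Submodule.subset_span ⟨algebraMap A L a, ?_⟩
    show l (dhat (k := k') (algebraMap A L a)) = _
    rw [hl, hD, hF3, hα]
    simp
  | zero => rw [TensorProduct.tmul_zero]; exact Submodule.zero_mem _
  | add x y _ _ hx hy => rw [TensorProduct.tmul_add]; exact Submodule.add_mem _ hx hy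
  | smul c x _ hx => rw [hsmulA]; exact Submodule.smul_mem _ _ hx

end Surj

end T3851
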