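import Groth.Agent.scratch.T3851j
import Groth.Agent.Lib.Helper18.Exc2
import Groth.Agent.S5074

set_option autoImplicit false
set_option linter.unusedSectionVars false
set_option linter.style.haveILetI false
universe u

namespace T3851
open IsLocalRing TensorProduct KaehlerDifferential
open Groth.Agent.Lib.Helper23.CompletedKaehlerSep Groth.Agent.Lib.Helper23.CK
open Groth.Agent.Lib.Helper23.CTensFld

section Gen

variable {A : Type*} [CommRing A] {p : Ideal A} {M : Type*} [AddCommGroup M] [Module A M]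

/-- padding a generating family with zeros. -/
theorem GenAt.pad {r n : ℕ} (hrn : r ≤ n) {x : Fin r → M} (h : GenAt p x) :
    ∃ x' : Fin n → M, GenAt p x' := by
  classical
  refine ⟨fun i => if hi : (i : ℕ) < r then x ⟨i, hi⟩ else 0, fun y => ?_⟩
  obtain ⟨s, hs, hsy⟩ := h y
  refine ⟨s, hs, Submodule.span_mono ?_ hsy⟩
  rintro _ ⟨i, rfl⟩
  refine ⟨⟨i, lt_of_lt_of_le i.2 hrn⟩, ?_⟩
  simp

/-- from freeness of the localized module to a generating family. -/
theorem exists_genAt_of_free [p.IsPrime] [Module.Finite A M] (n : ℕ)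
    (hfree : Module.Free (Localization.AtPrime p) (LocalizedModule p.primeCompl M))
    (hrank : Module.finrank (Localization.AtPrime p) (LocalizedModule p.primeCompl M) = n) :
    ∃ x : Fin n → M, GenAt p x := by
  haveI := hfree
  let b := Module.finBasis (Localization.AtPrime p) (LocalizedModule p.primeCompl M)
  let s : Fin n → LocalizedModule p.primeCompl M := fun i => b (Fin.cast hrank.symm i)
  have hs : Submodule.span (Localization.AtPrime p) (Set.range s) = ⊤ := by
    have : Set.range s = Set.range b := by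
      ext y
      constructor
      · rintro ⟨i, rfl⟩; exact ⟨_, rfl⟩
      · rintro ⟨i, rfl⟩; exact ⟨Fin.cast hrank i, by simp [s]⟩
    rw [this, b.span_eq]
  exact exists_genAt_of_span_localized s hs

end Gen

section Dim

variable {A L : Type u} [CommRing A] [CommRing L] [IsLocalRing A] [IsLocalRing L]
  [IsNoetherianRing A] [IsNoetherianRing L] [Algebra A L]

/-- dimension of a quotient of `L` is bounded by that of the corresponding quotient of `A` when the
closed fibre is zero-dimensional. -/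
theorem dim_quot_le (hloc : IsLocalHom (algebraMap A L))
    (h0 : ∀ J : Ideal L, (maximalIdeal A).map (algebraMap A L) ≤ J → J ≠ ⊤ →
      ringKrullDim (L ⧸ J) = 0)
    (Q : Ideal L) [Q.IsPrime] :
    ringKrullDim (L ⧸ Q) ≤ ringKrullDim (A ⧸ Q.comap (algebraMap A L)) := by
  haveI : (Q.comap (algebraMap A L)).IsPrime := Ideal.comap_isPrime _ _
  haveI : Nontrivial (A ⧸ Q.comap (algebraMap A L)) :=
    Ideal.Quotient.nontrivial_iff.mpr (Ideal.IsPrime.ne_top inferInstance)
  haveI : Nontrivial (L ⧸ Q) :=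
    Ideal.Quotient.nontrivial_iff.mpr (Ideal.IsPrime.ne_top inferInstance)
  haveI : IsLocalRing (A ⧸ Q.comap (algebraMap A L)) :=
    IsLocalRing.of_surjective' (Ideal.Quotient.mk _) Ideal.Quotient.mk_surjective
  haveI : IsLocalRing (L ⧸ Q) :=
    IsLocalRing.of_surjective' (Ideal.Quotient.mk _) Ideal.Quotient.mk_surjective
  haveI hlocQ : IsLocalHom (Ideal.Quotient.mk Q) :=
    IsLocalHom.of_surjective _ Ideal.Quotient.mk_surjective
  haveI hlocq : IsLocalHom (Ideal.Quotient.mk (Q.comap (algebraMap A L))) :=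
    IsLocalHom.of_surjective _ Ideal.Quotient.mk_surjective
  have hcomm : ∀ a : A, algebraMap (A ⧸ Q.comap (algebraMap A L)) (L ⧸ Q)
      (Ideal.Quotient.mk _ a) = Ideal.Quotient.mk Q (algebraMap A L a) := fun a => rfl
  haveI hloc' : IsLocalHom (algebraMap (A ⧸ Q.comap (algebraMap A L)) (L ⧸ Q)) := by
    refine ⟨fun x hx => ?_⟩
    obtain ⟨a, rfl⟩ := Ideal.Quotient.mk_surjective x
    rw [hcomm] at hx
    have h1 : IsUnit (algebraMap A L a) := hlocQ.map_nonunit _ hx
    have h2 : IsUnit a := hloc.map_nonunit _ h1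
    exact h2.map _
  have h1 := Groth.Agent.Lib.Helper18.CM.ringKrullDim_le_add_fibre
    (R := A ⧸ Q.comap (algebraMap A L)) (S := L ⧸ Q)
  set 𝔞 := (maximalIdeal (A ⧸ Q.comap (algebraMap A L))).map
    (algebraMap (A ⧸ Q.comap (algebraMap A L)) (L ⧸ Q)) with h𝔞
  have h𝔞le : 𝔞 ≤ maximalIdeal (L ⧸ Q) := IsLocalRing.map_maximalIdeal_le _
  haveI : Nontrivial ((L ⧸ Q) ⧸ 𝔞) := Ideal.Quotient.nontrivial_iff.mpr (fun h => by
    rw [h, top_le_iff] at h𝔞le
    exact (maximalIdeal.isMaximal (L ⧸ Q)).ne_top h𝔞le)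
  let φ : L →+* (L ⧸ Q) ⧸ 𝔞 := (Ideal.Quotient.mk 𝔞).comp (Ideal.Quotient.mk Q)
  have hφ : Function.Surjective φ :=
    Ideal.Quotient.mk_surjective.comp Ideal.Quotient.mk_surjective
  have h2 : ringKrullDim ((L ⧸ Q) ⧸ 𝔞) = 0 := by
    rw [← ringKrullDim_eq_of_ringEquiv (RingHom.quotientKerEquivOfSurjective hφ)]
    apply h0
    · rw [Ideal.map_le_iff_le_comap]
      intro a ha
      rw [Ideal.mem_comap, RingHom.mem_ker]
      show Ideal.Quotient.mk 𝔞 (Ideal.Quotient.mk Q (algebraMap A L a)) = 0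
      rw [← hcomm, Ideal.Quotient.eq_zero_iff_mem]
      refine Ideal.mem_map_of_mem _ ?_
      rw [mem_maximalIdeal, mem_nonunits_iff]
      intro hu
      exact (mem_maximalIdeal a).mp ha (hlocq.map_nonunit _ hu)
    · intro h
      have : (1 : L) ∈ RingHom.ker φ := by rw [h]; trivial
      rw [RingHom.mem_ker, map_one] at this
      exact one_ne_zero this
  rw [h2, add_zero] at h1
  exact h1

end Dim

end T3851
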