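import Groth.Agent.scratch.T3851k
import Groth.Agent.Lib.Helper18.SerreReg2

set_option autoImplicit false
set_option linter.unusedSectionVars false
set_option linter.style.haveILetI false
universe u

namespace T3851
open IsLocalRing TensorProduct KaehlerDifferential
open Groth.Agent.Lib.Helper23.CompletedKaehlerSep Groth.Agent.Lib.Helper23.CK
open Groth.Agent.Lib.Helper23.CTensFld

section AprimeB

variable (k A k' : Type u) [Field k] [CommRing A] [IsNoetherianRing A] [IsLocalRing A] [Algebra k A]
  [IsAdicComplete (maximalIdeal A) A] [Module.Finite k (ResidueField A)]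
  [Field k'] [Algebra k k'] [PerfectField k'] (p : Ideal A) [p.IsPrime]

set_option maxHeartbeats 1600000 in
/-- (a') ⇒ generators: regularity of one completed perfect base change at a prime over `p` bounds
the number of generators of the completed differentials at `p`. -/
theorem exists_genAt_of_regular (n : ℕ)
    (hn₁ : ∀ q ∈ minimalPrimes A, q ≤ p → ringKrullDim (A ⧸ q) ≤ n)
    (p' : Ideal (EGA4.CTensor k A k')) [p'.IsPrime]
    (hp' : p'.comap (algebraMap A (EGA4.CTensor k A k')) = p)
    (hreg : IsRegularLocalRing (Localization.AtPrime p')) :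
    ∃ x : Fin n → AdicCompletion (maximalIdeal A) (Ω[A⁄k]), GenAt p x := by
  classical
  set CC := EGA4.CTensor k A k' with hCC
  obtain ⟨M, hM, hp'M⟩ := Ideal.exists_le_maximal p' (Ideal.IsPrime.ne_top inferInstance)
  haveI := hM
  obtain ⟨hNCC, hNL, hcompl, hsurj, hflatL, hlocal, hdim0, hresfin⟩ := local_pkg k A k' M
  set L := Localization.AtPrime M with hL
  haveI := hNL
  haveI := hcompl
  haveI := hNCC
  letI algk'L : Algebra k' L := ((algebraMap CC L).comp ((algebraMap (A ⊗[k] k') CC).comp
      (Algebra.TensorProduct.includeRight (R := k) (A := A) (B := k')).toRingHom)).toAlgebra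
  have halg : ∀ c : k', algebraMap k' L c = algebraMap CC L
      (AdicCompletion.of (EGA4.cTensorIdeal k A k') (A ⊗[k] k') ((1 : A) ⊗ₜ[k] c)) := fun c => rfl
  haveI hfinres : Module.Finite k' (ResidueField L) := by
    apply RingHom.finite_algebraMap.mp
    rw [IsScalarTower.algebraMap_eq k' L (ResidueField L)]
    exact hresfin
  -- the prime of `L`
  have hdisj : Disjoint (M.primeCompl : Set CC) (p' : Set CC) := by
    rw [Set.disjoint_left]
    intro x hx hx'
    exact hx (hp'M hx')
  haveI hP''prime : (p'.map (algebraMap CC L)).IsPrime :=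
    IsLocalization.isPrime_of_isPrime_disjoint M.primeCompl L p' inferInstance hdisj
  have hP''comap : (p'.map (algebraMap CC L)).comap (algebraMap CC L) = p' :=
    IsLocalization.under_map_of_isPrime_disjoint M.primeCompl L inferInstance hdisj
  have hP''A : (p'.map (algebraMap CC L)).comap (algebraMap A L) = p := by
    rw [IsScalarTower.algebraMap_eq A CC L, ← Ideal.comap_comap, hP''comap, hp']
  -- regularity of the localization of `L`
  have hregL : IsRegularLocalRing (Localization.AtPrime (p'.map (algebraMap CC L))) := by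
    have key : ∀ (q : Ideal CC) [q.IsPrime], q = (p'.map (algebraMap CC L)).comap (algebraMap CC L) →
        IsRegularLocalRing (Localization.AtPrime q) →
          IsRegularLocalRing (Localization.AtPrime (p'.map (algebraMap CC L))) := by
      intro q _ hq hr
      subst hq
      exact IsRegularLocalRing.of_ringEquiv
        (IsLocalization.localizationLocalizationAtPrimeIsoLocalization M.primeCompl
          (p'.map (algebraMap CC L))).toRingEquiv
    exact key p' hP''comap.symm hreg
  haveI : IsNoetherianRing (Localization.AtPrime (p'.map (algebraMap CC L))) :=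
    IsLocalization.isNoetherianRing (p'.map (algebraMap CC L)).primeCompl _ inferInstance
  have hRR : IsRegularRing (Localization.AtPrime (p'.map (algebraMap CC L))) :=
    isRegularRing_iff.mpr (fun Q hQ =>
      Groth.Agent.Lib.Helper18.SerreReg.isRegularLocalRing_localization_atPrime _ Q)
  have hgeo : CAlg.IsGeometricallyRegular k' (Localization.AtPrime (p'.map (algebraMap CC L))) :=
    Groth.Agent.Lib.Helper18.Exc.geomRegular_of_isRegularRing_of_perfectField k' _ hRR
  -- a minimal prime below
  obtain ⟨q'', hq''min, hq''le⟩ :=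
    Ideal.exists_minimalPrimes_le (bot_le : (⊥ : Ideal L) ≤ p'.map (algebraMap CC L))
  haveI hq''prime : q''.IsPrime := hq''min.1.1
  haveI : Nontrivial (L ⧸ q'') :=
    Ideal.Quotient.nontrivial_iff.mpr (Ideal.IsPrime.ne_top inferInstance)
  haveI : IsLocalRing (L ⧸ q'') :=
    IsLocalRing.of_surjective' (Ideal.Quotient.mk _) Ideal.Quotient.mk_surjective
  obtain ⟨n', hn'⟩ := Groth.Agent.Lib.Helper18.SerreReg.exists_ringKrullDim_eq_nat (L ⧸ q'')
  have hn'n : n' ≤ n := by
    have hle1 := dim_quot_le hlocal hdim0 q''
    have hqp : q''.comap (algebraMap A L) ≤ p := by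
      rw [← hP''A]; exact Ideal.comap_mono hq''le
    obtain ⟨q₀, hq₀min, hq₀le⟩ :=
      Ideal.exists_minimalPrimes_le (bot_le : (⊥ : Ideal A) ≤ q''.comap (algebraMap A L))
    have h2 : ringKrullDim (A ⧸ q''.comap (algebraMap A L)) ≤ ringKrullDim (A ⧸ q₀) :=
      ringKrullDim_le_of_surjective (Ideal.Quotient.factor hq₀le)
        (Ideal.Quotient.factor_surjective hq₀le)
    have h3 := hn₁ q₀ hq₀min (hq₀le.trans hqp)
    have h4 := hle1.trans (h2.trans h3)
    rw [hn'] at h4
    exact_mod_cast h4
  -- freeness of the completed differentials of `L` over `k'`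
  obtain ⟨pc, hpc⟩ := ExpChar.exists k'
  haveI := hpc
  have hk : (frobenius k' pc).Finite :=
    RingHom.Finite.of_surjective _ (bijective_frobenius k' pc).2
  obtain ⟨hfree, hrank⟩ := Groth.Agent.S5074.result pc k' L hk (p'.map (algebraMap CC L)) hgeo
    q'' hq''min hq''le n' hn'
  haveI := finite_mhat' (k := k') (A := L)
  haveI := finite_mhat' (k := k) (A := A)
  obtain ⟨y, hy⟩ := exists_genAt_of_free (p := p'.map (algebraMap CC L))
    (M := AdicCompletion (maximalIdeal L) (Ω[L⁄k'])) n' hfree hrank
  obtain ⟨l, hl⟩ := exists_surjection_kaehler k A k' M halg hlocal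
  have hz := hy.map l hl
  have hfr := hz.finrank_le
  -- comparison of fibres
  letI algκ : Algebra p.ResidueField (p'.map (algebraMap CC L)).ResidueField :=
    (Ideal.ResidueField.map p (p'.map (algebraMap CC L)) (algebraMap A L) hP''A.symm).toAlgebra
  haveI : IsScalarTower A p.ResidueField (p'.map (algebraMap CC L)).ResidueField :=
    IsScalarTower.of_algebraMap_eq (fun a => by
      show _ = Ideal.ResidueField.map p (p'.map (algebraMap CC L)) (algebraMap A L) hP''A.symm
        (algebraMap A p.ResidueField a)
      rw [Ideal.ResidueField.map_algebraMap,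
        IsScalarTower.algebraMap_apply A L (p'.map (algebraMap CC L)).ResidueField])
  let e1 := TensorProduct.AlgebraTensorModule.cancelBaseChange A L
    (p'.map (algebraMap CC L)).ResidueField (p'.map (algebraMap CC L)).ResidueField
    (AdicCompletion (maximalIdeal A) (Ω[A⁄k]))
  let e2 := TensorProduct.AlgebraTensorModule.cancelBaseChange A p.ResidueField
    (p'.map (algebraMap CC L)).ResidueField (p'.map (algebraMap CC L)).ResidueField
    (AdicCompletion (maximalIdeal A) (Ω[A⁄k]))
  have h4 : Module.finrank (p'.map (algebraMap CC L)).ResidueField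
      ((p'.map (algebraMap CC L)).ResidueField ⊗[L]
        (L ⊗[A] AdicCompletion (maximalIdeal A) (Ω[A⁄k]))) =
      Module.finrank p.ResidueField
        (p.ResidueField ⊗[A] AdicCompletion (maximalIdeal A) (Ω[A⁄k])) := by
    rw [e1.finrank_eq, ← e2.finrank_eq, Module.finrank_baseChange]
  rw [h4] at hfr
  obtain ⟨x₀, hx₀⟩ := exists_genAt_finrank (p := p)
    (M := AdicCompletion (maximalIdeal A) (Ω[A⁄k]))
  exact GenAt.pad (hfr.trans hn'n) hx₀

end AprimeB

end T3851
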