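import Groth.Agent.scratch.T3851l

set_option autoImplicit false
set_option linter.unusedSectionVars false
set_option linter.style.haveILetI false
universe u

namespace T3851
open IsLocalRing TensorProduct KaehlerDifferential
open Groth.Agent.Lib.Helper23.CompletedKaehlerSep Groth.Agent.Lib.Helper23.CK
open Groth.Agent.Lib.Helper23.CTensFld

section Over

variable (k A k' : Type u) [Field k] [CommRing A] [IsNoetherianRing A] [IsLocalRing A] [Algebra k A]
  [IsAdicComplete (maximalIdeal A) A] [Module.Finite k (ResidueField A)]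
  [Field k'] [Algebra k k']

/-- the completed tensor product is nontrivial. -/
theorem nontrivial_cTensor : Nontrivial (EGA4.CTensor k A k') := by
  set I := EGA4.cTensorIdeal k A k' with hI
  have hIeq : I = (maximalIdeal A).map (algebraMap A (A ⊗[k] k')) := (ideal_eq k A k').symm
  haveI : Nontrivial (ResidueField A ⊗[k] k') :=
    Algebra.TensorProduct.nontrivial_of_algebraMap_injective_of_flat_left (R := k)
      (ResidueField A) k' (algebraMap k k').injective
  let g : A ⊗[k] k' →ₐ[k] ResidueField A ⊗[k] k' :=
    Algebra.TensorProduct.map (IsScalarTower.toAlgHom k A (ResidueField A)) (AlgHom.id k k')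
  have hg : ∀ x ∈ I ^ 1, g.toRingHom x = 0 := by
    intro x hx
    rw [pow_one, hIeq] at hx
    have h1 : (maximalIdeal A).map (algebraMap A (A ⊗[k] k')) ≤ RingHom.ker g.toRingHom := by
      rw [Ideal.map_le_iff_le_comap]
      intro a ha
      rw [Ideal.mem_comap, RingHom.mem_ker]
      have h2 : algebraMap A (A ⊗[k] k') a = a ⊗ₜ[k] (1 : k') := rfl
      rw [h2]
      show g (a ⊗ₜ[k] (1 : k')) = 0
      rw [Algebra.TensorProduct.map_tmul]
      have h3 : (IsScalarTower.toAlgHom k A (ResidueField A)) a = 0 := by
        show algebraMap A (ResidueField A) a = 0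
        rw [IsLocalRing.ResidueField.algebraMap_eq, IsLocalRing.residue_eq_zero_iff]
        exact ha
      rw [h3, TensorProduct.zero_tmul]
    exact h1 hx
  let f : EGA4.CTensor k A k' →+* ResidueField A ⊗[k] k' :=
    (Ideal.Quotient.lift (I ^ 1) g.toRingHom hg).comp (AdicCompletion.evalₐ I 1).toRingHom
  exact f.domain_nontrivial

/-- every prime of `A` lifts to the completed tensor product. -/
theorem exists_prime_over (p : Ideal A) [p.IsPrime] :
    ∃ p' : Ideal (EGA4.CTensor k A k'), p'.IsPrime ∧
      p'.comap (algebraMap A (EGA4.CTensor k A k')) = p := by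
  haveI := nontrivial_cTensor k A k'
  obtain ⟨M, hM⟩ := Ideal.exists_maximal (EGA4.CTensor k A k')
  haveI := hM
  obtain ⟨hNCC, hNL, hcompl, hsurj, hflatL, hlocal, hdim0, hresfin⟩ := local_pkg k A k' M
  haveI := hflatL
  haveI := hlocal
  haveI : Module.FaithfullyFlat A (Localization.AtPrime M) :=
    Module.FaithfullyFlat.of_flat_of_isLocalHom
  obtain ⟨P, hP, hPo⟩ := Ideal.exists_isPrime_liesOver_of_faithfullyFlat
    (B := Localization.AtPrime M) p
  refine ⟨P.comap (algebraMap (EGA4.CTensor k A k') (Localization.AtPrime M)),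
    Ideal.comap_isPrime _ _, ?_⟩
  rw [Ideal.comap_comap, ← IsScalarTower.algebraMap_eq]
  exact hPo.over.symm

end Over

end T3851
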