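import Groth.Statements.S3851
import Mathlib
import Groth.Agent.Lib.Helper23.CKTfae

set_option autoImplicit false
set_option linter.unusedSectionVars false
set_option linter.style.haveILetI false
universe u
open scoped TensorProduct
open EGA418

namespace T3851
open IsLocalRing TensorProduct KaehlerDifferential
open Groth.Agent.Lib.Helper23.CompletedKaehlerSep Groth.Agent.Lib.Helper23.CK
open Groth.Agent.Lib.Helper23.CTensFld Groth.Agent.Lib.Helper21.ChartPt
open Groth.Agent.Lib.Helper23.CKTfae

section Transport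

variable {k A k' : Type u} [Field k] [CommRing A] [IsLocalRing A] [Algebra k A]
  [Field k'] [Algebra k k'] (p : Ideal A)

theorem transport_forall {I : Ideal (A ⊗[k] k')} (hI : I = EGA4.cTensorIdeal k A k')
    (H : ∀ (p' : Ideal (EGA4.CTensor k A k')) [p'.IsPrime],
      p'.comap (algebraMap A (EGA4.CTensor k A k')) = p →
        IsRegularLocalRing (Localization.AtPrime p')) :
    ∀ (p' : Ideal (AdicCompletion I (A ⊗[k] k'))) [p'.IsPrime],
      (p'.comap (algebraMap (A ⊗[k] k') _)).comap
          (Algebra.TensorProduct.includeLeft : A →ₐ[k] A ⊗[k] k').toRingHom = p →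
        IsRegularLocalRing (Localization.AtPrime p') := by
  subst hI
  intro p' _ hp'
  exact H p' hp'

theorem transport_exists {I : Ideal (A ⊗[k] k')} (hI : I = EGA4.cTensorIdeal k A k')
    (H : ∃ (p' : Ideal (AdicCompletion I (A ⊗[k] k'))) (_ : p'.IsPrime),
      (p'.comap (algebraMap (A ⊗[k] k') _)).comap
          (Algebra.TensorProduct.includeLeft : A →ₐ[k] A ⊗[k] k').toRingHom = p ∧
        IsRegularLocalRing (Localization.AtPrime p')) :
    ∃ (p' : Ideal (EGA4.CTensor k A k')) (_ : p'.IsPrime),
      p'.comap (algebraMap A (EGA4.CTensor k A k')) = p ∧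
        IsRegularLocalRing (Localization.AtPrime p') := by
  subst hI
  obtain ⟨p', hp'prime, hp', hreg⟩ := H
  exact ⟨p', hp'prime, hp', hreg⟩

theorem transport_exists' {I : Ideal (A ⊗[k] k')} (hI : I = EGA4.cTensorIdeal k A k')
    (H : ∃ (p' : Ideal (EGA4.CTensor k A k')) (_ : p'.IsPrime),
      p'.comap (algebraMap A (EGA4.CTensor k A k')) = p ∧
        IsRegularLocalRing (Localization.AtPrime p')) :
    ∃ (p' : Ideal (AdicCompletion I (A ⊗[k] k'))) (_ : p'.IsPrime),
      (p'.comap (algebraMap (A ⊗[k] k') _)).comap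
          (Algebra.TensorProduct.includeLeft : A →ₐ[k] A ⊗[k] k').toRingHom = p ∧
        IsRegularLocalRing (Localization.AtPrime p') := by
  subst hI
  obtain ⟨p', hp'prime, hp', hreg⟩ := H
  exact ⟨p', hp'prime, hp', hreg⟩

theorem transport_forall' {I : Ideal (A ⊗[k] k')} (hI : I = EGA4.cTensorIdeal k A k')
    (H : ∀ (p' : Ideal (AdicCompletion I (A ⊗[k] k'))) [p'.IsPrime],
      (p'.comap (algebraMap (A ⊗[k] k') _)).comap
          (Algebra.TensorProduct.includeLeft : A →ₐ[k] A ⊗[k] k').toRingHom = p →
        IsRegularLocalRing (Localization.AtPrime p')) :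
    ∀ (p' : Ideal (EGA4.CTensor k A k')) [p'.IsPrime],
      p'.comap (algebraMap A (EGA4.CTensor k A k')) = p →
        IsRegularLocalRing (Localization.AtPrime p') := by
  subst hI
  intro p' _ hp'
  exact H p' hp'

end Transport

set_option maxHeartbeats 1600000 in
theorem t3851 (k A : Type u) [Field k] [CommRing A]
    [IsLocalRing A] [IsNoetherianRing A] [Algebra k A] [IsAdicComplete (IsLocalRing.maximalIdeal A) A]
    [Module.Finite k (IsLocalRing.ResidueField A)] (p : Ideal A) [p.IsPrime] (hp : p ≠ IsLocalRing.maximalIdeal A)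
    (n : ℕ) (hn₁ : ∀ q ∈ minimalPrimes A, q ≤ p → ringKrullDim (A ⧸ q) ≤ n)
    (hn₂ : ∃ q ∈ minimalPrimes A, q ≤ p ∧ ringKrullDim (A ⧸ q) = n) :
    List.TFAE [
      ∀ (k' : Type u) [Field k'] [Algebra k k']
        (p' : Ideal (AdicCompletion ((IsLocalRing.maximalIdeal A).map
          (Algebra.TensorProduct.includeLeft : A →ₐ[k] A ⊗[k] k')) (A ⊗[k] k'))) [p'.IsPrime],
        (p'.comap (algebraMap (A ⊗[k] k') _)).comap
            (Algebra.TensorProduct.includeLeft : A →ₐ[k] A ⊗[k] k').toRingHom = p →
          IsRegularLocalRing (Localization.AtPrime p'),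
      ∃ (k' : Type u) (_ : Field k') (_ : Algebra k k') (_ : PerfectField k')
        (p' : Ideal (AdicCompletion ((IsLocalRing.maximalIdeal A).map
          (Algebra.TensorProduct.includeLeft : A →ₐ[k] A ⊗[k] k')) (A ⊗[k] k'))) (_ : p'.IsPrime),
        (p'.comap (algebraMap (A ⊗[k] k') _)).comap
            (Algebra.TensorProduct.includeLeft : A →ₐ[k] A ⊗[k] k').toRingHom = p ∧
          IsRegularLocalRing (Localization.AtPrime p'),
      Module.Free (Localization.AtPrime p)
          (LocalizedModule p.primeCompl (AdicCompletion (IsLocalRing.maximalIdeal A) (KaehlerDifferential k A))) ∧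
        Module.finrank (Localization.AtPrime p)
          (LocalizedModule p.primeCompl (AdicCompletion (IsLocalRing.maximalIdeal A) (KaehlerDifferential k A))) = n] ∧
    ((Module.Free (Localization.AtPrime p)
          (LocalizedModule p.primeCompl (AdicCompletion (IsLocalRing.maximalIdeal A) (KaehlerDifferential k A))) ∧
        Module.finrank (Localization.AtPrime p)
          (LocalizedModule p.primeCompl (AdicCompletion (IsLocalRing.maximalIdeal A) (KaehlerDifferential k A))) = n) →
      CAlg.IsGeometricallyRegular k (Localization.AtPrime p)) := by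
  classical
  have hKp : kerLoc p ≤ p := kerLoc_le p
  haveI : Nontrivial (A ⧸ kerLoc p) := Ideal.Quotient.nontrivial_iff.mpr (fun h => by
    rw [h, top_le_iff] at hKp
    exact (Ideal.IsPrime.ne_top inferInstance) hKp)
  haveI : IsLocalRing (A ⧸ kerLoc p) :=
    IsLocalRing.of_surjective' (Ideal.Quotient.mk _) Ideal.Quotient.mk_surjective
  haveI : IsAdicComplete (maximalIdeal (A ⧸ kerLoc p)) (A ⧸ kerLoc p) :=
    Groth.Agent.Lib.Helper9.SemiLocalProd.isAdicComplete_maximalIdeal_of_finite A _
  haveI : Module.Finite k (ResidueField (A ⧸ kerLoc p)) :=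
    finite_residueField_quotient (k := k) (kerLoc p)
  haveI : (p.map (Ideal.Quotient.mk (kerLoc p))).IsPrime := map_mk_isPrime (kerLoc p) p hKp
  haveI := finite_mhat' (k := k) (A := A)
  have hIeq : ∀ (k' : Type u) [Field k'] [Algebra k k'],
      (maximalIdeal A).map (Algebra.TensorProduct.includeLeft : A →ₐ[k] A ⊗[k] k') =
        EGA4.cTensorIdeal k A k' := fun k' _ _ => ideal_eq k A k'
  have hba : (Module.Free (Localization.AtPrime p)
          (LocalizedModule p.primeCompl (AdicCompletion (maximalIdeal A) (Ω[A⁄k]))) ∧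
        Module.finrank (Localization.AtPrime p)
          (LocalizedModule p.primeCompl (AdicCompletion (maximalIdeal A) (Ω[A⁄k]))) = n) →
      ∀ (k' : Type u) [Field k'] [Algebra k k'] (p' : Ideal (EGA4.CTensor k A k')) [p'.IsPrime],
        p'.comap (algebraMap A (EGA4.CTensor k A k')) = p →
          IsRegularLocalRing (Localization.AtPrime p') := by
    rintro ⟨hfree, hrank⟩ k' _ _ p' _ hp'
    obtain ⟨x, hx⟩ := exists_genAt_of_free (p := p)
      (M := AdicCompletion (maximalIdeal A) (Ω[A⁄k])) n hfree hrank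
    obtain ⟨-, -, algP, tower, hloc, hfin, het⟩ := lemmaG p hp n hn₁ hn₂ x hx
    letI := algP
    haveI := tower
    haveI := hfin
    haveI := het
    exact regular_of_etale k A k' p n hloc p' hp'
  have hbd : (Module.Free (Localization.AtPrime p)
          (LocalizedModule p.primeCompl (AdicCompletion (maximalIdeal A) (Ω[A⁄k]))) ∧
        Module.finrank (Localization.AtPrime p)
          (LocalizedModule p.primeCompl (AdicCompletion (maximalIdeal A) (Ω[A⁄k]))) = n) →
      CAlg.IsGeometricallyRegular k (Localization.AtPrime p) := by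
    rintro ⟨hfree, hrank⟩
    obtain ⟨x, hx⟩ := exists_genAt_of_free (p := p)
      (M := AdicCompletion (maximalIdeal A) (Ω[A⁄k])) n hfree hrank
    exact (lemmaG p hp n hn₁ hn₂ x hx).2.1
  refine ⟨?_, hbd⟩
  tfae_have 1 → 2 := by
    intro h
    obtain ⟨p', hp'prime, hp'⟩ := exists_prime_over k A (AlgebraicClosure k) p
    haveI := hp'prime
    refine ⟨AlgebraicClosure k, inferInstance, inferInstance, inferInstance, ?_⟩
    apply transport_exists' p (hIeq (AlgebraicClosure k))
    exact ⟨p', hp'prime, hp',
      transport_forall' p (hIeq (AlgebraicClosure k)) (h (AlgebraicClosure k)) p' hp'⟩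
  tfae_have 2 → 3 := by
    rintro ⟨k', hF, hAlg, hPerf, H⟩
    obtain ⟨p', hp'prime, hp', hreg⟩ := transport_exists p (hIeq k') H
    haveI := hp'prime
    obtain ⟨x, hx⟩ := exists_genAt_of_regular k A k' p n hn₁ p' hp' hreg
    exact (lemmaG p hp n hn₁ hn₂ x hx).1
  tfae_have 3 → 1 := by
    intro hb k' _ _
    exact transport_forall p (hIeq k') (fun p' _ hp' => hba hb k' p' hp')
  tfae_finish

end T3851
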