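import Mathlib
import Groth.Agent.Lib.Helper1.NormalSmooth
import Groth.Agent.Lib.Helper15.SmoothReduced
import Groth.Agent.Lib.Helper4.HznNormal

set_option autoImplicit false
universe u
open TensorProduct

namespace T4989

section alg

variable {A B : Type u} [CommRing A] [CommRing B] [Algebra A B] [Algebra.Smooth A B]
  (p : Ideal A) [p.IsPrime] (q : Ideal B) [q.IsPrime] [q.LiesOver p]

theorem ff : letI := Localization.AtPrime.algebraOfLiesOver p q
    Module.FaithfullyFlat (Localization.AtPrime p) (Localization.AtPrime q) := by
  letI := Localization.AtPrime.algebraOfLiesOver p q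
  have : IsLocalHom (algebraMap (Localization.AtPrime p) (Localization.AtPrime q)) := by
    rw [RingHom.algebraMap_toAlgebra]
    exact Localization.isLocalHom_localRingHom p q (algebraMap A B) Ideal.LiesOver.over
  exact Module.FaithfullyFlat.of_flat_of_isLocalHom

theorem descend_reduced (h : IsReduced (Localization.AtPrime q)) :
    IsReduced (Localization.AtPrime p) := by
  letI := Localization.AtPrime.algebraOfLiesOver p q
  haveI := ff p q
  exact isReduced_of_injective (algebraMap (Localization.AtPrime p) (Localization.AtPrime q))
    (FaithfulSMul.algebraMap_injective _ _)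

theorem descend_normal (h : IsDomain (Localization.AtPrime q) ∧
    IsIntegrallyClosed (Localization.AtPrime q)) :
    IsDomain (Localization.AtPrime p) ∧ IsIntegrallyClosed (Localization.AtPrime p) := by
  letI := Localization.AtPrime.algebraOfLiesOver p q
  haveI := ff p q
  haveI := h.1
  haveI := h.2
  exact Groth.Agent.Lib.Helper4.Hzn.isDomain_and_isIntegrallyClosed_of_faithfullyFlat
    (Localization.AtPrime p) (Localization.AtPrime q)

end alg

end T4989
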