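import Groth.Agent.scratch.T4989a

set_option autoImplicit false
universe u
open TensorProduct

namespace T4989

section alg2

variable {A B : Type u} [CommRing A] [CommRing B] [Algebra A B] [Algebra.Smooth A B]
  (p : Ideal A) [p.IsPrime] (q : Ideal B) [q.IsPrime] [q.LiesOver p]

attribute [local instance] Algebra.TensorProduct.rightAlgebra

/-- the map `A_p ⊗_A B → B_q` -/
noncomputable def toBq : letI := Localization.AtPrime.algebraOfLiesOver p q
    Localization.AtPrime p ⊗[A] B →ₐ[Localization.AtPrime p] Localization.AtPrime q :=
  letI := Localization.AtPrime.algebraOfLiesOver p q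
  Algebra.TensorProduct.lift (Algebra.ofId _ _) (IsScalarTower.toAlgHom A B (Localization.AtPrime q))
    (fun _ _ => Commute.all _ _)

theorem exists_isLocalization : ∃ (N : Submonoid (Localization.AtPrime p ⊗[A] B))
    (_ : Algebra (Localization.AtPrime p ⊗[A] B) (Localization.AtPrime q)),
    IsLocalization N (Localization.AtPrime q) := by
  letI := Localization.AtPrime.algebraOfLiesOver p q
  letI alg : Algebra (Localization.AtPrime p ⊗[A] B) (Localization.AtPrime q) :=
    (toBq p q).toRingHom.toAlgebra
  haveI : IsScalarTower B (Localization.AtPrime p ⊗[A] B) (Localization.AtPrime q) :=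
    IsScalarTower.of_algebraMap_eq' (by
      ext x
      simp [RingHom.algebraMap_toAlgebra, toBq])
  haveI : IsLocalization (Algebra.algebraMapSubmonoid B p.primeCompl)
      (Localization.AtPrime p ⊗[A] B) :=
    IsLocalization.tensorRight (Localization.AtPrime p) p.primeCompl
  have hle : Algebra.algebraMapSubmonoid B p.primeCompl ≤ q.primeCompl := by
    rintro _ ⟨a, ha, rfl⟩
    intro h
    apply ha
    rw [Ideal.LiesOver.over (p := p) (P := q)]
    exact h
  exact ⟨_, alg, IsLocalization.isLocalization_of_submonoid_le (Localization.AtPrime p ⊗[A] B)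
    (Localization.AtPrime q) (Algebra.algebraMapSubmonoid B p.primeCompl) q.primeCompl hle⟩

theorem ascend_reduced (h : IsReduced (Localization.AtPrime p)) :
    IsReduced (Localization.AtPrime q) := by
  obtain ⟨N, alg, hN⟩ := exists_isLocalization p q
  haveI : IsReduced (Localization.AtPrime p ⊗[A] B) :=
    Groth.Agent.Lib.Helper15.SmoothReduced.isReduced_of_smooth (R := Localization.AtPrime p)
  exact isReduced_localizationPreserves N _ inferInstance

theorem ascend_normal (h : IsDomain (Localization.AtPrime p) ∧
    IsIntegrallyClosed (Localization.AtPrime p)) :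
    IsDomain (Localization.AtPrime q) ∧ IsIntegrallyClosed (Localization.AtPrime q) := by
  obtain ⟨N, alg, hN⟩ := exists_isLocalization p q
  haveI := h.1
  haveI := h.2
  have hT : EGA4.IsNormalRing (Localization.AtPrime p ⊗[A] B) :=
    Groth.Agent.Lib.Helper1.NormalSmooth.isNormalRing_of_smooth_of_domain (Localization.AtPrime p) _
  have h1 := Groth.Agent.Lib.Helper18.J2.isNormalRing_localization N hT
  have hE : EGA4.IsNormalRing (Localization.AtPrime q) :=
    Groth.Agent.Lib.Helper18.FormFib.isNormalRing_of_ringEquiv
      (IsLocalization.algEquiv N (Localization N) (Localization.AtPrime q)).toRingEquiv h1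
  haveI := (hE (IsLocalRing.maximalIdeal (Localization.AtPrime q))).1
  have hle : (IsLocalRing.maximalIdeal (Localization.AtPrime q)).primeCompl ≤
      IsUnit.submonoid (Localization.AtPrime q) := by
    intro x hx
    have h1 : x ∉ IsLocalRing.maximalIdeal (Localization.AtPrime q) := hx
    rw [IsLocalRing.mem_maximalIdeal, mem_nonunits_iff, not_not] at h1
    exact h1
  let e : Localization.AtPrime q ≃ₐ[Localization.AtPrime q]
      Localization.AtPrime (IsLocalRing.maximalIdeal (Localization.AtPrime q)) :=
    IsLocalization.atUnits _ (IsLocalRing.maximalIdeal (Localization.AtPrime q)).primeCompl hle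
  haveI hd : IsDomain (Localization.AtPrime q) := e.toMulEquiv.isDomain _
  exact ⟨hd, Groth.Agent.Lib.Helper18.J2.isIntegrallyClosed_of_isNormalRing _ hE⟩

theorem alg_main :
    (IsReduced (Localization.AtPrime q) ↔ IsReduced (Localization.AtPrime p)) ∧
    ((IsDomain (Localization.AtPrime q) ∧ IsIntegrallyClosed (Localization.AtPrime q)) ↔
      (IsDomain (Localization.AtPrime p) ∧ IsIntegrallyClosed (Localization.AtPrime p))) :=
  ⟨⟨descend_reduced p q, ascend_reduced p q⟩, ⟨descend_normal p q, ascend_normal p q⟩⟩

end alg2

end T4989
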