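import Groth.Agent.scratch.T4989b

set_option autoImplicit false
universe u
open CategoryTheory CategoryTheory.Limits AlgebraicGeometry TopologicalSpace

namespace T4989

theorem transport {R S : Type u} [CommRing R] [CommRing S] (e : R ≃+* S) :
    (IsReduced R ↔ IsReduced S) ∧
    ((IsDomain R ∧ IsIntegrallyClosed R) ↔ (IsDomain S ∧ IsIntegrallyClosed S)) := by
  refine ⟨⟨fun h => isReduced_of_injective e.symm e.symm.injective,
    fun h => isReduced_of_injective e e.injective⟩, ⟨fun h => ?_, fun h => ?_⟩⟩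
  · haveI := h.1
    haveI := h.2
    exact ⟨e.symm.toMulEquiv.isDomain _, IsIntegrallyClosed.of_equiv e⟩
  · haveI := h.1
    haveI := h.2
    exact ⟨e.toMulEquiv.isDomain _, IsIntegrallyClosed.of_equiv e.symm⟩

theorem t4989 {X Y : Scheme.{u}} (f : X ⟶ Y)
    [LocallyOfFinitePresentation f] (x : ↥X) (hx : x ∈ f.smoothLocus) :
    (IsReduced ↑(X.presheaf.stalk x) ↔ IsReduced ↑(Y.presheaf.stalk (f.base x))) ∧
    ((IsDomain ↑(X.presheaf.stalk x) ∧ IsIntegrallyClosed ↑(X.presheaf.stalk x)) ↔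
      (IsDomain ↑(Y.presheaf.stalk (f.base x)) ∧ IsIntegrallyClosed ↑(Y.presheaf.stalk (f.base x)))) := by
  obtain ⟨U, hU, V, hV, hVU, hxV, H⟩ := exists_smooth_of_formallySmooth_stalk f x hx
  algebraize [(f.appLE U V hVU).hom]
  haveI : ((hV.primeIdealOf ⟨x, hxV⟩).asIdeal).LiesOver (hU.primeIdealOf ⟨f x, hVU hxV⟩).asIdeal :=
    ⟨congr($(IsAffineOpen.comap_primeIdealOf_appLE U hU V hV hVU hxV).1).symm⟩
  letI := Y.presheaf.algebra_section_stalk ⟨f x, hVU hxV⟩
  haveI := hU.isLocalization_stalk ⟨f x, hVU hxV⟩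
  letI := X.presheaf.algebra_section_stalk ⟨x, hxV⟩
  haveI := hV.isLocalization_stalk ⟨x, hxV⟩
  have eY := (IsLocalization.algEquiv (hU.primeIdealOf ⟨f x, hVU hxV⟩).asIdeal.primeCompl
    (Y.presheaf.stalk (f x))
    (Localization.AtPrime (hU.primeIdealOf ⟨f x, hVU hxV⟩).asIdeal)).toRingEquiv
  have eX := (IsLocalization.algEquiv (hV.primeIdealOf ⟨x, hxV⟩).asIdeal.primeCompl
    (X.presheaf.stalk x)
    (Localization.AtPrime (hV.primeIdealOf ⟨x, hxV⟩).asIdeal)).toRingEquiv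
  have h := alg_main (hU.primeIdealOf ⟨f x, hVU hxV⟩).asIdeal (hV.primeIdealOf ⟨x, hxV⟩).asIdeal
  have hX := transport eX
  have hY := transport eY
  exact ⟨hX.1.trans (h.1.trans hY.1.symm), hX.2.trans (h.2.trans hY.2.symm)⟩

end T4989
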