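import Mathlib

set_option autoImplicit false
set_option linter.style.haveILetI false
set_option linter.unusedSectionVars false

namespace T5000
open TensorProduct KaehlerDifferential IsLocalRing
universe u

section nzd
variable {k R : Type u} [Field k] [CharZero k] [CommRing R] [Algebra k R]

/-- the `f`-power torsion ideal -/
def torsIdeal (f : R) : Ideal R where
  carrier := {x | ∃ n : ℕ, f ^ n * x = 0}
  add_mem' := by
    rintro a b ⟨n, hn⟩ ⟨m, hm⟩
    refine ⟨n + m, ?_⟩
    have : f ^ (n + m) * (a + b) = f ^ m * (f ^ n * a) + f ^ n * (f ^ m * b) := by ring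
    rw [this, hn, hm, mul_zero, mul_zero, add_zero]
  zero_mem' := ⟨0, by simp⟩
  smul_mem' := by
    rintro c x ⟨n, hn⟩
    exact ⟨n, by rw [smul_eq_mul, mul_left_comm, hn, mul_zero]⟩

theorem mem_torsIdeal {f x : R} : x ∈ torsIdeal f ↔ ∃ n : ℕ, f ^ n * x = 0 := Iff.rfl

include k in
theorem isUnit_natCast_succ [Nontrivial R] (n : ℕ) : IsUnit ((n + 1 : ℕ) : R) := by
  have h : ((n + 1 : ℕ) : R) = algebraMap k R ((n + 1 : ℕ) : k) := by simp
  rw [h]
  exact (IsUnit.mk0 _ (Nat.cast_ne_zero.mpr (Nat.succ_ne_zero n))).map _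

theorem deriv_mem_torsIdeal (D : Derivation k R R) (f : R) (hf : D f = 1) {x : R} {n : ℕ}
    (hx : f ^ n * x = 0) : f ^ (n + 1) * D x = 0 := by
  have h1 : D (f ^ (n + 1) * x) = 0 := by
    rw [pow_succ, mul_assoc, mul_comm f x, ← mul_assoc, hx, zero_mul, map_zero]
  rw [Derivation.leibniz, Derivation.leibniz_pow, hf] at h1
  simp only [smul_eq_mul, Nat.add_sub_cancel, mul_one, nsmul_eq_mul] at h1
  have h2 : x * (((n + 1 : ℕ) : R) * f ^ n) = 0 := by
    rw [mul_comm x, mul_assoc, hx, mul_zero]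
  rw [h2, add_zero] at h1
  exact h1

theorem mem_smul_torsIdeal [Nontrivial R] (D : Derivation k R R) (f : R) (hf : D f = 1) :
    ∀ (n : ℕ) (x : R), f ^ n * x = 0 → x ∈ Ideal.span {f} * torsIdeal f := by
  intro n
  induction n with
  | zero =>
    intro x hx
    rw [pow_zero, one_mul] at hx
    rw [hx]
    exact Ideal.zero_mem _
  | succ n ih =>
    intro x hx
    have h1 : D (f ^ (n + 1) * x) = 0 := by rw [hx, map_zero]
    rw [Derivation.leibniz, Derivation.leibniz_pow, hf] at h1
    simp only [smul_eq_mul, Nat.add_sub_cancel, mul_one, nsmul_eq_mul] at h1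
    -- f^n * ((n+1) x + f D x) = 0
    have h2 : f ^ n * (((n + 1 : ℕ) : R) * x + f * D x) = 0 := by
      rw [← h1]; ring
    have h3 := ih _ h2
    have h4 : f * D x ∈ Ideal.span {f} * torsIdeal f :=
      Ideal.mul_mem_mul (Ideal.mem_span_singleton_self f)
        ⟨n + 2, deriv_mem_torsIdeal D f hf hx⟩
    have h5 : ((n + 1 : ℕ) : R) * x ∈ Ideal.span {f} * torsIdeal f := by
      have := Ideal.sub_mem _ h3 h4
      rwa [add_sub_cancel_right] at this
    obtain ⟨u, hu⟩ := isUnit_natCast_succ (k := k) (R := R) n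
    have h6 : x = (↑u⁻¹ : R) * (((n + 1 : ℕ) : R) * x) := by
      rw [← hu, ← mul_assoc, Units.inv_mul, one_mul]
    rw [h6]
    exact Ideal.mul_mem_left _ _ h5

theorem isSMulRegular_of_derivation [IsLocalRing R] [IsNoetherianRing R]
    (D : Derivation k R R) (f : R) (hfm : f ∈ maximalIdeal R) (hf : D f = 1) :
    IsSMulRegular R f := by
  have hK : torsIdeal f ≤ Ideal.span {f} • (torsIdeal f : Submodule R R) := by
    rintro x ⟨n, hn⟩
    exact mem_smul_torsIdeal (k := k) D f hf n x hn
  have hbot : (torsIdeal f : Submodule R R) = ⊥ :=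
    Submodule.eq_bot_of_le_smul_of_le_jacobson_bot (Ideal.span {f}) _
      (IsNoetherian.noetherian _) hK (by
        rw [IsLocalRing.jacobson_eq_maximalIdeal ⊥ bot_ne_top]
        exact (Ideal.span_singleton_le_iff_mem _).mpr hfm)
  intro a b hab
  have : a - b ∈ torsIdeal f := ⟨1, by
    simp only [smul_eq_mul] at hab
    rw [pow_one, mul_sub, hab, sub_self]⟩
  rw [hbot, Submodule.mem_bot, sub_eq_zero] at this
  exact this

end nzd

end T5000
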