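import Mathlib
import Groth.Agent.scratch.T5000a

set_option autoImplicit false
set_option linter.style.haveILetI false
set_option linter.unusedSectionVars false

namespace T5000
open TensorProduct KaehlerDifferential IsLocalRing
universe u

section cot
variable (k R : Type u) [Field k] [CommRing R] [Algebra k R] [IsLocalRing R]

/-- `m/m² → κ ⊗ Ω_{R/k}` is injective when `κ/k` is formally smooth -/
theorem kerCotangentToTensor_injective [Algebra.FormallySmooth k (ResidueField R)] :
    Function.Injective (kerCotangentToTensor k R (ResidueField R)) := by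
  have hf : Function.Surjective (algebraMap R (ResidueField R)) := IsLocalRing.residue_surjective
  let π := (IsScalarTower.toAlgHom k R (ResidueField R)).kerSquareLift
  have hπ : Function.Surjective π := by
    intro c
    obtain ⟨r, rfl⟩ := hf c
    exact ⟨Ideal.Quotient.mk _ r, rfl⟩
  have hnil : IsNilpotent (RingHom.ker (π : (R ⧸ RingHom.ker (IsScalarTower.toAlgHom k R (ResidueField R)).toRingHom ^ 2) →+* ResidueField R)) := by
    refine ⟨2, ?_⟩
    have := AlgHom.ker_kerSquareLift (IsScalarTower.toAlgHom k R (ResidueField R))
    rw [Ideal.zero_eq_bot]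
    exact (congrArg (· ^ 2) this).trans (Ideal.cotangentIdeal_square _)
  let g : ResidueField R →ₐ[k] _ :=
    Algebra.FormallySmooth.liftOfSurjective (AlgHom.id k (ResidueField R)) π hπ hnil
  have hg : π.comp g = AlgHom.id k (ResidueField R) :=
    Algebra.FormallySmooth.comp_liftOfSurjective _ _ hπ hnil
  let l := (retractionKerCotangentToTensorEquivSection (R := k) hf).symm ⟨g, hg⟩
  exact Function.HasLeftInverse.injective ⟨l.1, LinearMap.congr_fun l.2⟩

theorem one_tmul_D_ne_zero [Algebra.FormallySmooth k (ResidueField R)] (f : R)
    (hfm : f ∈ maximalIdeal R) (hf2 : f ∉ maximalIdeal R ^ 2) :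
    (1 : ResidueField R) ⊗ₜ[R] D k R f ≠ 0 := by
  have hker : RingHom.ker (algebraMap R (ResidueField R)) = maximalIdeal R :=
    IsLocalRing.ker_residue
  have hfk : f ∈ RingHom.ker (algebraMap R (ResidueField R)) := by rw [hker]; exact hfm
  intro h0
  have h1 : kerCotangentToTensor k R (ResidueField R)
      (Ideal.toCotangent _ ⟨f, hfk⟩) = 0 := by
    rw [kerCotangentToTensor_toCotangent]
    exact h0
  have h2 := kerCotangentToTensor_injective k R (h1.trans (map_zero _).symm)
  rw [Ideal.toCotangent_eq_zero] at h2
  have h3 : f ∈ RingHom.ker (algebraMap R (ResidueField R)) ^ 2 := h2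
  rw [hker] at h3
  exact hf2 h3

end cot

section coord
variable {R : Type u} [CommRing R] [IsLocalRing R]
variable {M : Type u} [AddCommGroup M] [Module R M] [Module.Free R M] [Module.Finite R M]

/-- an element of a finite free module over a local ring with nonzero image in the fibre has a
coordinate functional taking the value `1` on it -/
theorem exists_functional_eq_one (x : M) (hx : (1 : ResidueField R) ⊗ₜ[R] x ≠ 0) :
    ∃ φ : M →ₗ[R] R, φ x = 1 := by
  classical
  let b := Module.Free.chooseBasis R M
  by_contra hcon
  push_neg at hcon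
  apply hx
  have hcoord : ∀ i, b.repr x i ∈ maximalIdeal R := by
    intro i
    by_contra hi
    have hu : IsUnit (b.repr x i) := by
      by_contra hnu
      exact hi ((IsLocalRing.mem_maximalIdeal _).mpr hnu)
    obtain ⟨u, hu⟩ := hu
    apply hcon ((↑u⁻¹ : R) • b.coord i)
    rw [LinearMap.smul_apply, Module.Basis.coord_apply, ← hu, smul_eq_mul, Units.inv_mul]
  have hsum : x = ∑ i, b.repr x i • b i := (b.sum_repr x).symm
  rw [hsum, TensorProduct.tmul_sum]
  refine Finset.sum_eq_zero fun i _ => ?_
  have : algebraMap R (ResidueField R) (b.repr x i) = 0 := by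
    rw [IsLocalRing.ResidueField.algebraMap_eq, IsLocalRing.residue_eq_zero_iff]
    exact hcoord i
  rw [← TensorProduct.smul_tmul, Algebra.smul_def, mul_one, this, TensorProduct.zero_tmul]

end coord

end T5000
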