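import Mathlib
import Groth.Agent.scratch.T5000b

set_option autoImplicit false
set_option linter.style.haveILetI false
set_option linter.unusedSectionVars false

namespace T5000
open TensorProduct KaehlerDifferential IsLocalRing
universe u

section quot
variable (k R B : Type u) [Field k] [CommRing R] [Algebra k R] [CommRing B] [Algebra R B]
  [Algebra k B] [IsScalarTower k R B]

theorem mem_ker_mapBaseChange (hsurj : Function.Surjective (algebraMap R B)) (f : R)
    (hker : RingHom.ker (algebraMap R B) = Ideal.span {f})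
    (z : B ⊗[R] Ω[R⁄k]) (hz : KaehlerDifferential.mapBaseChange k R B z = 0) :
    ∃ c : B, z = c • ((1 : B) ⊗ₜ[R] D k R f) := by
  have hex := KaehlerDifferential.exact_kerCotangentToTensor_mapBaseChange k R B hsurj
  obtain ⟨y, rfl⟩ := (hex z).mp hz
  obtain ⟨⟨x, hx⟩, rfl⟩ := Ideal.toCotangent_surjective _ y
  rw [kerCotangentToTensor_toCotangent]
  have hx' : x ∈ Ideal.span {f} := hker ▸ hx
  obtain ⟨a, rfl⟩ := Ideal.mem_span_singleton'.mp hx'
  refine ⟨algebraMap R B a, ?_⟩
  have hf0 : algebraMap R B f = 0 := by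
    have : f ∈ RingHom.ker (algebraMap R B) := hker ▸ Ideal.mem_span_singleton_self f
    exact this
  have h1 : f • ((1 : B) ⊗ₜ[R] D k R a) = 0 := by
    rw [TensorProduct.smul_tmul', Algebra.smul_def, hf0, zero_mul, TensorProduct.zero_tmul]
  rw [Derivation.leibniz, TensorProduct.tmul_add, TensorProduct.tmul_smul,
    TensorProduct.tmul_smul, h1, add_zero, algebraMap_smul]

theorem projective_kaehler_quotient (hsurj : Function.Surjective (algebraMap R B)) (f : R)
    (hker : RingHom.ker (algebraMap R B) = Ideal.span {f}) [Module.Projective R Ω[R⁄k]]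
    (φ : Ω[R⁄k] →ₗ[R] R) (hφ : φ (D k R f) = 1) : Module.Projective B Ω[B⁄k] := by
  let N := B ⊗[R] Ω[R⁄k]
  let π : N →ₗ[B] Ω[B⁄k] := KaehlerDifferential.mapBaseChange k R B
  have hπ : Function.Surjective π := KaehlerDifferential.mapBaseChange_surjective k R B hsurj
  let ψ : N →ₗ[B] B :=
    (TensorProduct.AlgebraTensorModule.rid R B B).toLinearMap ∘ₗ (φ.baseChange B)
  let e : N := (1 : B) ⊗ₜ[R] D k R f
  have hψe : ψ e = 1 := by
    change (TensorProduct.AlgebraTensorModule.rid R B B) ((φ.baseChange B) ((1 : B) ⊗ₜ[R] D k R f)) = 1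
    rw [LinearMap.baseChange_tmul, hφ, TensorProduct.AlgebraTensorModule.rid_tmul, one_smul]
  have hπe : π e = 0 := by
    have hf0 : algebraMap R B f = 0 := by
      have : f ∈ RingHom.ker (algebraMap R B) := hker ▸ Ideal.mem_span_singleton_self f
      exact this
    change KaehlerDifferential.mapBaseChange k R B ((1 : B) ⊗ₜ[R] D k R f) = 0
    rw [KaehlerDifferential.mapBaseChange_tmul, KaehlerDifferential.map_D, hf0, map_zero,
      smul_zero]
  let p : N →ₗ[B] N := LinearMap.id - (LinearMap.toSpanSingleton B N e) ∘ₗ ψ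
  have hp : ∀ z, p z = z - ψ z • e := fun z => by
    simp [p, LinearMap.toSpanSingleton_apply]
  have hle : LinearMap.ker π ≤ LinearMap.ker p := by
    intro z hz
    obtain ⟨c, rfl⟩ := mem_ker_mapBaseChange k R B hsurj f hker z hz
    rw [LinearMap.mem_ker, hp, map_smul, hψe, smul_eq_mul, mul_one, sub_self]
  let s : Ω[B⁄k] →ₗ[B] N :=
    ((LinearMap.ker π).liftQ p hle) ∘ₗ (π.quotKerEquivOfSurjective hπ).symm.toLinearMap
  have hs : ∀ z, s (π z) = p z := by
    intro z
    have : (π.quotKerEquivOfSurjective hπ).symm (π z) = Submodule.Quotient.mk z := by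
      rw [LinearEquiv.symm_apply_eq]
      rfl
    simp only [s, LinearMap.comp_apply, LinearEquiv.coe_coe, this, Submodule.liftQ_apply]
  have hsplit : π ∘ₗ s = LinearMap.id := by
    refine LinearMap.ext fun y => ?_
    obtain ⟨z, rfl⟩ := hπ y
    rw [LinearMap.comp_apply, hs, hp, map_sub, map_smul, hπe, smul_zero, sub_zero,
      LinearMap.id_apply]
  haveI : Module.Projective B N := inferInstance
  exact Module.Projective.of_split s π hsplit

end quot

end T5000
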