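import Mathlib
import Groth.Agent.scratch.T5000c
import Groth.Agent.Lib.Helper23.FieldSmooth
import Groth.Agent.Lib.Helper18.CatHt

set_option autoImplicit false
set_option linter.style.haveILetI false
set_option linter.unusedSectionVars false

namespace T5000
open TensorProduct KaehlerDifferential IsLocalRing
universe u

section
variable (k : Type u) [Field k] [CharZero k]
  (R : Type u) [CommRing R] [Algebra k R] [IsLocalRing R] [IsNoetherianRing R]

theorem regular_of_le_sq (hm : maximalIdeal R ≤ maximalIdeal R ^ 2) : IsRegularLocalRing R := by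
  have hbot : maximalIdeal R = ⊥ := by
    have h1 : (maximalIdeal R : Submodule R R) ≤ maximalIdeal R • (maximalIdeal R : Submodule R R) := by
      rw [smul_eq_mul, ← pow_two]; exact hm
    exact Submodule.eq_bot_of_le_smul_of_le_jacobson_bot (maximalIdeal R) _
      (IsNoetherian.noetherian _) h1 (by
        rw [IsLocalRing.jacobson_eq_maximalIdeal ⊥ bot_ne_top])
  apply IsRegularLocalRing.of_spanFinrank_maximalIdeal_le
  rw [hbot, Submodule.spanFinrank_bot]
  exact_mod_cast ringKrullDim_nonneg_of_nontrivial

theorem step [Module.Finite R Ω[R⁄k]] [Module.Free R Ω[R⁄k]]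
    (hm : ¬ maximalIdeal R ≤ maximalIdeal R ^ 2) :
    ∃ f ∈ maximalIdeal R, IsSMulRegular R f ∧
      Module.Finite (R ⧸ Ideal.span {f}) Ω[(R ⧸ Ideal.span {f})⁄k] ∧
      Module.Projective (R ⧸ Ideal.span {f}) Ω[(R ⧸ Ideal.span {f})⁄k] := by
  obtain ⟨f, hfm, hf2⟩ := SetLike.not_le_iff_exists.mp hm
  haveI : Algebra.FormallySmooth k (ResidueField R) :=
    Groth.Agent.Lib.Helper23.FieldSmooth.formallySmooth_of_charZero k (ResidueField R)
  have h1 := one_tmul_D_ne_zero k R f hfm hf2
  obtain ⟨φ, hφ⟩ := exists_functional_eq_one (D k R f) h1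
  let Dv : Derivation k R R := φ.compDer (D k R)
  have hDv : Dv f = 1 := hφ
  have hreg : IsSMulRegular R f := isSMulRegular_of_derivation (k := k) Dv f hfm hDv
  refine ⟨f, hfm, hreg, ?_, ?_⟩
  · exact Module.Finite.of_surjective
      (KaehlerDifferential.mapBaseChange k R (R ⧸ Ideal.span {f}))
      (KaehlerDifferential.mapBaseChange_surjective k R _ Ideal.Quotient.mk_surjective)
  · exact projective_kaehler_quotient k R (R ⧸ Ideal.span {f}) Ideal.Quotient.mk_surjective f
      (by rw [Ideal.Quotient.algebraMap_eq, Ideal.mk_ker]) φ hφ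

end

/-- Stacks 00TX core: a Noetherian local algebra over a field of characteristic zero whose module
of differentials is finite free is regular. -/
theorem regular_of_free (k : Type u) [Field k] [CharZero k] :
    ∀ (d : ℕ) (R : Type u) [CommRing R] [Algebra k R] [IsLocalRing R] [IsNoetherianRing R]
      [Module.Finite R Ω[R⁄k]] [Module.Free R Ω[R⁄k]],
      ringKrullDim R = (d : WithBot ℕ∞) → IsRegularLocalRing R := by
  intro d
  induction d with
  | zero =>
    intro R _ _ _ _ _ _ hd
    by_cases hm : maximalIdeal R ≤ maximalIdeal R ^ 2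
    · exact regular_of_le_sq R hm
    · exfalso
      obtain ⟨f, hfm, hreg, -, -⟩ := step k R hm
      have h3 := ringKrullDim_quotient_span_singleton_succ_eq_ringKrullDim hreg hfm
      haveI : Nontrivial (R ⧸ Ideal.span {f}) :=
        Ideal.Quotient.nontrivial_iff.mpr (fun h => by
          have : (1 : R) ∈ maximalIdeal R := by
            have h1 : (1 : R) ∈ Ideal.span {f} := h ▸ Submodule.mem_top
            exact (Ideal.span_singleton_le_iff_mem _).mpr hfm h1
          exact (Ideal.ne_top_iff_one _).mp (IsLocalRing.maximalIdeal.isMaximal R).ne_top this)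
      have h4 : (0 : WithBot ℕ∞) ≤ ringKrullDim (R ⧸ Ideal.span {f}) :=
        ringKrullDim_nonneg_of_nontrivial
      rw [hd] at h3
      have h5 : (1 : WithBot ℕ∞) ≤ ringKrullDim (R ⧸ Ideal.span {f}) + 1 := by
        calc (1 : WithBot ℕ∞) = 0 + 1 := by simp
          _ ≤ ringKrullDim (R ⧸ Ideal.span {f}) + 1 := by gcongr
      rw [h3] at h5
      exact absurd h5 (by simp)
  | succ d ih =>
    intro R _ _ _ _ _ _ hd
    by_cases hm : maximalIdeal R ≤ maximalIdeal R ^ 2
    · exact regular_of_le_sq R hm
    · obtain ⟨f, hfm, hreg, hfin, hproj⟩ := step k R hm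
      have h3 := ringKrullDim_quotient_span_singleton_succ_eq_ringKrullDim hreg hfm
      haveI : Nontrivial (R ⧸ Ideal.span {f}) :=
        Ideal.Quotient.nontrivial_iff.mpr (fun h => by
          have : (1 : R) ∈ maximalIdeal R := by
            have h1 : (1 : R) ∈ Ideal.span {f} := h ▸ Submodule.mem_top
            exact (Ideal.span_singleton_le_iff_mem _).mpr hfm h1
          exact (Ideal.ne_top_iff_one _).mp (IsLocalRing.maximalIdeal.isMaximal R).ne_top this)
      haveI : IsLocalRing (R ⧸ Ideal.span {f}) :=
        IsLocalRing.of_surjective' (Ideal.Quotient.mk (Ideal.span {f})) Ideal.Quotient.mk_surjective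
      haveI := hfin
      haveI := hproj
      haveI : Module.Free (R ⧸ Ideal.span {f}) Ω[(R ⧸ Ideal.span {f})⁄k] :=
        Module.free_of_flat_of_isLocalRing
      have hdim : ringKrullDim (R ⧸ Ideal.span {f}) = (d : WithBot ℕ∞) := by
        rw [hd] at h3
        have hne : ringKrullDim (R ⧸ Ideal.span {f}) ≠ ⊥ := ringKrullDim_ne_bot
        obtain ⟨n, hn⟩ := WithBot.ne_bot_iff_exists.mp hne
        rw [← hn] at h3 ⊢
        have h6 : n + 1 = ((d + 1 : ℕ) : ℕ∞) := by exact_mod_cast h3
        have h7 : n = (d : ℕ∞) := by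
          have : n + 1 = (d : ℕ∞) + 1 := by rw [h6]; push_cast; rfl
          exact (ENat.add_left_injective_of_ne_top ENat.one_ne_top) this
        rw [h7]; rfl
      have hB := ih (R ⧸ Ideal.span {f}) hdim
      exact Groth.Agent.Lib.Helper18.CatHt.isRegularLocalRing_of_quotient R hfm hreg hB

end T5000
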