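import Mathlib
import Groth.Agent.scratch.T5000d
import Groth.Agent.Lib.Helper23.SmoothField
import Groth.Agent.Lib.Helper18.Exc2
import Groth.Agent.Lib.Helper25.RegularSmooth

set_option autoImplicit false
set_option linter.style.haveILetI false
set_option linter.unusedSectionVars false

namespace T5000
open TensorProduct KaehlerDifferential IsLocalRing
universe u

theorem t5000 (k A : Type u) [Field k] [CharZero k] [CommRing A]
    [Algebra k A] [Algebra.FiniteType k A] (q : Ideal A) [q.IsPrime] :
    Algebra.IsSmoothAt k q ↔
      Module.Free (Localization.AtPrime q) (KaehlerDifferential k (Localization.AtPrime q)) := by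
  haveI : IsNoetherianRing A := Algebra.FiniteType.isNoetherianRing k A
  haveI : IsNoetherianRing (Localization.AtPrime q) :=
    IsLocalization.isNoetherianRing q.primeCompl _ inferInstance
  haveI : Module.Finite (Localization.AtPrime q) Ω[Localization.AtPrime q⁄k] := inferInstance
  constructor
  · intro h
    haveI : Algebra.FormallySmooth k (Localization.AtPrime q) := h
    haveI : Module.Projective (Localization.AtPrime q) Ω[Localization.AtPrime q⁄k] :=
      inferInstance
    exact Module.free_of_flat_of_isLocalRing
  · intro hfree
    haveI := hfree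
    obtain ⟨d, hd⟩ : ∃ d : ℕ, ringKrullDim (Localization.AtPrime q) = (d : WithBot ℕ∞) := by
      have h1 : ringKrullDim (Localization.AtPrime q) ≠ ⊥ := ringKrullDim_ne_bot
      have h2 : ringKrullDim (Localization.AtPrime q) ≠ ⊤ := ringKrullDim_ne_top
      obtain ⟨n, hn⟩ := WithBot.ne_bot_iff_exists.mp h1
      have h3 : n ≠ ⊤ := by
        rintro rfl
        exact h2 hn.symm
      obtain ⟨d, rfl⟩ := ENat.ne_top_iff_exists.mp h3
      exact ⟨d, hn.symm⟩
    haveI hreg : IsRegularLocalRing (Localization.AtPrime q) :=
      regular_of_free k d (Localization.AtPrime q) hd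
    haveI : IsRegularRing (Localization.AtPrime q) :=
      Groth.Agent.Lib.Helper25.RegularSmooth.isRegularRing_of_isRegularLocalRing _
    have hgeo : CAlg.IsGeometricallyRegular k (Localization.AtPrime q) :=
      Groth.Agent.Lib.Helper18.Exc.geomRegular_of_isRegularRing_of_perfectField k _ inferInstance
    haveI : Algebra.FormallySmooth k k := inferInstance
    exact ((Groth.Agent.Lib.Helper23.SmoothField.tfae_atPrime (k := k) (k₀ := k) q).out 3 0).mp hgeo

end T5000
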