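import Groth.Statements.S5000
import Mathlib
import Groth.Agent.Lib.Helper23.Char0Free

set_option autoImplicit false
universe u
open Unram17

namespace T5000

theorem t5000 (k A : Type u) [Field k] [CharZero k] [CommRing A]
    [Algebra k A] [Algebra.FiniteType k A] (q : Ideal A) [q.IsPrime] :
    Algebra.IsSmoothAt k q ↔
      Module.Free (Localization.AtPrime q) (KaehlerDifferential k (Localization.AtPrime q)) := by
  exact Groth.Agent.Lib.Helper23.Char0Free.t5000 k A q

end T5000
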