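import Mathlib
import Groth.Agent.Lib.Helper23.Imperf2
import Groth.Agent.Lib.Helper23.CK9
import Groth.Agent.Lib.Helper23.FieldSep
import Groth.Agent.Lib.Helper18.PMor4

set_option autoImplicit false
set_option linter.unusedSectionVars false
set_option linter.style.haveILetI false
universe u

namespace T5074
open IsLocalRing TensorProduct KaehlerDifferential

section Ker

variable {A : Type u} [CommRing A] (P : Ideal A) [P.IsPrime]

/-- every element of the kernel of `A → A_P` lies in every prime below `P`. -/
theorem ker_le_of_le (Q : Ideal A) [Q.IsPrime] (hQ : Q ≤ P) :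
    RingHom.ker (algebraMap A (Localization.AtPrime P)) ≤ Q := by
  intro a ha
  rw [RingHom.mem_ker, IsLocalization.map_eq_zero_iff P.primeCompl] at ha
  obtain ⟨s, hs⟩ := ha
  have h1 : (s : A) * a ∈ Q := by rw [hs]; exact zero_mem _
  rcases Ideal.IsPrime.mem_or_mem inferInstance h1 with h | h
  · exact absurd (hQ h) s.2
  · exact h

theorem ker_eq_of_isDomain [IsDomain (Localization.AtPrime P)] (q : Ideal A)
    (hq : q ∈ minimalPrimes A) (hqP : q ≤ P) :
    RingHom.ker (algebraMap A (Localization.AtPrime P)) = q := by
  haveI : q.IsPrime := hq.1.1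
  apply le_antisymm (ker_le_of_le P q hqP)
  exact hq.2 ⟨RingHom.ker_isPrime _, bot_le⟩ (ker_le_of_le P q hqP)

variable [IsDomain (Localization.AtPrime P)] (q : Ideal A) (hq : q ∈ minimalPrimes A) (hqP : q ≤ P)
  (L : Type u) [Field L] [Algebra (Localization.AtPrime P) L]
  [IsFractionRing (Localization.AtPrime P) L]

/-- the map `A/q → Frac(A_P)`. -/
noncomputable def quotToFrac : A ⧸ q →+* L :=
  Ideal.Quotient.lift q ((algebraMap (Localization.AtPrime P) L).comp
    (algebraMap A (Localization.AtPrime P))) (fun a ha => by
      have h1 : a ∈ RingHom.ker (algebraMap A (Localization.AtPrime P)) := by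
        rw [ker_eq_of_isDomain P q hq hqP]; exact ha
      rw [RingHom.comp_apply, RingHom.mem_ker.mp h1, map_zero])

theorem quotToFrac_mk (a : A) : quotToFrac P q hq hqP L (Ideal.Quotient.mk q a) =
    algebraMap (Localization.AtPrime P) L (algebraMap A (Localization.AtPrime P) a) := rfl

theorem quotToFrac_injective : Function.Injective (quotToFrac P q hq hqP L) := by
  rw [injective_iff_map_eq_zero]
  intro x hx
  obtain ⟨a, rfl⟩ := Ideal.Quotient.mk_surjective x
  rw [quotToFrac_mk] at hx
  have h1 : algebraMap A (Localization.AtPrime P) a = 0 :=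
    (IsFractionRing.injective (Localization.AtPrime P) L) (by rw [hx, map_zero])
  rw [Ideal.Quotient.eq_zero_iff_mem, ← ker_eq_of_isDomain P q hq hqP]
  exact h1

theorem isFractionRing_quot :
    letI : Algebra (A ⧸ q) L := (quotToFrac P q hq hqP L).toAlgebra
    IsFractionRing (A ⧸ q) L := by
  letI : Algebra (A ⧸ q) L := (quotToFrac P q hq hqP L).toAlgebra
  haveI : FaithfulSMul (A ⧸ q) L :=
    (faithfulSMul_iff_algebraMap_injective (A ⧸ q) L).mpr (quotToFrac_injective P q hq hqP L)
  apply IsFractionRing.of_field
  intro z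
  obtain ⟨r, r', hr', rfl⟩ := IsFractionRing.div_surjective (A := Localization.AtPrime P) z
  obtain ⟨⟨a, s⟩, has⟩ := IsLocalization.surj P.primeCompl r
  obtain ⟨⟨a', s'⟩, has'⟩ := IsLocalization.surj P.primeCompl r'
  simp only at has has'
  refine ⟨Ideal.Quotient.mk q (a * s'), Ideal.Quotient.mk q (a' * s), ?_⟩
  have hs : algebraMap (Localization.AtPrime P) L (algebraMap A _ (s : A)) ≠ 0 := by
    intro h0
    have h1 := (IsFractionRing.injective (Localization.AtPrime P) L) (h0.trans (map_zero _).symm)
    exact (IsLocalization.map_units (Localization.AtPrime P) s).ne_zero h1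
  have hs' : algebraMap (Localization.AtPrime P) L (algebraMap A _ (s' : A)) ≠ 0 := by
    intro h0
    have h1 := (IsFractionRing.injective (Localization.AtPrime P) L) (h0.trans (map_zero _).symm)
    exact (IsLocalization.map_units (Localization.AtPrime P) s').ne_zero h1
  have hr'0 : algebraMap (Localization.AtPrime P) L r' ≠ 0 := by
    intro h0
    have h1 := (IsFractionRing.injective (Localization.AtPrime P) L) (h0.trans (map_zero _).symm)
    exact (nonZeroDivisors.ne_zero hr') h1
  change _ = quotToFrac P q hq hqP L _ / quotToFrac P q hq hqP L _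
  rw [quotToFrac_mk, quotToFrac_mk, map_mul, map_mul, map_mul, map_mul, ← has, ← has', map_mul,
    map_mul]
  field_simp

end Ker

end T5074
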