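import Groth.Agent.scratch.T5074a
import Groth.Agent.Lib.Helper23.CohenDomain
import Groth.Agent.Lib.Helper9.SemiLocalProd

set_option autoImplicit false
set_option linter.unusedSectionVars false
set_option linter.style.haveILetI false
universe u

namespace T5074
open IsLocalRing TensorProduct KaehlerDifferential Groth.Agent.Lib.Helper20

section Fin

variable {k A : Type u} [Field k] [CommRing A] [IsLocalRing A] [IsNoetherianRing A] [Algebra k A]
  [IsAdicComplete (maximalIdeal A) A] [Module.Finite k (ResidueField A)]

/-- in characteristic `p` with `[k : k^p] < ∞`, the module of differentials of a complete local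
`k`-algebra with residue field finite over `k` is finite. -/
theorem finite_kaehler (p : ℕ) [Fact p.Prime] [CharP k p] (hk : (frobenius k p).Finite) :
    Module.Finite A (Ω[A⁄k]) := by
  obtain ⟨m, t, ht⟩ := Submodule.fg_iff_exists_fin_generating_family.mp
    (IsNoetherian.noetherian (maximalIdeal A))
  have htm : ∀ i, t i ∈ maximalIdeal A := fun i => ht ▸ Submodule.subset_span ⟨i, rfl⟩
  have htmin : maximalIdeal A ∈ (Ideal.span (Set.range t)).minimalPrimes := by
    have : Ideal.span (Set.range t) = maximalIdeal A := ht
    rw [this, Ideal.minimalPrimes_eq_subsingleton_self]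
    rfl
  have hfin := Groth.Agent.Lib.Helper23.CohenDomain.finite_Phi (k₀ := k) t htm htmin
  letI : Algebra (MvPowerSeries (Fin m) k) A := (CohenReg.Phi k t htm).toRingHom.toAlgebra
  haveI : IsScalarTower k (MvPowerSeries (Fin m) k) A := IsScalarTower.of_algebraMap_eq
    (fun c => ((CohenReg.Phi k t htm).commutes c).symm)
  haveI : Module.Finite (MvPowerSeries (Fin m) k) A := hfin
  haveI := Groth.Agent.Lib.Helper23.Imperf2.finite_kaehler_ps p k m hk
  let f := mapBaseChange k (MvPowerSeries (Fin m) k) A
  haveI : Module.Finite A (LinearMap.range f) := Module.Finite.range f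
  let e : (Ω[A⁄k] ⧸ LinearMap.range f) ≃ₗ[A] Ω[A⁄MvPowerSeries (Fin m) k] :=
    (exact_mapBaseChange_map k (MvPowerSeries (Fin m) k) A).linearEquivOfSurjective
      (map_surjective k (MvPowerSeries (Fin m) k) A)
  haveI : Module.Finite A (Ω[A⁄k] ⧸ LinearMap.range f) := Module.Finite.equiv e.symm
  exact Module.Finite.of_submodule_quotient (LinearMap.range f)

/-- a finite module over a complete local ring is its own completion. -/
noncomputable def ofEquiv (M : Type u) [AddCommGroup M] [Module A M] [Module.Finite A M] :
    M ≃ₗ[A] AdicCompletion (maximalIdeal A) M :=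
  haveI := Groth.Agent.Lib.Helper9.SemiLocalProd.isAdicComplete_of_finite A M
  LinearEquiv.ofBijective (AdicCompletion.of (maximalIdeal A) M)
    (AdicCompletion.of_bijective_iff.mpr inferInstance)

end Fin

end T5074
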