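import Groth.Agent.scratch.T5074b
import Groth.Agent.Lib.Helper23.CompletedKaehler

set_option autoImplicit false
set_option linter.unusedSectionVars false
set_option linter.style.haveILetI false
universe u

namespace T5074
open IsLocalRing TensorProduct KaehlerDifferential Groth.Agent.Lib.Helper20

section Free

variable {k R : Type u} [Field k] [CommRing R] [IsLocalRing R] [IsNoetherianRing R] [Algebra k R]

/-- a Noetherian local `k`-algebra, formally smooth for its adic topology, with finite module of
differentials has free module of differentials. -/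
theorem free_kaehler_of_adic (hfs : CAlgX.IsAdicFormallySmooth k R (maximalIdeal R))
    [Module.Finite R (Ω[R⁄k])] : Module.Free R (Ω[R⁄k]) := by
  classical
  set r := Module.finrank (ResidueField R) (ResidueField R ⊗[R] Ω[R⁄k]) with hr
  let b : Module.Basis (Fin r) (ResidueField R) (ResidueField R ⊗[R] Ω[R⁄k]) :=
    Module.finBasis _ _
  have hmk : Function.Surjective (TensorProduct.mk R (ResidueField R) Ω[R⁄k] 1) :=
    TensorProduct.mk_surjective R Ω[R⁄k] (ResidueField R) residue_surjective
  choose ω hω using fun i => hmk (b i)
  have hb : ∀ i, b i = (1 : ResidueField R) ⊗ₜ[R] ω i := fun i => (hω i).symm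
  have hspan : Submodule.span R (Set.range ω) = ⊤ :=
    IsLocalRing.span_eq_top_of_tmul_eq_basis ω b (fun i => (hb i).symm)
  have hli : LinearIndependent R ω := by
    rw [Fintype.linearIndependent_iff]
    intro c hc i
    have h1 : c i ∈ ⨅ n : ℕ, maximalIdeal R ^ n := by
      rw [Ideal.mem_iInf]
      intro n
      refine Groth.Agent.Lib.Helper23.CompletedKaehler.coeff_mem_of_sum_mem hfs b ω hb n c ?_ i
      rw [hc]
      exact zero_mem _
    rw [Ideal.iInf_pow_eq_bot_of_isLocalRing _ (Ideal.IsPrime.ne_top')] at h1
    exact h1
  exact Module.Free.of_basis (Module.Basis.mk hli hspan.ge)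

end Free

end T5074
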