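import Groth.Agent.scratch.T5074c
import Groth.Agent.S2036
import Groth.Agent.S5989
import Groth.Agent.Lib.Helper23.CK5
import Groth.Agent.Lib.Helper23.FlatFibreSmooth
import Groth.Agent.Lib.Helper21.ChartPt5

set_option autoImplicit false
set_option linter.unusedSectionVars false
set_option linter.style.haveILetI false
universe u

namespace T5074
open IsLocalRing TensorProduct KaehlerDifferential Groth.Agent.Lib.Helper20

section Transfer

variable {A : Type u} [CommRing A] [IsLocalRing A] [IsNoetherianRing A]
  [IsAdicComplete (maximalIdeal A) A] (P : Ideal A) [P.IsPrime]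
  {k : Type u} [Field k] [Algebra k A]

/-- for finite `Ω`, the localized completed differentials are the differentials of `A_P`. -/
noncomputable def locEquiv [Module.Finite A (Ω[A⁄k])] :
    LocalizedModule P.primeCompl (AdicCompletion (maximalIdeal A) (Ω[A⁄k])) ≃ₗ[Localization.AtPrime P]
      Ω[Localization.AtPrime P⁄k] :=
  ((IsLocalizedModule.mapEquiv P.primeCompl
      (LocalizedModule.mkLinearMap P.primeCompl (Ω[A⁄k]))
      (LocalizedModule.mkLinearMap P.primeCompl (AdicCompletion (maximalIdeal A) (Ω[A⁄k])))
      (Localization.AtPrime P) (ofEquiv (Ω[A⁄k]))).symm.trans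
    (IsLocalizedModule.isBaseChange P.primeCompl (Localization.AtPrime P)
      (LocalizedModule.mkLinearMap P.primeCompl (Ω[A⁄k]))).equiv.symm).trans
    (tensorKaehlerEquivOfFormallyEtale k A (Localization.AtPrime P))

end Transfer

section CharP

variable {k A : Type u} [Field k] [CommRing A] [IsLocalRing A] [IsNoetherianRing A] [Algebra k A]
  [IsAdicComplete (maximalIdeal A) A] [Module.Finite k (ResidueField A)]

theorem finrank_frac (p : ℕ) [Fact p.Prime] [CharP k p] (hk : (frobenius k p).Finite)
    (P : Ideal A) [P.IsPrime] [IsDomain (Localization.AtPrime P)]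
    (q : Ideal A) (hq : q ∈ minimalPrimes A) (hqP : q ≤ P) (n : ℕ)
    (hn : ringKrullDim (A ⧸ q) = n)
    (L : Type u) [Field L] [Algebra (Localization.AtPrime P) L]
    [IsFractionRing (Localization.AtPrime P) L] [Algebra k L]
    [IsScalarTower k (Localization.AtPrime P) L] [Algebra.IsGeometricallyReduced k L] :
    Module.finrank L (Ω[L⁄k]) = n := by
  have hinj := Groth.Agent.Lib.Helper23.FieldSep.injective_mapBaseChange_of_isGeometricallyReduced
    ℤ k L
  haveI hqprime : q.IsPrime := Ideal.minimalPrimes_isPrime hq
  haveI : IsLocalRing (A ⧸ q) :=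
    IsLocalRing.of_surjective' (Ideal.Quotient.mk q) Ideal.Quotient.mk_surjective
  haveI : IsAdicComplete (maximalIdeal (A ⧸ q)) (A ⧸ q) :=
    Groth.Agent.Lib.Helper9.SemiLocalProd.isAdicComplete_maximalIdeal_of_finite A (A ⧸ q)
  haveI : Module.Finite k (ResidueField (A ⧸ q)) :=
    Groth.Agent.Lib.Helper23.CK.finite_residueField_quotient q
  letI : Algebra (A ⧸ q) L := (quotToFrac P q hq hqP L).toAlgebra
  haveI : IsFractionRing (A ⧸ q) L := isFractionRing_quot P q hq hqP L
  haveI : IsScalarTower k (A ⧸ q) L := IsScalarTower.of_algebraMap_eq (fun c => by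
    show algebraMap k L c = quotToFrac P q hq hqP L (Ideal.Quotient.mk q (algebraMap k A c))
    rw [quotToFrac_mk, ← IsScalarTower.algebraMap_apply k A (Localization.AtPrime P),
      ← IsScalarTower.algebraMap_apply k (Localization.AtPrime P) L])
  have h2 := (Groth.Agent.S5989.result p k (A ⧸ q) L hk n hn).1
  rw [h2, LinearMap.ker_eq_bot.mpr hinj, finrank_bot, add_zero]

theorem main_charP (p : ℕ) [Fact p.Prime] [CharP k p] (hk : (frobenius k p).Finite)
    (P : Ideal A) [P.IsPrime] (hP : CAlg.IsGeometricallyRegular k (Localization.AtPrime P))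
    (q : Ideal A) (hq : q ∈ minimalPrimes A) (hqP : q ≤ P) (n : ℕ)
    (hn : ringKrullDim (A ⧸ q) = n) :
    Module.Free (Localization.AtPrime P) (LocalizedModule P.primeCompl
      (AdicCompletion (maximalIdeal A) (Ω[A⁄k]))) ∧
    Module.finrank (Localization.AtPrime P) (LocalizedModule P.primeCompl
      (AdicCompletion (maximalIdeal A) (Ω[A⁄k]))) = n := by
  have hfs := (Groth.Agent.S2036.result p).mp hP
  haveI := Groth.Agent.Lib.Helper18.PMor.isRegularRing_of_isGeometricallyRegular hP
  haveI : IsRegularLocalRing (Localization.AtPrime P) :=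
    .of_isRegularRing_of_isLocalRing _
  haveI : IsDomain (Localization.AtPrime P) :=
    Groth.Agent.Lib.Helper21.isDomain_of_isRegularLocalRing _
  haveI : Module.Finite A (Ω[A⁄k]) := finite_kaehler p hk
  haveI : Module.Finite (Localization.AtPrime P) (Ω[Localization.AtPrime P⁄k]) :=
    Module.Finite.equiv (tensorKaehlerEquivOfFormallyEtale k A (Localization.AtPrime P))
  haveI : Module.Free (Localization.AtPrime P) (Ω[Localization.AtPrime P⁄k]) :=
    free_kaehler_of_adic hfs
  let e := locEquiv (k := k) P
  refine ⟨Module.Free.of_equiv e.symm, ?_⟩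
  rw [e.finrank_eq]
  have hGR : CAlg.IsGeometricallyRegular k (FractionRing (Localization.AtPrime P)) :=
    Groth.Agent.Lib.Helper23.FlatFibreSmooth.geomRegular_localization hP _
  haveI : Algebra.IsGeometricallyReduced k (FractionRing (Localization.AtPrime P)) :=
    Groth.Agent.Lib.Helper18.PMor.isGeometricallyReduced_of_isGeometricallyRegular hGR
  have h1 : Module.finrank (Localization.AtPrime P) (Ω[Localization.AtPrime P⁄k]) =
      Module.finrank (FractionRing (Localization.AtPrime P))
        (Ω[FractionRing (Localization.AtPrime P)⁄k]) := by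
    rw [← Module.finrank_baseChange (R := FractionRing (Localization.AtPrime P))
      (S := Localization.AtPrime P)]
    exact (tensorKaehlerEquivOfFormallyEtale k (Localization.AtPrime P)
      (FractionRing (Localization.AtPrime P))).finrank_eq
  rw [h1]
  exact finrank_frac p hk P q hq hqP n hn (FractionRing (Localization.AtPrime P))

end CharP

end T5074
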