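import Groth.Agent.scratch.T5074d
import Groth.Agent.Lib.Helper23.CK8

set_option autoImplicit false
set_option linter.unusedSectionVars false
set_option linter.style.haveILetI false
universe u

namespace T5074
open IsLocalRing TensorProduct KaehlerDifferential MvPowerSeries
open Groth.Agent.Lib.Helper23.CompletedKaehlerSep Groth.Agent.Lib.Helper23.CK

section C1

variable {k B : Type u} [Field k] [CommRing B] [IsDomain B] [IsLocalRing B] [IsNoetherianRing B]
  [IsAdicComplete (maximalIdeal B) B] [Algebra k B] [Module.Finite k (ResidueField B)]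

/-- separability hypothesis in characteristic zero. -/
theorem hsep_char0 [CharZero k] {n : ℕ} [Algebra (MvPowerSeries (Fin n) k) B]
    [IsScalarTower k (MvPowerSeries (Fin n) k) B] [Module.Finite (MvPowerSeries (Fin n) k) B]
    (hinj : Function.Injective (algebraMap (MvPowerSeries (Fin n) k) B)) (a : B) :
    ∃ F : Polynomial (MvPowerSeries (Fin n) k), Polynomial.aeval a F = 0 ∧
      (F.map (algebraMap (MvPowerSeries (Fin n) k)
        (FractionRing (MvPowerSeries (Fin n) k)))).Separable := by
  classical
  haveI : IsDomain (MvPowerSeries (Fin n) k) := NoZeroDivisors.to_isDomain _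
  have hinjE : Function.Injective (algebraMap (MvPowerSeries (Fin n) k) (FractionRing B)) := by
    rw [IsScalarTower.algebraMap_eq (MvPowerSeries (Fin n) k) B (FractionRing B), RingHom.coe_comp]
    exact (IsFractionRing.injective B (FractionRing B)).comp hinj
  letI : Algebra (FractionRing (MvPowerSeries (Fin n) k)) (FractionRing B) :=
    (IsFractionRing.lift hinjE).toAlgebra
  haveI : IsScalarTower (MvPowerSeries (Fin n) k) (FractionRing (MvPowerSeries (Fin n) k))
      (FractionRing B) :=
    IsScalarTower.of_algebraMap_eq (fun x => (IsFractionRing.lift_algebraMap hinjE x).symm)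
  haveI : Algebra.IsIntegral (MvPowerSeries (Fin n) k) B := inferInstance
  haveI : Algebra.IsAlgebraic (FractionRing (MvPowerSeries (Fin n) k)) (FractionRing B) :=
    isAlgebraic_of_isFractionRing (MvPowerSeries (Fin n) k) B
      (FractionRing (MvPowerSeries (Fin n) k)) (FractionRing B)
  haveI : CharZero (FractionRing (MvPowerSeries (Fin n) k)) :=
    charZero_of_injective_algebraMap
      (FaithfulSMul.algebraMap_injective k (FractionRing (MvPowerSeries (Fin n) k)))
  set α := algebraMap B (FractionRing B) a with hα
  have hint : IsIntegral (FractionRing (MvPowerSeries (Fin n) k)) α :=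
    (Algebra.IsAlgebraic.isAlgebraic α).isIntegral
  set μ := minpoly (FractionRing (MvPowerSeries (Fin n) k)) α with hμ
  have hμsep : μ.Separable := (minpoly.irreducible hint).separable
  obtain ⟨b, hb, hF⟩ := IsLocalization.integerNormalization_spec
    (nonZeroDivisors (MvPowerSeries (Fin n) k)) μ
  refine ⟨IsLocalization.integerNormalization (nonZeroDivisors (MvPowerSeries (Fin n) k)) μ,
    ?_, ?_⟩
  · apply IsFractionRing.injective B (FractionRing B)
    rw [map_zero, ← Polynomial.aeval_algebraMap_apply]
    exact IsLocalization.integerNormalization_aeval_eq_zero _ μ (minpoly.aeval _ _)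
  · rw [hF, Algebra.smul_def]
    refine Polynomial.Separable.unit_mul ?_ hμsep
    rw [Polynomial.algebraMap_apply]
    refine Polynomial.isUnit_C.mpr (isUnit_iff_ne_zero.mpr ?_)
    intro h0
    exact nonZeroDivisors.ne_zero hb
      ((IsFractionRing.injective (MvPowerSeries (Fin n) k) _) (h0.trans (map_zero _).symm))

/-- in characteristic zero the completed differentials of a complete local domain of dimension `d`
are generically generated by `d` differentials. -/
theorem exists_genAt_bot_char0 [CharZero k] (d : ℕ) (hd : ringKrullDim B = d) :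
    ∃ t : Fin d → B, GenAt (⊥ : Ideal B) (fun j => dhat (k := k) (t j)) := by
  obtain ⟨n, w, hinj, hloc, hfin⟩ :=
    Groth.Agent.Lib.Helper23.CohenDomain.t2460main (k₀ := k) (A := B)
  letI : Algebra (MvPowerSeries (Fin n) k) B := w.toRingHom.toAlgebra
  haveI : IsScalarTower k (MvPowerSeries (Fin n) k) B :=
    IsScalarTower.of_algebraMap_eq (fun c => (w.commutes c).symm)
  haveI : Module.Finite (MvPowerSeries (Fin n) k) B := hfin
  have hinj' : Function.Injective (algebraMap (MvPowerSeries (Fin n) k) B) := hinj
  have hdim : ringKrullDim B = (n : WithBot ℕ∞) := by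
    rw [← Groth.Agent.Lib.Helper12.ringKrullDim_eq_of_isIntegral_of_injective
      (MvPowerSeries (Fin n) k) B hinj']
    exact Groth.Agent.Lib.Helper1.ArtFunLib.ringKrullDim_mvPowerSeries k n
  have hnd : n = d := by
    rw [hdim] at hd
    exact_mod_cast hd
  subst hnd
  haveI : IsDomain (MvPowerSeries (Fin n) k) := NoZeroDivisors.to_isDomain _
  haveI := finite_mhat' (k := k) (A := B)
  refine ⟨fun j => algebraMap (MvPowerSeries (Fin n) k) B (X j), genAt_of_span_tmul _ ?_⟩
  exact span_eq_top (k := k) (r := n) (A := B) (E₀ := FractionRing (MvPowerSeries (Fin n) k))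
    (E := (⊥ : Ideal B).ResidueField) hinj' (hsep_char0 hinj')

end C1

end T5074
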