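import Groth.Agent.scratch.T5074e

set_option autoImplicit false
set_option linter.unusedSectionVars false
set_option linter.style.haveILetI false
universe u

namespace T5074
open IsLocalRing TensorProduct KaehlerDifferential MvPowerSeries
open Groth.Agent.Lib.Helper23.CompletedKaehlerSep Groth.Agent.Lib.Helper23.CK

section C2

variable {k A : Type u} [Field k] [CommRing A] [IsLocalRing A] [IsNoetherianRing A]
  [IsAdicComplete (maximalIdeal A) A] [Algebra k A] [Module.Finite k (ResidueField A)]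
  (P : Ideal A)

variable (k) in
/-- the submodule of the completed differentials generated by `d̂(P)` and `P·Ω̂`. -/
noncomputable def NP : Submodule A (AdicCompletion (maximalIdeal A) (Ω[A⁄k])) :=
  Submodule.span A (dhat (k := k) '' (P : Set A)) ⊔ P • ⊤

theorem dhat_mem_NP {a : A} (ha : a ∈ P) : dhat (k := k) a ∈ NP k P :=
  Submodule.mem_sup_left (Submodule.subset_span ⟨a, ha, rfl⟩)

theorem isTorsionBySet_NP :
    Module.IsTorsionBySet A (AdicCompletion (maximalIdeal A) (Ω[A⁄k]) ⧸ NP k P) P := by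
  intro x a
  obtain ⟨y, rfl⟩ := Submodule.mkQ_surjective _ x
  show (a : A) • Submodule.mkQ _ y = 0
  rw [← map_smul, Submodule.mkQ_apply, Submodule.Quotient.mk_eq_zero]
  exact Submodule.mem_sup_right (Submodule.smul_mem_smul a.2 Submodule.mem_top)

/-- the key relation: generic generators of `Ω̂_{(A/P)/k}` lift to generators of `Ω̂_{A/k}` modulo
`NP`. -/
theorem exists_smul_sub_mem_NP [P.IsPrime] [IsLocalRing (A ⧸ P)]
    [IsAdicComplete (maximalIdeal (A ⧸ P)) (A ⧸ P)] [Module.Finite k (ResidueField (A ⧸ P))]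
    {d : ℕ} (t : Fin d → A)
    (hgen : GenAt (⊥ : Ideal (A ⧸ P))
      (fun j => dhat (k := k) (A := A ⧸ P) (Ideal.Quotient.mk P (t j)))) (a : A) :
    ∃ s : A, s ∉ P ∧ ∃ c : Fin d → A,
      s • dhat (k := k) a - ∑ j, c j • dhat (k := k) (t j) ∈ NP k P := by
  classical
  have hM := isTorsionBySet_NP (k := k) P
  letI modB : Module (A ⧸ P) (AdicCompletion (maximalIdeal A) (Ω[A⁄k]) ⧸ NP k P) := hM.module
  haveI : IsScalarTower A (A ⧸ P) (AdicCompletion (maximalIdeal A) (Ω[A⁄k]) ⧸ NP k P) :=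
    hM.isScalarTower
  haveI : IsScalarTower k (A ⧸ P) (AdicCompletion (maximalIdeal A) (Ω[A⁄k]) ⧸ NP k P) :=
    hM.isScalarTower
  haveI := finite_mhat' (k := k) (A := A)
  haveI : Module.Finite (A ⧸ P) (AdicCompletion (maximalIdeal A) (Ω[A⁄k]) ⧸ NP k P) :=
    Module.Finite.of_restrictScalars_finite A (A ⧸ P) _
  -- the derivation `A → Ω̂/NP`
  let φ : A →ₗ[k] (AdicCompletion (maximalIdeal A) (Ω[A⁄k]) ⧸ NP k P) :=
    ((NP k P).mkQ.restrictScalars k) ∘ₗ (dhat (k := k) (A := A)).toLinearMap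
  have hφ : ∀ a, φ a = Submodule.Quotient.mk (dhat (k := k) a) := fun a => rfl
  let mkl : A →ₗ[k] A ⧸ P := (Ideal.Quotient.mkₐ k P).toLinearMap
  have hmkl : Function.Surjective mkl := Ideal.Quotient.mk_surjective
  have hker : LinearMap.ker mkl ≤ LinearMap.ker φ := by
    intro a ha
    rw [LinearMap.mem_ker] at ha ⊢
    have haP : a ∈ P := Ideal.Quotient.eq_zero_iff_mem.mp ha
    rw [hφ, Submodule.Quotient.mk_eq_zero]
    exact dhat_mem_NP P haP
  let e := LinearMap.quotKerEquivOfSurjective mkl hmkl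
  let Dlin : (A ⧸ P) →ₗ[k] (AdicCompletion (maximalIdeal A) (Ω[A⁄k]) ⧸ NP k P) :=
    (Submodule.liftQ (LinearMap.ker mkl) φ hker) ∘ₗ e.symm.toLinearMap
  have hDlin : ∀ a, Dlin (Ideal.Quotient.mk P a) = Submodule.Quotient.mk (dhat (k := k) a) := by
    intro a
    have h6 : e.symm (Ideal.Quotient.mk P a) = Submodule.Quotient.mk a := by
      rw [LinearEquiv.symm_apply_eq]
      rfl
    show Submodule.liftQ (LinearMap.ker mkl) φ hker (e.symm (Ideal.Quotient.mk P a)) = _
    rw [h6, Submodule.liftQ_apply, hφ]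
  have hsm : ∀ (a : A) (z : AdicCompletion (maximalIdeal A) (Ω[A⁄k]) ⧸ NP k P),
      (Ideal.Quotient.mk P a) • z = a • z := fun a z => rfl
  let D' : Derivation k (A ⧸ P) (AdicCompletion (maximalIdeal A) (Ω[A⁄k]) ⧸ NP k P) :=
    Derivation.mk' Dlin (by
      intro b₁ b₂
      obtain ⟨a₁, rfl⟩ := Ideal.Quotient.mk_surjective b₁
      obtain ⟨a₂, rfl⟩ := Ideal.Quotient.mk_surjective b₂
      rw [← map_mul, hDlin, hDlin, hDlin, Derivation.leibniz, hsm, hsm]
      rfl)
  have hD' : ∀ a, D' (Ideal.Quotient.mk P a) = Submodule.Quotient.mk (dhat (k := k) a) := hDlin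
  obtain ⟨l, hl⟩ := exists_lift (k := k) (A := A ⧸ P) D'
  obtain ⟨sb, hsb, hmem⟩ := hgen (dhat (k := k) (A := A ⧸ P) (Ideal.Quotient.mk P a))
  obtain ⟨s, rfl⟩ := Ideal.Quotient.mk_surjective sb
  have hsP : s ∉ P := by
    intro hs
    apply hsb
    rw [Ideal.mem_bot]
    exact Ideal.Quotient.eq_zero_iff_mem.mpr hs
  rw [Submodule.mem_span_range_iff_exists_fun] at hmem
  obtain ⟨cb, hcb⟩ := hmem
  choose c hc using fun j => Ideal.Quotient.mk_surjective (cb j)
  refine ⟨s, hsP, c, ?_⟩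
  have h1 := congrArg l hcb
  rw [map_sum, map_smul, hl, hD'] at h1
  simp only [map_smul, hl, hD', ← hc, hsm] at h1
  rw [← Submodule.Quotient.mk_eq_zero, Submodule.Quotient.mk_sub, Submodule.Quotient.mk_smul,
    ← h1, sub_eq_zero, ← Submodule.mkQ_apply, map_sum]
  refine (Finset.sum_congr rfl fun j _ => ?_).symm
  rw [map_smul]
  rfl

end C2

end T5074
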