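import Groth.Agent.scratch.T5074f

set_option autoImplicit false
set_option linter.unusedSectionVars false
set_option linter.style.haveILetI false
universe u

namespace T5074
open IsLocalRing TensorProduct KaehlerDifferential MvPowerSeries
open Groth.Agent.Lib.Helper23.CompletedKaehlerSep Groth.Agent.Lib.Helper23.CK

section C2b

variable {k A : Type u} [Field k] [CommRing A] [IsLocalRing A] [IsNoetherianRing A]
  [IsAdicComplete (maximalIdeal A) A] [Algebra k A] [Module.Finite k (ResidueField A)]
  (P : Ideal A) [P.IsPrime]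

theorem one_tmul_smul' (c : A) (m : AdicCompletion (maximalIdeal A) (Ω[A⁄k])) :
    (1 : P.ResidueField) ⊗ₜ[A] (c • m) =
      algebraMap A P.ResidueField c • ((1 : P.ResidueField) ⊗ₜ[A] m) := by
  rw [TensorProduct.smul_tmul', ← TensorProduct.smul_tmul, smul_eq_mul, mul_one,
    Algebra.algebraMap_eq_smul_one]

theorem delta_sum {ι : Type*} (s : Finset ι) (f : ι → A) :
    delta k P (∑ i ∈ s, f i) = ∑ i ∈ s, delta k P (f i) := by
  show (TensorProduct.mk A P.ResidueField _ 1) (dhat (k := k) (∑ i ∈ s, f i)) = _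
  rw [map_sum, map_sum]
  rfl

theorem smul_mem_cancel {W : Submodule P.ResidueField
      (P.ResidueField ⊗[A] AdicCompletion (maximalIdeal A) (Ω[A⁄k]))} {s : A} (hs : s ∉ P)
    {z : P.ResidueField ⊗[A] AdicCompletion (maximalIdeal A) (Ω[A⁄k])}
    (h : algebraMap A P.ResidueField s • z ∈ W) : z ∈ W := by
  have hu : algebraMap A P.ResidueField s ≠ 0 := by
    rw [Ne, Ideal.algebraMap_residueField_eq_zero]; exact hs
  have := Submodule.smul_mem W (algebraMap A P.ResidueField s)⁻¹ h
  rwa [smul_smul, inv_mul_cancel₀ hu, one_smul] at this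

theorem finrank_fibre_le [IsLocalRing (A ⧸ P)]
    [IsAdicComplete (maximalIdeal (A ⧸ P)) (A ⧸ P)] [Module.Finite k (ResidueField (A ⧸ P))]
    {h d : ℕ} (a : Fin h → A) (ha : ∀ i, a i ∈ P)
    (hgenP : ∀ y ∈ P, ∃ s : A, s ∉ P ∧ s * y ∈ Ideal.span (Set.range a))
    (t : Fin d → A)
    (hgen : GenAt (⊥ : Ideal (A ⧸ P))
      (fun j => dhat (k := k) (A := A ⧸ P) (Ideal.Quotient.mk P (t j)))) :
    Module.finrank P.ResidueField
      (P.ResidueField ⊗[A] AdicCompletion (maximalIdeal A) (Ω[A⁄k])) ≤ h + d := by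
  classical
  let x : Fin h ⊕ Fin d → P.ResidueField ⊗[A] AdicCompletion (maximalIdeal A) (Ω[A⁄k]) :=
    Sum.elim (fun i => delta k P (a i)) (fun j => delta k P (t j))
  set W := Submodule.span P.ResidueField (Set.range x) with hW
  have hxa : ∀ i, delta k P (a i) ∈ W := fun i => Submodule.subset_span ⟨Sum.inl i, rfl⟩
  have hxt : ∀ j, delta k P (t j) ∈ W := fun j => Submodule.subset_span ⟨Sum.inr j, rfl⟩
  have h0 : ∀ y ∈ P, algebraMap A P.ResidueField y = 0 := fun y hy =>
    (Ideal.algebraMap_residueField_eq_zero).mpr hy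
  -- step (i)
  have h1 : ∀ y ∈ P, delta k P y ∈ W := by
    intro y hy
    obtain ⟨s, hs, hsy⟩ := hgenP y hy
    rw [Ideal.span, Submodule.mem_span_range_iff_exists_fun] at hsy
    obtain ⟨c, hc⟩ := hsy
    have e1 : delta k P (s * y) = algebraMap A P.ResidueField s • delta k P y := by
      rw [delta_mul, h0 y hy, zero_smul, add_zero]
    have e2 : delta k P (s * y) = ∑ i, algebraMap A P.ResidueField (c i) • delta k P (a i) := by
      rw [← hc, delta_sum]
      refine Finset.sum_congr rfl fun i _ => ?_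
      rw [smul_eq_mul, delta_mul, h0 (a i) (ha i), zero_smul, add_zero]
    apply smul_mem_cancel P hs
    rw [← e1, e2]
    exact Submodule.sum_mem _ fun i _ => Submodule.smul_mem _ _ (hxa i)
  -- step (ii)
  have h2a : ∀ u ∈ Submodule.span A (dhat (k := k) '' (P : Set A)),
      (1 : P.ResidueField) ⊗ₜ[A] u ∈ W := by
    intro u hu
    induction hu using Submodule.span_induction with
    | mem z hz =>
      obtain ⟨y, hy, rfl⟩ := hz
      exact h1 y hy
    | zero => rw [TensorProduct.tmul_zero]; exact Submodule.zero_mem _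
    | add z w _ _ hz hw => rw [TensorProduct.tmul_add]; exact Submodule.add_mem _ hz hw
    | smul r z _ hz => rw [one_tmul_smul']; exact Submodule.smul_mem _ _ hz
  have h2b : ∀ v ∈ (P • ⊤ : Submodule A (AdicCompletion (maximalIdeal A) (Ω[A⁄k]))),
      (1 : P.ResidueField) ⊗ₜ[A] v ∈ W := by
    intro v hv
    refine Submodule.smul_induction_on hv ?_ ?_
    · intro r hr m _
      rw [one_tmul_smul', h0 r hr, zero_smul]
      exact Submodule.zero_mem _
    · intro z w hz hw
      rw [TensorProduct.tmul_add]; exact Submodule.add_mem _ hz hw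
  have h2 : ∀ ω ∈ NP k P, (1 : P.ResidueField) ⊗ₜ[A] ω ∈ W := by
    intro ω hω
    obtain ⟨u, hu, v, hv, rfl⟩ := Submodule.mem_sup.mp hω
    rw [TensorProduct.tmul_add]
    exact Submodule.add_mem _ (h2a u hu) (h2b v hv)
  -- step (iii)
  have h3 : ∀ a' : A, delta k P a' ∈ W := by
    intro a'
    obtain ⟨s, hs, c, hmem⟩ := exists_smul_sub_mem_NP (k := k) P t hgen a'
    have h4 := h2 _ hmem
    rw [TensorProduct.tmul_sub, one_tmul_smul', TensorProduct.tmul_sum] at h4
    have h5 : ∑ j, (1 : P.ResidueField) ⊗ₜ[A] (c j • dhat (k := k) (t j)) ∈ W := by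
      refine Submodule.sum_mem _ fun j _ => ?_
      rw [one_tmul_smul']
      exact Submodule.smul_mem _ _ (hxt j)
    have h6 := Submodule.add_mem _ h4 h5
    rw [sub_add_cancel] at h6
    exact smul_mem_cancel P hs h6
  have hWtop : W = ⊤ := by
    rw [eq_top_iff, ← span_delta (k := k) P, Submodule.span_le]
    rintro _ ⟨a', rfl⟩
    exact h3 a'
  have h7 := finrank_range_le_card (R := P.ResidueField) x
  rw [Set.finrank, ← hW, hWtop, finrank_top, Fintype.card_sum, Fintype.card_fin,
    Fintype.card_fin] at h7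
  exact h7

end C2b

end T5074
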