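import Groth.Agent.scratch.T5074g
import Groth.Agent.Lib.Helper18.SerreReg2

set_option autoImplicit false
set_option linter.unusedSectionVars false
set_option linter.style.haveILetI false
universe u

namespace T5074
open IsLocalRing TensorProduct KaehlerDifferential MvPowerSeries
open Groth.Agent.Lib.Helper23.CompletedKaehlerSep Groth.Agent.Lib.Helper23.CK
open Groth.Agent.Lib.Helper21.ChartPt

section C3

variable {A : Type u} [CommRing A] (P : Ideal A) [P.IsPrime]

/-- a regular local ring `A_P` of dimension `h` has maximal ideal generated by `h` elements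
of `P`, elementwise form. -/
theorem exists_gens_at [IsNoetherianRing A] [IsRegularLocalRing (Localization.AtPrime P)] (h : ℕ)
    (hh : ringKrullDim (Localization.AtPrime P) = h) :
    ∃ a : Fin h → A, (∀ i, a i ∈ P) ∧
      ∀ y ∈ P, ∃ s : A, s ∉ P ∧ s * y ∈ Ideal.span (Set.range a) := by
  classical
  have hfg : (maximalIdeal (Localization.AtPrime P)).FG :=
    IsNoetherian.noetherian _
  obtain ⟨S, hcard, hspan⟩ := Submodule.FG.exists_span_finset_card_eq_spanFinrank hfg
  have hsf : (Submodule.spanFinrank (maximalIdeal (Localization.AtPrime P)) : WithBot ℕ∞) = h := by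
    rw [IsRegularLocalRing.spanFinrank_maximalIdeal, hh]
  have hcard' : S.card = h := by
    rw [hcard]
    exact_mod_cast hsf
  let e : Fin h ≃ ↥S := (S.equivFin.trans (finCongr hcard')).symm
  have hr : ∀ i, ((e i : ↥S) : Localization.AtPrime P) ∈ maximalIdeal (Localization.AtPrime P) := by
    intro i
    rw [← hspan]
    exact Submodule.subset_span (e i).2
  choose au hau using fun i => IsLocalization.surj P.primeCompl
    ((e i : ↥S) : Localization.AtPrime P)
  have haP : ∀ i, (au i).1 ∈ P := by
    intro i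
    rw [← IsLocalization.AtPrime.to_map_mem_maximal_iff (Localization.AtPrime P) P, ← hau i]
    exact Ideal.mul_mem_right _ _ (hr i)
  refine ⟨fun i => (au i).1, haP, ?_⟩
  have hmap : Ideal.map (algebraMap A (Localization.AtPrime P))
      (Ideal.span (Set.range fun i => (au i).1)) = maximalIdeal (Localization.AtPrime P) := by
    apply le_antisymm
    · rw [Ideal.map_le_iff_le_comap, Ideal.span_le]
      rintro _ ⟨i, rfl⟩
      rw [SetLike.mem_coe, Ideal.mem_comap,
        IsLocalization.AtPrime.to_map_mem_maximal_iff (Localization.AtPrime P) P]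
      exact haP i
    · rw [← hspan]
      change Ideal.span _ ≤ _
      rw [Ideal.span_le]
      intro r hrS
      obtain ⟨i, hi⟩ := e.surjective ⟨r, hrS⟩
      have hri : r = ((e i : ↥S) : Localization.AtPrime P) := by rw [hi]
      obtain ⟨u, hu⟩ := IsLocalization.map_units (Localization.AtPrime P) (au i).2
      have h1 : r = algebraMap A (Localization.AtPrime P) (au i).1 * ↑u⁻¹ := by
        rw [← hau i, ← hri, ← hu, mul_assoc, Units.mul_inv, mul_one]
      rw [SetLike.mem_coe, h1]
      exact Ideal.mul_mem_right _ _ (Ideal.mem_map_of_mem _ (Ideal.subset_span ⟨i, rfl⟩))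
  intro y hy
  have hy' : algebraMap A (Localization.AtPrime P) y ∈
      Ideal.map (algebraMap A (Localization.AtPrime P))
        (Ideal.span (Set.range fun i => (au i).1)) := by
    rw [hmap, IsLocalization.AtPrime.to_map_mem_maximal_iff (Localization.AtPrime P) P]
    exact hy
  rw [IsLocalization.mem_map_algebraMap_iff P.primeCompl] at hy'
  obtain ⟨⟨a', s⟩, has⟩ := hy'
  simp only at has
  rw [← map_mul, IsLocalization.eq_iff_exists P.primeCompl] at has
  obtain ⟨s', hs'⟩ := has
  refine ⟨(s' : A) * (s : A), P.primeCompl.mul_mem s'.2 s.2, ?_⟩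
  have : (s' : A) * (s : A) * y = (s' : A) * (a' : A) := by
    rw [← hs']; ring
  rw [this]
  exact Ideal.mul_mem_left _ _ a'.2

/-- heights in quotients decrease with the ideal. -/
theorem height_map_mk_mono (I J : Ideal A) (hIJ : I ≤ J) (hJP : J ≤ P) :
    (P.map (Ideal.Quotient.mk J)).height ≤ (P.map (Ideal.Quotient.mk I)).height := by
  haveI := map_mk_isPrime J P hJP
  haveI := map_mk_isPrime I P (hIJ.trans hJP)
  let f : PrimeSpectrum (A ⧸ J) → PrimeSpectrum (A ⧸ I) :=
    PrimeSpectrum.comap (Ideal.Quotient.factor hIJ)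
  have hf : StrictMono f := by
    intro a b hab
    exact (Ideal.orderEmbeddingOfSurjective (Ideal.Quotient.factor hIJ)
      (Ideal.Quotient.factor_surjective hIJ)).strictMono hab
  have h1 := Order.height_le_height_apply_of_strictMono f hf
    (⟨P.map (Ideal.Quotient.mk J), inferInstance⟩ : PrimeSpectrum (A ⧸ J))
  have h2 : f ⟨P.map (Ideal.Quotient.mk J), inferInstance⟩ =
      ⟨P.map (Ideal.Quotient.mk I), inferInstance⟩ := by
    apply PrimeSpectrum.ext
    show Ideal.comap (Ideal.Quotient.factor hIJ) (P.map (Ideal.Quotient.mk J)) = _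
    ext x
    obtain ⟨a, rfl⟩ := Ideal.Quotient.mk_surjective x
    rw [Ideal.mem_comap, Ideal.Quotient.factor_mk]
    have e1 : ∀ (K : Ideal A) (hK : K ≤ P), Ideal.Quotient.mk K a ∈ P.map (Ideal.Quotient.mk K) ↔
        a ∈ P := by
      intro K hK
      rw [← Ideal.mem_comap, comap_map_mk K P hK]
    rw [e1 J hJP, e1 I (hIJ.trans hJP)]
  rw [h2, ← PrimeSpectrum.height_eq_orderHeight, ← PrimeSpectrum.height_eq_orderHeight] at h1
  exact h1

/-- `ht P + dim A/P ≤ dim A/q` when `A_P` is a domain and `q ≤ P` is minimal. -/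
theorem height_add_dim_le [IsNoetherianRing A] [IsDomain (Localization.AtPrime P)] (q : Ideal A)
    (hq : q ∈ minimalPrimes A) (hqP : q ≤ P) :
    (P.height : WithBot ℕ∞) + ringKrullDim (A ⧸ P) ≤ ringKrullDim (A ⧸ q) := by
  haveI hqprime : q.IsPrime := Ideal.minimalPrimes_isPrime hq
  obtain ⟨p₀, hp₀, hp₀P, hht⟩ := exists_le_height_map_mk_eq P
  have hqp₀ : q ≤ p₀ := by
    rw [← ker_eq_of_isDomain P q hq hqP]
    exact ker_le_of_le P p₀ hp₀P
  have h1 : P.height ≤ (P.map (Ideal.Quotient.mk q)).height := by
    rw [← hht]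
    exact height_map_mk_mono P q p₀ hqp₀ hp₀P
  haveI := map_mk_isPrime q P hqP
  have h2 := Groth.Agent.Lib.Helper23.NagataJacobian.height_add_ringKrullDim_quotient_le
    (P.map (Ideal.Quotient.mk q))
  rw [ringKrullDim_eq_of_ringEquiv (DoubleQuot.quotQuotEquivQuotOfLE hqP)] at h2
  refine le_trans ?_ h2
  gcongr
  exact_mod_cast h1

end C3

end T5074
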