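import Groth.Agent.scratch.T5074h

set_option autoImplicit false
set_option linter.unusedSectionVars false
set_option linter.style.haveILetI false
universe u

namespace T5074
open IsLocalRing TensorProduct KaehlerDifferential MvPowerSeries
open Groth.Agent.Lib.Helper23.CompletedKaehlerSep Groth.Agent.Lib.Helper23.CK
open Groth.Agent.Lib.Helper21.ChartPt

section Char0

variable {k A : Type u} [Field k] [CommRing A] [IsLocalRing A] [IsNoetherianRing A] [Algebra k A]
  [IsAdicComplete (maximalIdeal A) A] [Module.Finite k (ResidueField A)]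

theorem main_char0 [CharZero k]
    (P : Ideal A) [P.IsPrime] (hP : CAlg.IsGeometricallyRegular k (Localization.AtPrime P))
    (q : Ideal A) (hq : q ∈ minimalPrimes A) (hqP : q ≤ P) (n : ℕ)
    (hn : ringKrullDim (A ⧸ q) = n) :
    Module.Free (Localization.AtPrime P) (LocalizedModule P.primeCompl
      (AdicCompletion (maximalIdeal A) (Ω[A⁄k]))) ∧
    Module.finrank (Localization.AtPrime P) (LocalizedModule P.primeCompl
      (AdicCompletion (maximalIdeal A) (Ω[A⁄k]))) = n := by
  classical
  haveI := Groth.Agent.Lib.Helper18.PMor.isRegularRing_of_isGeometricallyRegular hP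
  haveI : IsRegularLocalRing (Localization.AtPrime P) :=
    .of_isRegularRing_of_isLocalRing _
  haveI : IsDomain (Localization.AtPrime P) :=
    Groth.Agent.Lib.Helper21.isDomain_of_isRegularLocalRing _
  haveI : IsNoetherianRing (Localization.AtPrime P) :=
    IsLocalization.isNoetherianRing P.primeCompl _ inferInstance
  haveI hqprime : q.IsPrime := Ideal.minimalPrimes_isPrime hq
  obtain ⟨h, hh⟩ := Groth.Agent.Lib.Helper18.SerreReg.exists_ringKrullDim_eq_nat
    (Localization.AtPrime P)
  obtain ⟨a, haP, hgenP⟩ := exists_gens_at P h hh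
  -- the quotient `A ⧸ P`
  haveI : IsLocalRing (A ⧸ P) :=
    IsLocalRing.of_surjective' (Ideal.Quotient.mk P) Ideal.Quotient.mk_surjective
  haveI : IsAdicComplete (maximalIdeal (A ⧸ P)) (A ⧸ P) :=
    Groth.Agent.Lib.Helper9.SemiLocalProd.isAdicComplete_maximalIdeal_of_finite A (A ⧸ P)
  haveI : Module.Finite k (ResidueField (A ⧸ P)) := finite_residueField_quotient P
  obtain ⟨d, hd⟩ := Groth.Agent.Lib.Helper18.SerreReg.exists_ringKrullDim_eq_nat (A ⧸ P)
  obtain ⟨tb, htb⟩ := exists_genAt_bot_char0 (k := k) (B := A ⧸ P) d hd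
  choose t ht using fun j => Ideal.Quotient.mk_surjective (tb j)
  have hgen : GenAt (⊥ : Ideal (A ⧸ P))
      (fun j => dhat (k := k) (A := A ⧸ P) (Ideal.Quotient.mk P (t j))) := by
    simpa only [ht] using htb
  have hle := finrank_fibre_le (k := k) P a haP hgenP t hgen
  -- numerics
  have hnum : h + d ≤ n := by
    have h1 := height_add_dim_le P q hq hqP
    rw [← IsLocalization.AtPrime.ringKrullDim_eq_height P (Localization.AtPrime P), hh, hd,
      hn] at h1
    exact_mod_cast h1
  haveI := finite_mhat' (k := k) (A := A)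
  obtain ⟨m, hm, x, hx⟩ : ∃ m : ℕ, m = Module.finrank P.ResidueField
      (P.ResidueField ⊗[A] AdicCompletion (maximalIdeal A) (Ω[A⁄k])) ∧
      ∃ x : Fin m → AdicCompletion (maximalIdeal A) (Ω[A⁄k]), GenAt P x :=
    ⟨_, rfl, exists_genAt_finrank (p := P) (M := AdicCompletion (maximalIdeal A) (Ω[A⁄k]))⟩
  have hxq : GenAt q x := hx.mono hqP
  have h1 : Module.finrank q.ResidueField
      (q.ResidueField ⊗[A] AdicCompletion (maximalIdeal A) (Ω[A⁄k])) ≤ m := hxq.finrank_le
  have h2 := t3847 k A q q hq le_rfl
  have h3 : Module.rank q.ResidueField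
      (q.ResidueField ⊗[A] AdicCompletion (maximalIdeal A) (Ω[A⁄k])) =
      ((Module.finrank q.ResidueField
        (q.ResidueField ⊗[A] AdicCompletion (maximalIdeal A) (Ω[A⁄k])) : ℕ) : Cardinal) :=
    (Module.finrank_eq_rank _ _).symm
  rw [h3, Cardinal.toENat_nat, hn] at h2
  have h4 : n ≤ Module.finrank q.ResidueField
      (q.ResidueField ⊗[A] AdicCompletion (maximalIdeal A) (Ω[A⁄k])) := by
    exact_mod_cast h2
  have hmn : m = n := by omega
  have hfr : Module.finrank q.ResidueField
      (q.ResidueField ⊗[A] AdicCompletion (maximalIdeal A) (Ω[A⁄k])) = m := by omega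
  -- independence
  have hli : LinearIndependent q.ResidueField
      (fun i => (1 : q.ResidueField) ⊗ₜ[A] x i) := by
    apply linearIndependent_of_top_le_span_of_card_eq_finrank
    · exact hxq.span_tmul.ge
    · rw [Fintype.card_fin, hfr]
  have hi : IndepAt P x := by
    intro c s hs hsum j
    have h5 := congrArg (TensorProduct.mk A q.ResidueField
      (AdicCompletion (maximalIdeal A) (Ω[A⁄k])) 1) hsum
    rw [map_zero, map_smul, map_sum] at h5
    have h6 : ∀ i, (TensorProduct.mk A q.ResidueField
        (AdicCompletion (maximalIdeal A) (Ω[A⁄k])) 1) (c i • x i) =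
        algebraMap A q.ResidueField (c i) • ((1 : q.ResidueField) ⊗ₜ[A] x i) := by
      intro i
      rw [map_smul, algebraMap_smul]
      rfl
    rw [Finset.sum_congr rfl fun i _ => h6 i, ← algebraMap_smul q.ResidueField s] at h5
    have hs0 : algebraMap A q.ResidueField s ≠ 0 := by
      rw [Ne, Ideal.algebraMap_residueField_eq_zero]
      exact fun hsq => hs (hqP hsq)
    have h7 := (smul_eq_zero.mp h5).resolve_left hs0
    have h8 := (Fintype.linearIndependent_iff.mp hli) _ h7 j
    rw [Ideal.algebraMap_residueField_eq_zero, ← ker_eq_of_isDomain P q hq hqP, RingHom.mem_ker,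
      IsLocalization.map_eq_zero_iff P.primeCompl] at h8
    obtain ⟨s', hs'⟩ := h8
    exact ⟨s', s'.2, hs'⟩
  have := free_of_genAt_of_indepAt x hx hi
  rw [hmn] at this
  exact this

end Char0

end T5074
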