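import Mathlib
import Groth.Agent.Lib.Helper21.AdicNoetherian
import Groth.Agent.Lib.Helper13.SupportBaseChange

set_option autoImplicit false
set_option linter.unusedSectionVars false
set_option linter.style.haveILetI false
universe u

namespace T5811
open IsLocalRing TensorProduct

section Completion

variable (A : Type u) [CommRing A] [IsNoetherianRing A] (J : Ideal A)

theorem isNoetherianRing_adicCompletion : IsNoetherianRing (AdicCompletion J A) :=
  Groth.Agent.Lib.Helper21.isNoetherianRing_adicCompletion_of_fg J (IsNoetherian.noetherian J)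

theorem map_comap_maximal (M : Ideal (AdicCompletion J A)) [M.IsMaximal] :
    (M.comap (algebraMap A (AdicCompletion J A))).IsMaximal ∧
      (M.comap (algebraMap A (AdicCompletion J A))).map (algebraMap A (AdicCompletion J A)) = M := by
  have hfg : J.FG := IsNoetherian.noetherian J
  haveI := AdicCompletion.isAdicComplete_self J hfg
  have hJM : J.map (algebraMap A (AdicCompletion J A)) ≤ M := by
    refine (IsAdicComplete.le_jacobson_bot (J.map (algebraMap A (AdicCompletion J A)))).trans ?_
    exact sInf_le ⟨bot_le, inferInstance⟩
  have hsurj : Function.Surjective ((Ideal.Quotient.mk M).comp (algebraMap A (AdicCompletion J A))) := by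
    intro y
    obtain ⟨x, rfl⟩ := Ideal.Quotient.mk_surjective y
    obtain ⟨a, ha⟩ := Ideal.Quotient.mk_surjective (AdicCompletion.evalOneₐ J x)
    refine ⟨a, ?_⟩
    rw [RingHom.comp_apply, Ideal.Quotient.eq]
    apply hJM
    rw [← AdicCompletion.ker_evalOneₐ_eq_map J hfg, RingHom.mem_ker]
    show AdicCompletion.evalOneₐ J (algebraMap A (AdicCompletion J A) a - x) = 0
    rw [map_sub, ← ha, sub_eq_zero]
    rfl
  letI : Field (AdicCompletion J A ⧸ M) := Ideal.Quotient.field M
  have hmax : (M.comap (algebraMap A (AdicCompletion J A))).IsMaximal := by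
    have h1 := Ideal.comap_isMaximal_of_surjective
      ((Ideal.Quotient.mk M).comp (algebraMap A (AdicCompletion J A))) hsurj
      (K := (⊥ : Ideal (AdicCompletion J A ⧸ M)))
    have h2 : (⊥ : Ideal (AdicCompletion J A ⧸ M)).comap
        ((Ideal.Quotient.mk M).comp (algebraMap A (AdicCompletion J A)))
        = M.comap (algebraMap A (AdicCompletion J A)) := by
      rw [← Ideal.comap_comap, ← RingHom.ker_eq_comap_bot, Ideal.mk_ker]
    rw [← h2]
    exact h1
  refine ⟨hmax, ?_⟩
  have hJm : J ≤ M.comap (algebraMap A (AdicCompletion J A)) := by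
    intro j hj
    exact hJM (Ideal.mem_map_of_mem _ hj)
  haveI := hmax
  have h3 := AdicCompletion.isMaximal_map_of_le J (M.comap (algebraMap A (AdicCompletion J A))) hJm hfg
  exact h3.eq_of_le (Ideal.IsPrime.ne_top inferInstance) Ideal.map_comap_le

/-- the completion along an ideal contained in the Jacobson radical is faithfully flat. -/
theorem faithfullyFlat_adicCompletion (hJ : J ≤ Ring.jacobson A) :
    Module.FaithfullyFlat A (AdicCompletion J A) := by
  have hfg : J.FG := IsNoetherian.noetherian J
  haveI : Module.Flat A (AdicCompletion J A) := inferInstance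
  refine Module.FaithfullyFlat.mk (fun m hm htop => ?_)
  have hJm : J ≤ m := by
    refine hJ.trans ?_
    rw [Ring.jacobson_eq_sInf_isMaximal]
    exact sInf_le hm
  haveI := hm
  have h3 := AdicCompletion.isMaximal_map_of_le J m hJm hfg
  have h4 : (m.map (algebraMap A (AdicCompletion J A)) : Ideal (AdicCompletion J A)) = ⊤ := by
    have h5 : m • (⊤ : Submodule A (AdicCompletion J A)) =
        (m.map (algebraMap A (AdicCompletion J A))).restrictScalars A := by
      rw [Ideal.smul_top_eq_map]
    rw [h5] at htop
    apply Submodule.restrictScalars_injective A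
    rw [htop]
    rfl
  exact h3.ne_top h4

end Completion

end T5811
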