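import Groth.Agent.scratch.T5811a

set_option autoImplicit false
set_option linter.unusedSectionVars false
set_option linter.style.haveILetI false
universe u

namespace T5811
open IsLocalRing TensorProduct

section L1

variable (R S : Type u) [CommRing R] [CommRing S] [Algebra R S] [IsNoetherianRing R] [IsNoetherianRing S]

/-- if every maximal ideal of `S` is extended from its contraction then `dim S ≤ dim R`. -/
theorem ringKrullDim_le_of_maximal_extended
    (h : ∀ (P : Ideal S) [P.IsMaximal], (P.comap (algebraMap R S)).map (algebraMap R S) = P) :
    ringKrullDim S ≤ ringKrullDim R := by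
  rcases subsingleton_or_nontrivial S with hS | hS
  · rw [ringKrullDim_eq_bot_of_subsingleton]; exact bot_le
  rw [← Ideal.sup_isMaximal_height_eq_ringKrullDim, WithBot.coe_iSup ⟨⊤, fun _ _ => le_top⟩]
  refine iSup_le fun P => ?_
  by_cases hP : P.IsMaximal
  · haveI := hP
    haveI : (P.comap (algebraMap R S)).IsPrime := Ideal.comap_isPrime _ P
    haveI : P.LiesOver (P.comap (algebraMap R S)) := ⟨rfl⟩
    have h1 := Ideal.height_le_height_add_of_liesOver (P.comap (algebraMap R S)) P
    rw [h P] at h1
    have h2 : (P.map (Ideal.Quotient.mk P)) = ⊥ := by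
      rw [Ideal.map_quotient_self]
    rw [h2] at h1
    haveI : Nontrivial (S ⧸ P) := Ideal.Quotient.nontrivial_iff.mpr hP.ne_top
    rw [Ideal.height_bot, add_zero] at h1
    simp only [hP, iSup_pos]
    refine le_trans (WithBot.coe_le_coe.mpr h1) ?_
    exact Ideal.height_le_ringKrullDim_of_ne_top (Ideal.IsPrime.ne_top inferInstance)
  · simp [hP]
    rcases subsingleton_or_nontrivial R with hR | hR
    · exfalso
      exact (not_subsingleton S) (Function.Injective.subsingleton (f := fun _ : S => (0 : R))
        (fun a b _ => by
          have h1 : (1 : S) = 0 := by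
            rw [← map_one (algebraMap R S), Subsingleton.elim (1 : R) 0, map_zero]
          rw [← one_mul a, ← one_mul b, h1, zero_mul, zero_mul]))
    · exact ringKrullDim_nonneg_of_nontrivial

end L1

end T5811
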