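import Groth.Agent.scratch.T5811b

set_option autoImplicit false
set_option linter.unusedSectionVars false
set_option linter.style.haveILetI false
universe u

namespace T5811
open IsLocalRing TensorProduct

section Le

variable (A : Type u) [CommRing A] [IsNoetherianRing A] (J : Ideal A)
  (M : Type u) [AddCommGroup M] [Module A M] [Module.Finite A M]

theorem map_annihilator_le :
    (Module.annihilator A M).map (algebraMap A (AdicCompletion J A)) ≤
      Module.annihilator (AdicCompletion J A) (AdicCompletion J A ⊗[A] M) := by
  rw [Ideal.map_le_iff_le_comap]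
  intro a ha
  rw [Ideal.mem_comap, Module.mem_annihilator]
  intro x
  induction x using TensorProduct.induction_on with
  | zero => rw [smul_zero]
  | tmul b m =>
    rw [TensorProduct.smul_tmul', smul_eq_mul, ← Algebra.smul_def,
      TensorProduct.smul_tmul, Module.mem_annihilator.mp ha m, TensorProduct.tmul_zero]
  | add x y hx hy => rw [smul_add, hx, hy, add_zero]

theorem quotient_maximal_extended (I : Ideal A)
    (P : Ideal (AdicCompletion J A ⧸ I.map (algebraMap A (AdicCompletion J A)))) [P.IsMaximal] :
    (P.comap (algebraMap (A ⧸ I) (AdicCompletion J A ⧸ I.map (algebraMap A (AdicCompletion J A))))).map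
      (algebraMap (A ⧸ I) (AdicCompletion J A ⧸ I.map (algebraMap A (AdicCompletion J A)))) = P := by
  refine le_antisymm Ideal.map_comap_le ?_
  haveI hnh : (P.comap (Ideal.Quotient.mk (I.map (algebraMap A (AdicCompletion J A))))).IsMaximal :=
    Ideal.comap_isMaximal_of_surjective _ Ideal.Quotient.mk_surjective
  obtain ⟨hmax, hmap⟩ := map_comap_maximal A J
    (P.comap (Ideal.Quotient.mk (I.map (algebraMap A (AdicCompletion J A)))))
  set n := (P.comap (Ideal.Quotient.mk (I.map (algebraMap A (AdicCompletion J A))))).comap
    (algebraMap A (AdicCompletion J A)) with hn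
  have hsq : (algebraMap (A ⧸ I) (AdicCompletion J A ⧸ I.map (algebraMap A (AdicCompletion J A)))).comp
      (Ideal.Quotient.mk I) =
      (Ideal.Quotient.mk (I.map (algebraMap A (AdicCompletion J A)))).comp
        (algebraMap A (AdicCompletion J A)) := by
    ext a; rfl
  have hP : P = (n.map (Ideal.Quotient.mk I)).map
      (algebraMap (A ⧸ I) (AdicCompletion J A ⧸ I.map (algebraMap A (AdicCompletion J A)))) := by
    rw [Ideal.map_map, hsq, ← Ideal.map_map, hmap,
      Ideal.map_comap_of_surjective _ Ideal.Quotient.mk_surjective]
  have h1 : n.map (Ideal.Quotient.mk I) ≤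
      P.comap (algebraMap (A ⧸ I) (AdicCompletion J A ⧸ I.map (algebraMap A (AdicCompletion J A)))) := by
    rw [← Ideal.map_le_iff_le_comap, ← hP]
  calc P = _ := hP
    _ ≤ _ := Ideal.map_mono h1

theorem supportDim_tensor_le :
    Module.supportDim (AdicCompletion J A) (AdicCompletion J A ⊗[A] M) ≤ Module.supportDim A M := by
  haveI := isNoetherianRing_adicCompletion A J
  rw [Module.supportDim_eq_ringKrullDim_quotient_annihilator,
    Module.supportDim_eq_ringKrullDim_quotient_annihilator]
  have hle := map_annihilator_le A J M
  have h1 : ringKrullDim (AdicCompletion J A ⧸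
        Module.annihilator (AdicCompletion J A) (AdicCompletion J A ⊗[A] M)) ≤
      ringKrullDim (AdicCompletion J A ⧸
        (Module.annihilator A M).map (algebraMap A (AdicCompletion J A))) :=
    ringKrullDim_le_of_surjective (Ideal.Quotient.factor hle) (Ideal.Quotient.factor_surjective hle)
  refine h1.trans ?_
  exact ringKrullDim_le_of_maximal_extended (A ⧸ Module.annihilator A M) _
    (fun P _ => quotient_maximal_extended A J (Module.annihilator A M) P)

end Le

end T5811
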