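import Groth.Agent.scratch.T5811c

set_option autoImplicit false
set_option linter.unusedSectionVars false
set_option linter.style.haveILetI false
universe u

namespace T5811
open IsLocalRing TensorProduct

section Ge

variable (A : Type u) [CommRing A] [IsNoetherianRing A] (J : Ideal A)
  (M : Type u) [AddCommGroup M] [Module A M] [Module.Finite A M]

theorem le_supportDim_tensor (hJ : J ≤ Ring.jacobson A) :
    Module.supportDim A M ≤ Module.supportDim (AdicCompletion J A) (AdicCompletion J A ⊗[A] M) := by
  haveI := isNoetherianRing_adicCompletion A J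
  haveI := faithfullyFlat_adicCompletion A J hJ
  unfold Module.supportDim Order.krullDim
  refine iSup_le fun l => ?_
  -- the chain of primes of `A`
  let l' : LTSeries (PrimeSpectrum A) := l.map Subtype.val (fun a b hab => hab)
  obtain ⟨P, hP, hPl⟩ := Ideal.exists_isPrime_liesOver_of_faithfullyFlat
    (B := AdicCompletion J A) l'.last.asIdeal
  obtain ⟨L, hlen, -, hmap⟩ := Ideal.exists_ltSeries_of_hasGoingDown l' P
  have hmem : ∀ i, L i ∈ Module.support (AdicCompletion J A) (AdicCompletion J A ⊗[A] M) := by
    intro i
    have h1 : L i ∈ L.toList := RelSeries.mem_toList.mpr ⟨i, rfl⟩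
    have h2 : PrimeSpectrum.comap (algebraMap A (AdicCompletion J A)) (L i) ∈ l'.toList := by
      rw [← hmap]; exact List.mem_map_of_mem h1
    obtain ⟨j, hj⟩ := RelSeries.mem_toList.mp h2
    have h3 : PrimeSpectrum.comap (algebraMap A (AdicCompletion J A)) (L i) ∈ Module.support A M := by
      rw [← hj]
      exact (l (j)).2
    haveI : (L i).asIdeal.LiesOver
        (PrimeSpectrum.comap (algebraMap A (AdicCompletion J A)) (L i)).asIdeal := ⟨rfl⟩
    exact Groth.Agent.Lib.Helper13.mem_support_baseChange_of_mem (S := A)
      (S' := AdicCompletion J A) (M := M)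
      (PrimeSpectrum.comap (algebraMap A (AdicCompletion J A)) (L i)).asIdeal (L i).asIdeal h3
  let L' : LTSeries (Module.support (AdicCompletion J A) (AdicCompletion J A ⊗[A] M)) :=
    { length := L.length
      toFun := fun i => ⟨L i, hmem i⟩
      step := fun i => L.step i }
  have hlen' : L'.length = l.length := hlen
  rw [← hlen']
  exact le_iSup (fun p : LTSeries (Module.support (AdicCompletion J A)
    (AdicCompletion J A ⊗[A] M)) => (p.length : WithBot ℕ∞)) L'

end Ge

section Final

theorem t5811 (A : Type u) [CommRing A] [IsNoetherianRing A]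
    [Finite (MaximalSpectrum A)] (M : Type u) [AddCommGroup M] [Module A M] [Module.Finite A M] :
    Module.supportDim (AdicCompletion (Ring.jacobson A) A) (AdicCompletion (Ring.jacobson A) M) =
      Module.supportDim A M := by
  rw [← Module.supportDim_eq_of_equiv
    (AdicCompletion.ofTensorProductEquivOfFiniteNoetherian (Ring.jacobson A) M)]
  exact le_antisymm (supportDim_tensor_le A (Ring.jacobson A) M)
    (le_supportDim_tensor A (Ring.jacobson A) M le_rfl)

end Final

end T5811
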