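import Groth.Statements.S5811
import Mathlib
import Groth.Agent.Lib.Helper23.ComplDim

set_option autoImplicit false
set_option linter.unusedSectionVars false
set_option linter.style.haveILetI false
universe u
open EGA41

namespace T5811
open Groth.Agent.Lib.Helper23.ComplDim

theorem t5811 (A : Type u) [CommRing A] [IsNoetherianRing A]
    [Finite (MaximalSpectrum A)] (M : Type u) [AddCommGroup M] [Module A M] [Module.Finite A M] :
    Module.supportDim (AdicCompletion (Ring.jacobson A) A) (AdicCompletion (Ring.jacobson A) M) =
      Module.supportDim A M := by
  exact Groth.Agent.Lib.Helper23.ComplDim.t5811 A M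

end T5811
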