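import Groth.Statements.S5988
import Mathlib
import Groth.Agent.Lib.Helper23.LinIndex

set_option autoImplicit false
universe u v

namespace T5988

open Module Cardinal Groth.Agent.Lib.Helper23.LinIndex

/-- kernel and cokernel of `g ∘ f` for injective `f` and `g` of index zero. -/
theorem rank_coker_comp_of_index_zero {L : Type u} [Field L] {V W X : Type v} [AddCommGroup V]
    [Module L V] [AddCommGroup W] [Module L W] [AddCommGroup X] [Module L X]
    (f : V →ₗ[L] W) (g : W →ₗ[L] X) (hf : Function.Injective f) (hg : HasIndex g 0) :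
    Module.Finite L (LinearMap.ker (g ∘ₗ f)) ∧
      Module.rank L (X ⧸ LinearMap.range (g ∘ₗ f)) =
        Module.rank L (W ⧸ LinearMap.range f) + Module.rank L (LinearMap.ker (g ∘ₗ f)) := by
  have h1 := rank_ker_comp f g
  have h2 := rank_ker_eq f g
  have h3 := rank_coker_eq f g
  have h4 := rank_coker_comp f g
  have hkf : Module.rank L (LinearMap.ker f) = 0 := by
    rw [LinearMap.ker_eq_bot.mpr hf]
    exact rank_bot L V
  rw [hkf, zero_add] at h1
  obtain ⟨a', c', ha', hc', hac⟩ := hasIndex_iff_rank.mp hg
  have hac' : c' = a' := by omega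
  subst hac'
  set a := Module.rank L ↥(LinearMap.ker g ⊓ LinearMap.range f) with ha
  set r := Module.rank L ↥(LinearMap.range ((LinearMap.range f).mkQ ∘ₗ (LinearMap.ker g).subtype))
    with hr
  set t := Module.rank L ↥(LinearMap.range (cokerMap f g)) with ht
  constructor
  · rw [← Module.rank_lt_aleph0_iff, h1]
    calc a ≤ a + r := le_self_add
      _ = (c' : Cardinal) := by rw [← h2, ha']
      _ < Cardinal.aleph0 := Cardinal.nat_lt_aleph0 c'
  · rw [h4, h3, h1, hc', ← ha', h2]
    rw [add_comm t, add_assoc]
    exact add_comm _ _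

end T5988
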