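import Groth.Agent.scratch.T5988a
import Groth.Agent.Lib.Helper23.FormalFibreCharP3

set_option autoImplicit false
universe u v

namespace T5988

open Module Cardinal TensorProduct KaehlerDifferential MvPowerSeries
open Groth.Agent.Lib.Helper23.FormalFibreCharP

section PS

variable (k : Type u) [Field k] (n : ℕ) (E : Type u) [Field E] [Algebra (MvPowerSeries (Fin n) k) E]
  [IsFractionRing (MvPowerSeries (Fin n) k) E]

/-- a derivation of `k[[T]]` (over `ℤ`) induces a functional on `Ω_{E/ℤ}`, `E = Frac k[[T]]`. -/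
theorem exists_functional (D₀ : Derivation ℤ (MvPowerSeries (Fin n) k) (MvPowerSeries (Fin n) k)) :
    ∃ Lam : Ω[E⁄ℤ] →ₗ[E] E, ∀ f : MvPowerSeries (Fin n) k,
        Lam (D ℤ E (algebraMap (MvPowerSeries (Fin n) k) E f)) =
        algebraMap (MvPowerSeries (Fin n) k) E (D₀ f) := by
  haveI : Algebra.FormallyEtale (MvPowerSeries (Fin n) k) E :=
    Algebra.FormallyEtale.of_isLocalization (nonZeroDivisors (MvPowerSeries (Fin n) k))
  obtain ⟨D', hD'⟩ := exists_derivation_of_formallyEtale
    (A := MvPowerSeries (Fin n) k) (B := E) D₀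
  refine ⟨D'.liftKaehlerDifferential, fun f => ?_⟩
  rw [Derivation.liftKaehlerDifferential_comp_D, hD']

variable [Algebra k E] [IsScalarTower k (MvPowerSeries (Fin n) k) E]

include n in
/-- every functional on `Ω_{k/ℤ}` extends to `Ω_{E/ℤ}`. -/
theorem exists_extension (lam : Ω[k⁄ℤ] →ₗ[k] k) :
    ∃ Lam : Ω[E⁄ℤ] →ₗ[E] E, ∀ ω : Ω[k⁄ℤ],
      Lam (KaehlerDifferential.map ℤ ℤ k E ω) = algebraMap k E (lam ω) := by
  let D₁ : Derivation ℤ k k := lam.compDer (D ℤ k)
  obtain ⟨Lam, hLam⟩ := exists_functional k n E (Dco n D₁)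
  refine ⟨Lam, fun ω => ?_⟩
  have hspan := KaehlerDifferential.span_range_derivation ℤ k
  have hω : ω ∈ Submodule.span k (Set.range (D ℤ k)) := by rw [hspan]; trivial
  induction hω using Submodule.span_induction with
  | mem x hx =>
    obtain ⟨c, rfl⟩ := hx
    rw [KaehlerDifferential.map_D]
    have h1 : algebraMap k E c = algebraMap (MvPowerSeries (Fin n) k) E (C c) := by
      rw [IsScalarTower.algebraMap_apply k (MvPowerSeries (Fin n) k) E,
        MvPowerSeries.algebraMap_apply, Algebra.algebraMap_self, RingHom.id_apply]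
    rw [h1, hLam, Dco_C]
    have h2 : algebraMap k E (D₁ c) = algebraMap (MvPowerSeries (Fin n) k) E (C (D₁ c)) := by
      rw [IsScalarTower.algebraMap_apply k (MvPowerSeries (Fin n) k) E,
        MvPowerSeries.algebraMap_apply, Algebra.algebraMap_self, RingHom.id_apply]
    rw [← h2]
    rfl
  | zero => simp
  | add x y _ _ hx hy => rw [map_add, map_add, hx, hy, map_add, map_add]
  | smul a x _ hx =>
    rw [map_smul, ← algebraMap_smul E a ((KaehlerDifferential.map ℤ ℤ k E) x), map_smul, hx,
      smul_eq_mul, map_smul, smul_eq_mul, map_mul]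

end PS

end T5988
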