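import Groth.Agent.scratch.T5988b

set_option autoImplicit false
universe u v

namespace T5988

open Module Cardinal TensorProduct KaehlerDifferential MvPowerSeries
open Groth.Agent.Lib.Helper23.FormalFibreCharP

section PS

variable (k : Type u) [Field k] (n : ℕ) (E : Type u) [Field E] [Algebra (MvPowerSeries (Fin n) k) E]
  [IsFractionRing (MvPowerSeries (Fin n) k) E] [Algebra k E]
  [IsScalarTower k (MvPowerSeries (Fin n) k) E]

include n in
/-- the module of imperfection of `Frac k[[T]]` over `k` vanishes. -/
theorem mapBaseChange_injective : Function.Injective (mapBaseChange ℤ k E) := by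
  classical
  rw [injective_iff_map_eq_zero]
  intro x hx
  let b := Module.Free.chooseBasis k (Ω[k⁄ℤ])
  apply (b.baseChange E).repr.injective
  rw [map_zero]
  ext i
  obtain ⟨Lam, hLam⟩ := exists_extension k n E (b.coord i)
  have h : ∀ y : E ⊗[k] Ω[k⁄ℤ], (b.baseChange E).repr y i = Lam (mapBaseChange ℤ k E y) := by
    intro y
    induction y using TensorProduct.induction_on with
    | zero => simp
    | tmul e ω =>
      rw [Module.Basis.baseChange_repr_tmul, mapBaseChange_tmul, map_smul, hLam,
        Module.Basis.coord_apply, Algebra.smul_def, smul_eq_mul, mul_comm]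
    | add y z hy hz => rw [map_add, Finsupp.add_apply, hy, hz, map_add, map_add]
  rw [h, hx, map_zero]
  rfl

include n in
/-- the functionals induced by the partial derivatives. -/
theorem exists_pderiv_functional (i : Fin n) :
    ∃ Lam : Ω[E⁄ℤ] →ₗ[E] E, (∀ ω : Ω[k⁄ℤ], Lam (KaehlerDifferential.map ℤ ℤ k E ω) = 0) ∧
      ∀ j, Lam (D ℤ E (algebraMap (MvPowerSeries (Fin n) k) E (X j))) = if j = i then 1 else 0 := by
  classical
  obtain ⟨Lam, hLam⟩ := exists_functional k n E ((pderiv k i).restrictScalars ℤ)
  refine ⟨Lam, fun ω => ?_, fun j => ?_⟩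
  · have hspan := KaehlerDifferential.span_range_derivation ℤ k
    have hω : ω ∈ Submodule.span k (Set.range (D ℤ k)) := by rw [hspan]; trivial
    induction hω using Submodule.span_induction with
    | mem x hx =>
      obtain ⟨c, rfl⟩ := hx
      rw [KaehlerDifferential.map_D]
      have h1 : algebraMap k E c = algebraMap (MvPowerSeries (Fin n) k) E (C c) := by
        rw [IsScalarTower.algebraMap_apply k (MvPowerSeries (Fin n) k) E,
          MvPowerSeries.algebraMap_apply, Algebra.algebraMap_self, RingHom.id_apply]
      rw [h1, hLam]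
      change algebraMap (MvPowerSeries (Fin n) k) E (pderiv k i (C c)) = 0
      rw [pderiv_C, map_zero]
    | zero => simp
    | add x y _ _ hx hy => rw [map_add, map_add, hx, hy, add_zero]
    | smul a x _ hx =>
      rw [map_smul, ← algebraMap_smul E a ((KaehlerDifferential.map ℤ ℤ k E) x), map_smul, hx,
        smul_zero]
  · rw [hLam]
    change algebraMap (MvPowerSeries (Fin n) k) E (pderiv k i (X j)) = _
    split_ifs with h
    · subst h
      rw [pderiv_X_self, map_one]
    · rw [pderiv_X_of_ne h, map_zero]

end PS

end T5988
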