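import Groth.Agent.scratch.T5988c
import Groth.Agent.Lib.Helper23.Cartier

set_option autoImplicit false
universe u v

namespace T5988

open Module Cardinal TensorProduct KaehlerDifferential MvPowerSeries
open Groth.Agent.Lib.Helper23.FormalFibreCharP Groth.Agent.Lib.Helper23.LinIndex

section L

variable (k : Type u) [Field k] (E : Type u) [Field E] [Algebra k E]
  (L : Type u) [Field L] [Algebra E L] [Algebra k L] [IsScalarTower k E L]

/-- the canonical map `L ⊗_k Ω_k → L ⊗_E Ω_E`. -/
noncomputable def fmap : L ⊗[k] Ω[k⁄ℤ] →ₗ[L] L ⊗[E] Ω[E⁄ℤ] :=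
  ((mapBaseChange ℤ k E).baseChange L) ∘ₗ
    (AlgebraTensorModule.cancelBaseChange k E L L (Ω[k⁄ℤ])).symm.toLinearMap

theorem fmap_tmul (l : L) (ω : Ω[k⁄ℤ]) :
    fmap k E L (l ⊗ₜ[k] ω) = l ⊗ₜ[E] (KaehlerDifferential.map ℤ ℤ k E ω) := by
  change ((mapBaseChange ℤ k E).baseChange L)
    ((AlgebraTensorModule.cancelBaseChange k E L L (Ω[k⁄ℤ])).symm (l ⊗ₜ[k] ω)) = _
  rw [AlgebraTensorModule.cancelBaseChange_symm_tmul, LinearMap.baseChange_tmul,
    mapBaseChange_tmul, one_smul]

theorem map_map (ω : Ω[k⁄ℤ]) :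
    KaehlerDifferential.map ℤ ℤ E L (KaehlerDifferential.map ℤ ℤ k E ω) =
      KaehlerDifferential.map ℤ ℤ k L ω := by
  have hspan := KaehlerDifferential.span_range_derivation ℤ k
  have hω : ω ∈ Submodule.span k (Set.range (D ℤ k)) := by rw [hspan]; trivial
  induction hω using Submodule.span_induction with
  | mem x hx =>
    obtain ⟨c, rfl⟩ := hx
    rw [KaehlerDifferential.map_D, KaehlerDifferential.map_D, KaehlerDifferential.map_D,
      ← IsScalarTower.algebraMap_apply]
  | zero => simp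
  | add x y _ _ hx hy => rw [map_add, map_add, map_add, hx, hy]
  | smul a x _ hx =>
    have e1 : KaehlerDifferential.map ℤ ℤ k E (a • x) =
        algebraMap k E a • KaehlerDifferential.map ℤ ℤ k E x := by
      rw [map_smul, algebraMap_smul]
    rw [e1, map_smul, hx, map_smul, algebraMap_smul]

theorem comp_fmap : (mapBaseChange ℤ E L) ∘ₗ (fmap k E L) = mapBaseChange ℤ k L := by
  apply TensorProduct.AlgebraTensorModule.ext
  intro l ω
  rw [LinearMap.comp_apply, fmap_tmul, mapBaseChange_tmul, mapBaseChange_tmul, map_map]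

theorem fmap_injective (h : Function.Injective (mapBaseChange ℤ k E)) :
    Function.Injective (fmap k E L) := by
  have h1 : Function.Injective ((mapBaseChange ℤ k E).baseChange L) := by
    rw [LinearMap.baseChange_eq_ltensor]
    exact Module.Flat.lTensor_preserves_injective_linearMap _ h
  exact h1.comp (AlgebraTensorModule.cancelBaseChange k E L L (Ω[k⁄ℤ])).symm.injective

/-- the main rank identity. -/
theorem rank_eq [Algebra.EssFiniteType E L] (htr : Algebra.trdeg E L = 0)
    (h : Function.Injective (mapBaseChange ℤ k E)) :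
    Module.Finite L (LinearMap.ker (mapBaseChange ℤ k L)) ∧
      Module.rank L (Ω[L⁄k]) = Module.rank L ((L ⊗[E] Ω[E⁄ℤ]) ⧸ LinearMap.range (fmap k E L)) +
        Module.rank L (LinearMap.ker (mapBaseChange ℤ k L)) := by
  obtain ⟨m, hm, hidx⟩ := Groth.Agent.Lib.Helper23.Cartier.cartier E L
  have hm0 : m = 0 := by
    rw [htr] at hm
    exact_mod_cast hm.symm
  subst hm0
  have hidx' : HasIndex (mapBaseChange ℤ E L) 0 := by exact_mod_cast hidx
  obtain ⟨h1, h2⟩ := rank_coker_comp_of_index_zero (fmap k E L) (mapBaseChange ℤ E L)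
    (fmap_injective k E L h) hidx'
  rw [comp_fmap] at h1 h2
  refine ⟨h1, ?_⟩
  let e : (Ω[L⁄ℤ] ⧸ LinearMap.range (mapBaseChange ℤ k L)) ≃ₗ[L] Ω[L⁄k] :=
    (exact_mapBaseChange_map ℤ k L).linearEquivOfSurjective (map_surjective ℤ k L)
  rw [← e.rank_eq, h2]

end L

end T5988
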