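import Groth.Agent.scratch.T5988d

set_option autoImplicit false
universe u v

namespace T5988

open Module Cardinal TensorProduct KaehlerDifferential MvPowerSeries
open Groth.Agent.Lib.Helper23.FormalFibreCharP Groth.Agent.Lib.Helper23.LinIndex

section LB

variable (k : Type u) [Field k] (n : ℕ) (E : Type u) [Field E] [Algebra (MvPowerSeries (Fin n) k) E]
  [IsFractionRing (MvPowerSeries (Fin n) k) E] [Algebra k E]
  [IsScalarTower k (MvPowerSeries (Fin n) k) E]
  (L : Type u) [Field L] [Algebra E L] [Algebra k L] [IsScalarTower k E L]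

include n in
/-- the classes of `dT_i` are independent modulo the image of `L ⊗ Ω_k`. -/
theorem le_rank_coker :
    (n : Cardinal.{u}) ≤ Module.rank L ((L ⊗[E] Ω[E⁄ℤ]) ⧸ LinearMap.range (fmap k E L)) := by
  classical
  choose Lam hLam1 hLam2 using exists_pderiv_functional k n E
  let LamL : Fin n → (L ⊗[E] Ω[E⁄ℤ] →ₗ[L] L) := fun i =>
    LinearMap.liftBaseChange L ((Algebra.linearMap E L) ∘ₗ (Lam i))
  let Φ : L ⊗[E] Ω[E⁄ℤ] →ₗ[L] (Fin n → L) := LinearMap.pi LamL
  have hΦ0 : LinearMap.range (fmap k E L) ≤ LinearMap.ker Φ := by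
    rintro _ ⟨x, rfl⟩
    rw [LinearMap.mem_ker]
    induction x using TensorProduct.induction_on with
    | zero => simp
    | tmul l ω =>
      ext i
      rw [fmap_tmul]
      change LinearMap.liftBaseChange L ((Algebra.linearMap E L) ∘ₗ (Lam i))
        (l ⊗ₜ[E] (KaehlerDifferential.map ℤ ℤ k E ω)) = 0
      rw [LinearMap.liftBaseChange_tmul, LinearMap.comp_apply, hLam1, map_zero, smul_zero]
    | add x y hx hy => rw [map_add, map_add, hx, hy, add_zero]
  let Φq : ((L ⊗[E] Ω[E⁄ℤ]) ⧸ LinearMap.range (fmap k E L)) →ₗ[L] (Fin n → L) :=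
    (LinearMap.range (fmap k E L)).liftQ Φ hΦ0
  have hsurj : Function.Surjective Φq := by
    intro c
    refine ⟨Submodule.Quotient.mk (∑ j, (c j) ⊗ₜ[E]
      (D ℤ E (algebraMap (MvPowerSeries (Fin n) k) E (X j)))), ?_⟩
    ext i
    change Φ _ i = c i
    rw [map_sum, Finset.sum_apply, Finset.sum_eq_single i]
    · change LinearMap.liftBaseChange L ((Algebra.linearMap E L) ∘ₗ (Lam i))
        ((c i) ⊗ₜ[E] (D ℤ E (algebraMap (MvPowerSeries (Fin n) k) E (X i)))) = c i
      rw [LinearMap.liftBaseChange_tmul, LinearMap.comp_apply, hLam2, if_pos rfl,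
        Algebra.linearMap_apply, map_one, smul_eq_mul, mul_one]
    · intro j _ hji
      change LinearMap.liftBaseChange L ((Algebra.linearMap E L) ∘ₗ (Lam i))
        ((c j) ⊗ₜ[E] (D ℤ E (algebraMap (MvPowerSeries (Fin n) k) E (X j)))) = 0
      rw [LinearMap.liftBaseChange_tmul, LinearMap.comp_apply, hLam2, if_neg hji, map_zero,
        smul_zero]
    · intro h; exact absurd (Finset.mem_univ i) h
  have h := LinearMap.rank_le_of_surjective Φq hsurj
  rwa [rank_fin_fun] at h

end LB

end T5988
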