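import Groth.Agent.scratch.T5988e
import Groth.Agent.Lib.Helper23.CohenDomain
import Groth.Agent.Lib.Helper23.CMFibres
import Groth.Agent.Lib.Helper12.IntegralDim

set_option autoImplicit false
universe u v

namespace T5988

open Module Cardinal TensorProduct KaehlerDifferential MvPowerSeries IsLocalRing
open Groth.Agent.Lib.Helper23.FormalFibreCharP Groth.Agent.Lib.Helper23.LinIndex

/-- structure: the fraction field of a complete local domain `C` over `k` (residue field finite over
`k`) of dimension `n` is a finite extension of a field `E = Frac k[[T_1..T_n]]`. -/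
theorem exists_field_tower (k C L : Type u) [Field k] [CommRing C] [IsDomain C] [IsNoetherianRing C]
    [IsLocalRing C] [Algebra k C] [IsAdicComplete (IsLocalRing.maximalIdeal C) C]
    [Module.Finite k (IsLocalRing.ResidueField C)] (n : ℕ) (hn : ringKrullDim C = n)
    [Field L] [Algebra C L] [IsFractionRing C L] [Algebra k L] [IsScalarTower k C L] :
    ∃ (_ : Algebra (MvPowerSeries (Fin n) k) C) (_ : IsScalarTower k (MvPowerSeries (Fin n) k) C)
      (_ : Module.Finite (MvPowerSeries (Fin n) k) C)
      (_ : Function.Injective (algebraMap (MvPowerSeries (Fin n) k) C))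
      (E : Type u) (_ : Field E) (_ : Algebra (MvPowerSeries (Fin n) k) E)
      (_ : IsFractionRing (MvPowerSeries (Fin n) k) E) (_ : Algebra k E)
      (_ : IsScalarTower k (MvPowerSeries (Fin n) k) E) (_ : Algebra E L) (_ : IsScalarTower k E L),
      Module.Finite E L := by
  classical
  obtain ⟨n', w, hwinj, hwloc, hwfin⟩ :=
    Groth.Agent.Lib.Helper23.CohenDomain.t2460main (k₀ := k) (A := C)
  have hnn : n' = n := by
    letI : Algebra (MvPowerSeries (Fin n') k) C := w.toRingHom.toAlgebra
    haveI : Module.Finite (MvPowerSeries (Fin n') k) C := hwfin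
    have h1 := Groth.Agent.Lib.Helper12.ringKrullDim_eq_of_isIntegral_of_injective
      (MvPowerSeries (Fin n') k) C hwinj
    rw [(Groth.Agent.Lib.Helper23.CMFibres.ringKrullDim_ps_field (n := n') k).2, hn] at h1
    exact_mod_cast h1
  subst hnn
  set P := MvPowerSeries (Fin n') k with hP
  letI algPC : Algebra P C := w.toRingHom.toAlgebra
  haveI towPC : IsScalarTower k P C := IsScalarTower.of_algebraMap_eq (fun c => (w.commutes c).symm)
  haveI finPC : Module.Finite P C := hwfin
  have hinjPC : Function.Injective (algebraMap P C) := hwinj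
  letI algPL : Algebra P L := ((algebraMap C L).comp (algebraMap P C)).toAlgebra
  haveI : IsScalarTower P C L := IsScalarTower.of_algebraMap_eq (fun _ => rfl)
  haveI : IsScalarTower k P L := IsScalarTower.of_algebraMap_eq (fun c => by
    rw [IsScalarTower.algebraMap_apply k C L, IsScalarTower.algebraMap_apply k P C,
      ← IsScalarTower.algebraMap_apply P C L])
  have hinjPL : Function.Injective (algebraMap P L) :=
    (IsFractionRing.injective C L).comp hinjPC
  obtain ⟨E, hE1, hE2, hE3⟩ : ∃ (E : Type u) (_ : Field E) (_ : Algebra P E), IsFractionRing P E :=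
    ⟨FractionRing P, inferInstance, inferInstance, inferInstance⟩
  letI algEL : Algebra E L := (IsFractionRing.lift (g := algebraMap P L) hinjPL).toAlgebra
  haveI towPEL : IsScalarTower P E L := IsScalarTower.of_algebraMap_eq (fun x =>
    (IsFractionRing.lift_algebraMap hinjPL x).symm)
  letI algkE : Algebra k E := ((algebraMap P E).comp (algebraMap k P)).toAlgebra
  haveI towkPE : IsScalarTower k P E := IsScalarTower.of_algebraMap_eq (fun _ => rfl)
  haveI towkEL : IsScalarTower k E L := IsScalarTower.of_algebraMap_eq (fun c => by
    rw [IsScalarTower.algebraMap_apply k P E, ← IsScalarTower.algebraMap_apply P E L,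
      ← IsScalarTower.algebraMap_apply k P L])
  haveI : FaithfulSMul P C := (faithfulSMul_iff_algebraMap_injective P C).mpr hinjPC
  haveI : Algebra.IsAlgebraic P C := inferInstance
  haveI : IsLocalization (Algebra.algebraMapSubmonoid C (nonZeroDivisors P)) L := inferInstance
  have hfinEL : Module.Finite E L := Module.Finite.of_isLocalization P C (nonZeroDivisors P)
  exact ⟨algPC, towPC, finPC, hinjPC, E, hE1, hE2, hE3, algkE, towkPE, algEL, towkEL, hfinEL⟩

end T5988
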