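import Groth.Statements.S5988
import Mathlib
import Groth.Agent.Lib.Helper23.Imperf1

set_option autoImplicit false
universe u v

namespace T5988

open Module Cardinal TensorProduct KaehlerDifferential MvPowerSeries IsLocalRing
open Groth.Agent.Lib.Helper23.FormalFibreCharP Groth.Agent.Lib.Helper23.LinIndex Groth.Agent.Lib.Helper23.Imperf

theorem t5988 (p : ℕ) [Fact p.Prime]
    (k C L : Type u) [Field k] [CharP k p] [CommRing C] [IsDomain C] [IsNoetherianRing C] [IsLocalRing C]
    [Algebra k C] [IsAdicComplete (IsLocalRing.maximalIdeal C) C]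
    [Module.Finite k (IsLocalRing.ResidueField C)] (n : ℕ) (hn : ringKrullDim C = n)
    [Field L] [Algebra C L] [IsFractionRing C L] [Algebra k L] [IsScalarTower k C L] :
    Module.Finite L (LinearMap.ker (KaehlerDifferential.mapBaseChange ℤ k L)) ∧
      (n : Cardinal.{u}) + Module.rank L (LinearMap.ker (KaehlerDifferential.mapBaseChange ℤ k L)) ≤
        Module.rank L (Ω[L⁄k]) := by
  obtain ⟨algPC, towPC, finPC, hinjPC, E, hE1, hE2, hE3, algkE, towkPE, algEL, towkEL, hfinEL⟩ :=
    exists_field_tower k C L n hn
  haveI : Algebra.EssFiniteType E L := inferInstance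
  haveI : Algebra.IsAlgebraic E L := Algebra.IsAlgebraic.of_finite E L
  have htr : Algebra.trdeg E L = 0 := trdeg_eq_zero
  have hinjE := mapBaseChange_injective k n E
  obtain ⟨hfin, hrank⟩ := rank_eq k E L htr hinjE
  have hle := le_rank_coker k n E L
  refine ⟨hfin, ?_⟩
  rw [hrank]
  exact add_le_add_left hle _

end T5988
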