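import Groth.Statements.S5989
import Mathlib
import Groth.Agent.Lib.Helper23.Imperf1

set_option autoImplicit false
universe u v

namespace T5989

open Module Cardinal TensorProduct KaehlerDifferential MvPowerSeries IsLocalRing
open Groth.Agent.Lib.Helper23.FormalFibreCharP Groth.Agent.Lib.Helper23.LinIndex
  Groth.Agent.Lib.Helper23.Imperf

section Q

variable (p : ℕ) [hp : Fact p.Prime] (k : Type u) [Field k] [CharP k p]

/-- `k` is finite over `k^p` when the Frobenius is a finite ring map. -/
theorem finite_kp (hk : (frobenius k p).Finite) : Module.Finite ↥(kp p k) k := by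
  have h1 : ((frobenius k p).fieldRange.subtype.comp (frobenius k p).rangeRestrictField) =
      frobenius k p := by
    ext x; rfl
  have h2 : ((frobenius k p).fieldRange.subtype).Finite := by
    apply RingHom.Finite.of_comp_finite (f := (frobenius k p).rangeRestrictField)
    rw [h1]; exact hk
  exact RingHom.finite_algebraMap.mp h2

variable {k} (n : ℕ)

/-- when `k` is finite over `k^p`, every (additive) derivation of `k[[X]]` takes values in the span
of its values on the constants and the variables. -/
theorem derivation_mem_span (hk : (frobenius k p).Finite) {M : Type*} [AddCommGroup M]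
    [Module (MvPowerSeries (Fin n) k) M] (d : Derivation ℤ (MvPowerSeries (Fin n) k) M)
    (f : MvPowerSeries (Fin n) k) :
    d f ∈ Submodule.span (MvPowerSeries (Fin n) k)
      (Set.range (fun c : k => d (C c)) ∪ Set.range (fun i : Fin n => d (X i))) := by
  classical
  set N := Submodule.span (MvPowerSeries (Fin n) k)
      (Set.range (fun c : k => d (C c)) ∪ Set.range (fun i : Fin n => d (X i))) with hN
  haveI := finite_kp p k hk
  let β := Module.Free.chooseBasis ↥(kp p k) k
  haveI : CharP (MvPowerSeries (Fin n) k) p :=
    charP_of_injective_algebraMap (algebraMap k (MvPowerSeries (Fin n) k)).injective p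
  haveI h1 := IsScalarTower.of_algebraMap_smul (R := ℤ) (A := MvPowerSeries (Fin n) k) (M := M)
    (fun r x => by rw [eq_intCast, Int.cast_smul_eq_zsmul])
  haveI h2 := IsScalarTower.of_algebraMap_smul (R := ℤ) (A := MvPowerSeries (Fin n) k) (M := M ⧸ N)
    (fun r x => by rw [eq_intCast, Int.cast_smul_eq_zsmul])
  let d' : Derivation ℤ (MvPowerSeries (Fin n) k) (M ⧸ N) := N.mkQ.compDer d
  have hd' : ∀ g, d' g = N.mkQ (d g) := fun g => rfl
  have h0 := derivation_eq_zero p n (kp p k) β d' Set.univ
    (fun s => Submonoid.subset_closure (Set.mem_univ _))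
    (fun g hg => by
      obtain ⟨g₀, rfl⟩ := exists_pow_eq_of_mem p n g hg
      rw [Derivation.leibniz_pow]
      have : (p : ℕ) • (g₀ ^ (p - 1) • d' g₀) =
          ((p : ℕ) : MvPowerSeries (Fin n) k) • (g₀ ^ (p - 1) • d' g₀) :=
        (Nat.cast_smul_eq_nsmul _ _ _).symm
      rw [this, CharP.cast_eq_zero, zero_smul])
    (fun b _ => by
      rw [hd', Submodule.mkQ_apply, Submodule.Quotient.mk_eq_zero]
      exact Submodule.subset_span (Or.inl ⟨b, rfl⟩))
    (fun j => by
      rw [hd', Submodule.mkQ_apply, Submodule.Quotient.mk_eq_zero]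
      exact Submodule.subset_span (Or.inr ⟨j, rfl⟩))
    f
  rw [hd', Submodule.mkQ_apply, Submodule.Quotient.mk_eq_zero] at h0
  exact h0

end Q

end T5989
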