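import Groth.Agent.scratch.T5989a

set_option autoImplicit false
universe u v

namespace T5989

open Module Cardinal TensorProduct KaehlerDifferential MvPowerSeries IsLocalRing
open Groth.Agent.Lib.Helper23.FormalFibreCharP Groth.Agent.Lib.Helper23.LinIndex
  Groth.Agent.Lib.Helper23.Imperf

section Q3

variable (p : ℕ) [hp : Fact p.Prime] (k : Type u) [Field k] [CharP k p] (n : ℕ)
  (E : Type u) [Field E] [Algebra (MvPowerSeries (Fin n) k) E]
  [IsFractionRing (MvPowerSeries (Fin n) k) E] [Algebra k E]
  [IsScalarTower k (MvPowerSeries (Fin n) k) E]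

/-- `Ω_E` is spanned by the image of `Ω_k` and the `dT_i`. -/
theorem span_eq_top (hk : (frobenius k p).Finite) :
    Submodule.span E (Set.range (KaehlerDifferential.map ℤ ℤ k E) ∪
      Set.range (fun i : Fin n => D ℤ E (algebraMap (MvPowerSeries (Fin n) k) E (X i)))) = ⊤ := by
  set NE := Submodule.span E (Set.range (KaehlerDifferential.map ℤ ℤ k E) ∪
      Set.range (fun i : Fin n => D ℤ E (algebraMap (MvPowerSeries (Fin n) k) E (X i)))) with hNE
  -- the derivation `f ↦ d(f)` of `P` into `Ω_E`
  have hP : ∀ f : MvPowerSeries (Fin n) k, D ℤ E (algebraMap (MvPowerSeries (Fin n) k) E f) ∈ NE := by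
    intro f
    haveI h1 := IsScalarTower.of_algebraMap_smul (R := ℤ) (A := MvPowerSeries (Fin n) k) (M := E)
      (fun r x => by rw [eq_intCast, Int.cast_smul_eq_zsmul])
    let d : Derivation ℤ (MvPowerSeries (Fin n) k) (Ω[E⁄ℤ]) :=
      (D ℤ E).compAlgebraMap (MvPowerSeries (Fin n) k)
    have hd : ∀ g, d g = D ℤ E (algebraMap (MvPowerSeries (Fin n) k) E g) := fun g => rfl
    have h := derivation_mem_span p n hk d f
    rw [hd] at h
    have hle : Submodule.span (MvPowerSeries (Fin n) k)
        (Set.range (fun c : k => d (C c)) ∪ Set.range (fun i : Fin n => d (X i))) ≤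
        NE.restrictScalars (MvPowerSeries (Fin n) k) := by
      rw [Submodule.span_le]
      rintro _ (⟨c, rfl⟩ | ⟨i, rfl⟩)
      · apply Submodule.subset_span
        left
        refine ⟨D ℤ k c, ?_⟩
        rw [KaehlerDifferential.map_D]
        change _ = D ℤ E (algebraMap (MvPowerSeries (Fin n) k) E (C c))
        congr 1
        rw [IsScalarTower.algebraMap_apply k (MvPowerSeries (Fin n) k) E,
          MvPowerSeries.algebraMap_apply, Algebra.algebraMap_self, RingHom.id_apply]
      · apply Submodule.subset_span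
        right
        exact ⟨i, rfl⟩
    exact hle h
  rw [eq_top_iff, ← KaehlerDifferential.span_range_derivation ℤ E, Submodule.span_le]
  rintro _ ⟨x, rfl⟩
  obtain ⟨a, b, hb, rfl⟩ := IsFractionRing.div_surjective (A := MvPowerSeries (Fin n) k) x
  rw [SetLike.mem_coe, Derivation.leibniz_div]
  exact Submodule.smul_mem _ _ (Submodule.sub_mem _ (Submodule.smul_mem _ _ (hP a))
    (Submodule.smul_mem _ _ (hP b)))

end Q3

end T5989
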