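import Groth.Agent.scratch.T5989b

set_option autoImplicit false
universe u v

namespace T5989

open Module Cardinal TensorProduct KaehlerDifferential MvPowerSeries IsLocalRing
open Groth.Agent.Lib.Helper23.FormalFibreCharP Groth.Agent.Lib.Helper23.LinIndex
  Groth.Agent.Lib.Helper23.Imperf

section Q4

variable (p : ℕ) [hp : Fact p.Prime] (k : Type u) [Field k] [CharP k p] (n : ℕ)
  (E : Type u) [Field E] [Algebra (MvPowerSeries (Fin n) k) E]
  [IsFractionRing (MvPowerSeries (Fin n) k) E] [Algebra k E]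
  [IsScalarTower k (MvPowerSeries (Fin n) k) E]
  (L : Type u) [Field L] [Algebra E L] [Algebra k L] [IsScalarTower k E L]

/-- the cokernel of `L ⊗ Ω_k → L ⊗_E Ω_E` is spanned by the `dT_i`. -/
theorem rank_coker_le (hk : (frobenius k p).Finite) :
    Module.rank L ((L ⊗[E] Ω[E⁄ℤ]) ⧸ LinearMap.range (fmap k E L)) ≤ (n : Cardinal.{u}) := by
  classical
  set R := LinearMap.range (fmap k E L) with hR
  let v : Fin n → (L ⊗[E] Ω[E⁄ℤ]) ⧸ R := fun i =>
    R.mkQ ((1 : L) ⊗ₜ[E] (D ℤ E (algebraMap (MvPowerSeries (Fin n) k) E (X i))))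
  let ψ : (Fin n → L) →ₗ[L] (L ⊗[E] Ω[E⁄ℤ]) ⧸ R := Fintype.linearCombination L v
  -- every `1 ⊗ ω` maps into the span of the `v i`
  have h1 : ∀ ω : Ω[E⁄ℤ], R.mkQ ((1 : L) ⊗ₜ[E] ω) ∈ Submodule.span L (Set.range v) := by
    intro ω
    have hω : ω ∈ Submodule.span E (Set.range (KaehlerDifferential.map ℤ ℤ k E) ∪
      Set.range (fun i : Fin n => D ℤ E (algebraMap (MvPowerSeries (Fin n) k) E (X i)))) := by
      rw [span_eq_top p k n E hk]; trivial
    induction hω using Submodule.span_induction with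
    | mem x hx =>
      rcases hx with ⟨ω', rfl⟩ | ⟨i, rfl⟩
      · have : R.mkQ ((1 : L) ⊗ₜ[E] (KaehlerDifferential.map ℤ ℤ k E ω')) = 0 := by
          rw [Submodule.mkQ_apply, Submodule.Quotient.mk_eq_zero]
          exact ⟨(1 : L) ⊗ₜ[k] ω', fmap_tmul k E L 1 ω'⟩
        rw [this]
        exact Submodule.zero_mem _
      · exact Submodule.subset_span ⟨i, rfl⟩
    | zero => rw [TensorProduct.tmul_zero, map_zero]; exact Submodule.zero_mem _
    | add x y _ _ hx hy => rw [TensorProduct.tmul_add, map_add]; exact Submodule.add_mem _ hx hy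
    | smul a x _ hx =>
      have : (1 : L) ⊗ₜ[E] (a • x) = (algebraMap E L a) • ((1 : L) ⊗ₜ[E] x) := by
        rw [TensorProduct.tmul_smul, TensorProduct.smul_tmul', TensorProduct.smul_tmul',
          Algebra.smul_def, mul_one, smul_eq_mul, mul_one]
      rw [this, map_smul]
      exact Submodule.smul_mem _ _ hx
  have hsurj : Function.Surjective ψ := by
    rw [← LinearMap.range_eq_top, Fintype.range_linearCombination, eq_top_iff]
    rintro q -
    obtain ⟨x, rfl⟩ := R.mkQ_surjective q
    induction x using TensorProduct.induction_on with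
    | zero => rw [map_zero]; exact Submodule.zero_mem _
    | tmul l ω =>
      have : l ⊗ₜ[E] ω = l • ((1 : L) ⊗ₜ[E] ω) := by
        rw [TensorProduct.smul_tmul', smul_eq_mul, mul_one]
      rw [this, map_smul]
      exact Submodule.smul_mem _ _ (h1 ω)
    | add x y hx hy => rw [map_add]; exact Submodule.add_mem _ hx hy
  have h := LinearMap.rank_le_of_surjective ψ hsurj
  rwa [rank_fin_fun] at h

end Q4

section Q5

variable (p : ℕ) [hp : Fact p.Prime] (k : Type u) [Field k] [CharP k p] (n : ℕ)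

/-- when `k` is finite over `k^p`, `Ω_{k[[X]]/k}` is a finite module. -/
theorem finite_kaehler_ps (hk : (frobenius k p).Finite) :
    Module.Finite (MvPowerSeries (Fin n) k) (Ω[MvPowerSeries (Fin n) k⁄k]) := by
  classical
  let d : Derivation ℤ (MvPowerSeries (Fin n) k) (Ω[MvPowerSeries (Fin n) k⁄k]) :=
    (D k (MvPowerSeries (Fin n) k)).restrictScalars ℤ
  have hd : ∀ g, d g = D k (MvPowerSeries (Fin n) k) g := fun g => rfl
  refine ⟨⟨Finset.univ.image (fun i : Fin n => D k (MvPowerSeries (Fin n) k) (X i)), ?_⟩⟩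
  rw [eq_top_iff, ← KaehlerDifferential.span_range_derivation k (MvPowerSeries (Fin n) k),
    Submodule.span_le]
  rintro _ ⟨f, rfl⟩
  have h := derivation_mem_span p n hk d f
  rw [hd] at h
  refine (Submodule.span_le.mpr ?_) h
  rintro _ (⟨c, rfl⟩ | ⟨i, rfl⟩)
  · change D k (MvPowerSeries (Fin n) k) (C c) ∈ _
    have : (C c : MvPowerSeries (Fin n) k) = algebraMap k (MvPowerSeries (Fin n) k) c := by
      rw [MvPowerSeries.algebraMap_apply, Algebra.algebraMap_self, RingHom.id_apply]
    rw [this, Derivation.map_algebraMap]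
    exact Submodule.zero_mem _
  · apply Submodule.subset_span
    rw [Finset.coe_image, Finset.coe_univ, Set.image_univ]
    exact ⟨i, rfl⟩

end Q5

end T5989
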