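import Groth.Statements.S5989
import Mathlib
import Groth.Agent.Lib.Helper23.Imperf2

set_option autoImplicit false
universe u v

namespace T5989

open Module Cardinal TensorProduct KaehlerDifferential MvPowerSeries IsLocalRing
open Groth.Agent.Lib.Helper23.FormalFibreCharP Groth.Agent.Lib.Helper23.LinIndex
  Groth.Agent.Lib.Helper23.Imperf Groth.Agent.Lib.Helper23.Imperf2

theorem t5989 (p : ℕ) [Fact p.Prime]
    (k C L : Type u) [Field k] [CharP k p] (hk : (frobenius k p).Finite) [CommRing C] [IsDomain C]
    [IsNoetherianRing C] [IsLocalRing C] [Algebra k C] [IsAdicComplete (IsLocalRing.maximalIdeal C) C]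
    [Module.Finite k (IsLocalRing.ResidueField C)] (n : ℕ) (hn : ringKrullDim C = n)
    [Field L] [Algebra C L] [IsFractionRing C L] [Algebra k L] [IsScalarTower k C L] :
    Module.finrank L (Ω[L⁄k]) =
        n + Module.finrank L (LinearMap.ker (KaehlerDifferential.mapBaseChange ℤ k L)) ∧
      Module.Finite C (Ω[C⁄k]) := by
  obtain ⟨algPC, towPC, finPC, hinjPC, E, hE1, hE2, hE3, algkE, towkPE, algEL, towkEL, hfinEL⟩ :=
    exists_field_tower k C L n hn
  haveI : Algebra.EssFiniteType E L := inferInstance
  haveI : Algebra.IsAlgebraic E L := Algebra.IsAlgebraic.of_finite E L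
  have htr : Algebra.trdeg E L = 0 := trdeg_eq_zero
  have hinjE := mapBaseChange_injective k n E
  obtain ⟨hfin, hrank⟩ := rank_eq k E L htr hinjE
  have hle := le_rank_coker k n E L
  have hge := rank_coker_le p k n E L hk
  have hcoker := le_antisymm hge hle
  rw [hcoker] at hrank
  constructor
  · haveI := hfin
    have h2 : Module.rank L (LinearMap.ker (KaehlerDifferential.mapBaseChange ℤ k L)) =
        (Module.finrank L (LinearMap.ker (KaehlerDifferential.mapBaseChange ℤ k L)) : Cardinal) :=
      (Module.finrank_eq_rank L _).symm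
    rw [h2, ← Nat.cast_add] at hrank
    exact Module.finrank_eq_of_rank_eq hrank
  · haveI := finite_kaehler_ps p k n hk
    let f := mapBaseChange k (MvPowerSeries (Fin n) k) C
    haveI : Module.Finite C (LinearMap.range f) := Module.Finite.range f
    let e : (Ω[C⁄k] ⧸ LinearMap.range f) ≃ₗ[C] Ω[C⁄MvPowerSeries (Fin n) k] :=
      (exact_mapBaseChange_map k (MvPowerSeries (Fin n) k) C).linearEquivOfSurjective
        (map_surjective k (MvPowerSeries (Fin n) k) C)
    haveI : Module.Finite C (Ω[C⁄k] ⧸ LinearMap.range f) := Module.Finite.equiv e.symm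
    exact Module.Finite.of_submodule_quotient (LinearMap.range f)

end T5989
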