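import Groth.Statements.S5991
import Mathlib
import Groth.Agent.Lib.Helper23.CompletedKaehler2
import Groth.Agent.Lib.Helper9.SemiLocalProd

set_option autoImplicit false
universe u
open scoped TensorProduct

namespace T5991

open IsLocalRing

/-- completion of an exact sequence `M' → M → M'' → 0` stays exact in the middle when the
completion of `M` is a finite module over the Noetherian local base ring. -/
theorem range_map_eq_ker_map {S : Type u} [CommRing S] [IsLocalRing S] [IsNoetherianRing S]
    {M' M M'' : Type u} [AddCommGroup M'] [Module S M'] [AddCommGroup M] [Module S M]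
    [AddCommGroup M''] [Module S M'']
    (α : M' →ₗ[S] M) (β : M →ₗ[S] M'') (hex : Function.Exact α β) (hβ : Function.Surjective β)
    [Module.Finite S (AdicCompletion (maximalIdeal S) M)] :
    LinearMap.range (AdicCompletion.map (maximalIdeal S) α) =
      LinearMap.ker (AdicCompletion.map (maximalIdeal S) β) := by
  set m := maximalIdeal S with hm
  apply le_antisymm
  · rintro _ ⟨y, rfl⟩
    rw [LinearMap.mem_ker, AdicCompletion.map_comp_apply]
    have h0 : β ∘ₗ α = 0 := hex.linearMap_comp_eq_zero
    rw [h0, AdicCompletion.map_zero]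
    rfl
  · intro x hx
    rw [LinearMap.mem_ker] at hx
    let N : Submodule S (AdicCompletion m M) :=
      (LinearMap.range (AdicCompletion.map m α)).restrictScalars S
    have key : ∀ n : ℕ, N.mkQ x ∈ (m ^ n • ⊤ : Submodule S (AdicCompletion m M ⧸ N)) := by
      intro n
      obtain ⟨z, hz⟩ := Submodule.Quotient.mk_surjective _ (AdicCompletion.eval m M n x)
      have h1 : AdicCompletion.eval m M'' n (AdicCompletion.map m β x) = 0 := by
        rw [hx, map_zero]
      rw [AdicCompletion.eval_apply, AdicCompletion.map_val_apply, ← AdicCompletion.eval_apply,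
        ← hz, LinearMap.reduceModIdeal_apply, Submodule.Quotient.mk_eq_zero] at h1
      have h2 : (m ^ n • ⊤ : Submodule S M'') = Submodule.map β (m ^ n • ⊤) := by
        rw [Submodule.map_smul'', Submodule.map_top, LinearMap.range_eq_top.mpr hβ]
      rw [h2] at h1
      obtain ⟨w, hw, hwz⟩ := h1
      have h3 : β (z - w) = 0 := by rw [map_sub, hwz, sub_self]
      obtain ⟨y, hy⟩ := (hex (z - w)).mp h3
      have h4 : x - AdicCompletion.map m α (AdicCompletion.of m M' y) ∈
          (m ^ n • ⊤ : Submodule S (AdicCompletion m M)) := by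
        rw [AdicCompletion.pow_smul_top_eq_ker_eval (IsNoetherian.noetherian m),
          LinearMap.mem_ker, map_sub, AdicCompletion.map_of, AdicCompletion.eval_of, ← hz, hy,
          Submodule.mkQ_apply, ← Submodule.Quotient.mk_sub, Submodule.Quotient.mk_eq_zero]
        have : z - (z - w) = w := by abel
        rw [this]
        exact hw
      have h5 : N.mkQ x = N.mkQ (x - AdicCompletion.map m α (AdicCompletion.of m M' y)) := by
        rw [map_sub, sub_eq_self.mpr]
        rw [Submodule.mkQ_apply, Submodule.Quotient.mk_eq_zero]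
        exact ⟨_, rfl⟩
      rw [h5]
      have h6 := Submodule.mem_map_of_mem (f := N.mkQ) h4
      rw [Submodule.map_smul''] at h6
      have h8 : (m ^ n • Submodule.map N.mkQ ⊤ : Submodule S (AdicCompletion m M ⧸ N)) ≤ m ^ n • ⊤ :=
        smul_mono_right _ le_top
      exact h8 h6
    have hK := Ideal.iInf_pow_smul_eq_bot_of_isLocalRing (R := S) (M := AdicCompletion m M ⧸ N) m
      (Ideal.IsPrime.ne_top (maximalIdeal.isMaximal S).isPrime)
    have h7 : N.mkQ x ∈ (⨅ i : ℕ, m ^ i • ⊤ : Submodule S (AdicCompletion m M ⧸ N)) := by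
      rw [Submodule.mem_iInf]
      exact key
    rw [hK, Submodule.mem_bot, Submodule.mkQ_apply, Submodule.Quotient.mk_eq_zero] at h7
    exact h7

theorem t5991 (k R S : Type u) [Field k] [CommRing R] [IsNoetherianRing R]
    [IsLocalRing R] [Algebra k R] [IsAdicComplete (IsLocalRing.maximalIdeal R) R]
    [CommRing S] [IsNoetherianRing S] [IsLocalRing S] [Algebra k S]
    [IsAdicComplete (IsLocalRing.maximalIdeal S) S] [Algebra R S] [IsScalarTower k R S]
    [Module.Finite R S] [Module.Finite (IsLocalRing.ResidueField S) (Ω[IsLocalRing.ResidueField S⁄k])] :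
    IsAdicComplete (IsLocalRing.maximalIdeal S) (Ω[S⁄R]) ∧
      Function.Surjective (AdicCompletion.map (IsLocalRing.maximalIdeal S) (KaehlerDifferential.map k R S S)) ∧
      LinearMap.range (AdicCompletion.map (IsLocalRing.maximalIdeal S) (KaehlerDifferential.mapBaseChange k R S)) =
        LinearMap.ker (AdicCompletion.map (IsLocalRing.maximalIdeal S) (KaehlerDifferential.map k R S S)) := by
  refine ⟨?_, ?_, ?_⟩
  · haveI : Module.Finite S (Ω[S⁄R]) := inferInstance
    exact Groth.Agent.Lib.Helper9.SemiLocalProd.isAdicComplete_of_finite S (Ω[S⁄R])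
  · exact AdicCompletion.map_surjective _ (KaehlerDifferential.map_surjective k R S)
  · haveI : Module.Finite (ResidueField S) (ResidueField S ⊗[S] Ω[S⁄k]) :=
      Groth.Agent.Lib.Helper23.CompletedKaehler.finite_tensor_kaehler
    haveI : Module.Finite S (AdicCompletion (maximalIdeal S) (Ω[S⁄k])) :=
      Groth.Agent.Lib.Helper23.CompletedKaehler2.finite_adicCompletion
    exact range_map_eq_ker_map _ _ (KaehlerDifferential.exact_mapBaseChange_map k R S)
      (KaehlerDifferential.map_surjective k R S)

end T5991
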