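import Mathlib
import Groth.Agent.Lib.Helper23.CKTfae

set_option autoImplicit false
set_option linter.unusedSectionVars false
set_option linter.style.haveILetI false
universe u

namespace T5992
open IsLocalRing TensorProduct

/-- the field `k` viewed as an extension of itself through the `e`-th iterate of Frobenius
(a model of `k^{1/p^e}`). -/
def Fr (k : Type u) (_p _e : ℕ) : Type u := k

/-- a ring with its `k`-algebra structure twisted by the `e`-th iterate of Frobenius. -/
def Tw (A : Type u) (_p _e : ℕ) : Type u := A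

section Defs

variable (k : Type u) [Field k] (p e : ℕ)

noncomputable instance : Field (Fr k p e) := inferInstanceAs (Field k)

/-- the identity. -/
def Fr.equiv : Fr k p e ≃+* k := RingEquiv.refl k

variable [ExpChar k p]

noncomputable instance : Algebra k (Fr k p e) :=
  ((Fr.equiv k p e).symm.toRingHom.comp (iterateFrobenius k p e)).toAlgebra

theorem Fr.algebraMap_apply (c : k) :
    algebraMap k (Fr k p e) c = (Fr.equiv k p e).symm (c ^ p ^ e) := rfl

instance : ExpChar (Fr k p e) p := inferInstanceAs (ExpChar k p)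

theorem Fr.pow_eq (x : Fr k p e) : x ^ p ^ e = algebraMap k (Fr k p e) (Fr.equiv k p e x) := rfl

theorem iterateFrobenius_finite (hk : (frobenius k p).Finite) :
    ∀ e : ℕ, (iterateFrobenius k p e).Finite := by
  intro e
  induction e with
  | zero => rw [iterateFrobenius_zero]; exact RingHom.Finite.id k
  | succ e ih =>
    have h1 : iterateFrobenius k p (e + 1) = (iterateFrobenius k p e).comp (frobenius k p) := by
      rw [iterateFrobenius_add, iterateFrobenius_one]
    rw [h1]
    exact RingHom.Finite.comp ih hk

theorem Fr.finite (hk : (frobenius k p).Finite) : Module.Finite k (Fr k p e) := by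
  apply RingHom.finite_algebraMap.mp
  exact RingHom.Finite.comp (RingHom.Finite.of_surjective _ (Fr.equiv k p e).symm.surjective)
    (iterateFrobenius_finite k p hk e)

theorem Fr.isPurelyInseparable : IsPurelyInseparable k (Fr k p e) :=
  (isPurelyInseparable_iff_pow_mem k p).mpr fun x => ⟨e, Fr.equiv k p e x, (Fr.pow_eq k p e x).symm⟩

theorem Fr.frobenius_finite (hk : (frobenius k p).Finite) :
    (frobenius (Fr k p e) p).Finite := hk

end Defs

section TwDefs

variable (k : Type u) [Field k] (p e : ℕ) [ExpChar k p] (A : Type u) [CommRing A] [Algebra k A]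

noncomputable instance : CommRing (Tw A p e) := inferInstanceAs (CommRing A)

/-- the identity. -/
def Tw.equiv : Tw A p e ≃+* A := RingEquiv.refl A

noncomputable instance : Algebra k (Tw A p e) :=
  ((Tw.equiv p e A).symm.toRingHom.comp ((algebraMap k A).comp (iterateFrobenius k p e))).toAlgebra

theorem Tw.algebraMap_apply (c : k) :
    algebraMap k (Tw A p e) c = (Tw.equiv p e A).symm (algebraMap k A (c ^ p ^ e)) := rfl

variable [ExpChar A p]

/-- `x ↦ x`, as a `k`-algebra map `Fr → Tw A`. -/
noncomputable def fHom : Fr k p e →ₐ[k] Tw A p e :=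
  { (Tw.equiv p e A).symm.toRingHom.comp ((algebraMap k A).comp (Fr.equiv k p e).toRingHom) with
    commutes' := fun c => rfl }

/-- `a ↦ a ^ p ^ e`, as a `k`-algebra map `A → Tw A`. -/
noncomputable def gHom : A →ₐ[k] Tw A p e :=
  { (Tw.equiv p e A).symm.toRingHom.comp (iterateFrobenius A p e) with
    commutes' := fun c => by
      show (Tw.equiv p e A).symm (iterateFrobenius A p e (algebraMap k A c)) = _
      rw [iterateFrobenius_def, ← map_pow]
      rfl }

/-- the map `c ⊗ a ↦ c · a ^ p ^ e`. -/
noncomputable def theta : Fr k p e ⊗[k] A →+* A :=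
  (Tw.equiv p e A).toRingHom.comp
    (Algebra.TensorProduct.lift (fHom k p e A) (gHom k p e A) (fun _ _ => Commute.all _ _)).toRingHom

theorem theta_tmul (x : Fr k p e) (a : A) :
    theta k p e A (x ⊗ₜ[k] a) = algebraMap k A (Fr.equiv k p e x) * a ^ p ^ e := by
  unfold theta
  rw [RingHom.comp_apply]
  change (Tw.equiv p e A) (Algebra.TensorProduct.lift (fHom k p e A) (gHom k p e A) _ (x ⊗ₜ[k] a)) = _
  rw [Algebra.TensorProduct.lift_tmul, map_mul]
  rfl

theorem theta_one_tmul (a : A) : theta k p e A ((1 : Fr k p e) ⊗ₜ[k] a) = a ^ p ^ e := by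
  rw [theta_tmul, map_one, map_one, one_mul]

theorem nontrivial_tensor [Nontrivial A] : Nontrivial (Fr k p e ⊗[k] A) :=
  (theta k p e A).domain_nontrivial

theorem expChar_tensor [Nontrivial A] : ExpChar (Fr k p e ⊗[k] A) p := by
  haveI := nontrivial_tensor k p e A
  exact expChar_of_injective_algebraMap (algebraMap (Fr k p e) (Fr k p e ⊗[k] A)).injective p

/-- the basic identity `z ^ p ^ e = 1 ⊗ θ z`. -/
theorem pow_eq_one_tmul_theta [Nontrivial A] (z : Fr k p e ⊗[k] A) :
    z ^ p ^ e = (1 : Fr k p e) ⊗ₜ[k] theta k p e A z := by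
  haveI := expChar_tensor k p e A
  induction z using TensorProduct.induction_on with
  | zero =>
    rw [map_zero, TensorProduct.tmul_zero, zero_pow]
    exact pow_ne_zero _ (expChar_ne_zero k p)
  | tmul x a =>
    rw [Algebra.TensorProduct.tmul_pow, theta_tmul, Fr.pow_eq, Algebra.algebraMap_eq_smul_one,
      TensorProduct.smul_tmul, Algebra.smul_def]
  | add x y hx hy =>
    rw [add_pow_expChar_pow, hx, hy, map_add, TensorProduct.tmul_add]

theorem isLocalHom_theta [Nontrivial A] : IsLocalHom (theta k p e A) := by
  refine ⟨fun z hz => ?_⟩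
  have h1 : IsUnit (z ^ p ^ e) := by
    rw [pow_eq_one_tmul_theta]
    exact hz.map (Algebra.TensorProduct.includeRight (R := k) (A := Fr k p e) (B := A))
  exact (isUnit_pow_iff (pow_ne_zero _ (expChar_ne_zero k p))).mp h1

theorem isLocalRing_tensor [IsLocalRing A] : IsLocalRing (Fr k p e ⊗[k] A) := by
  haveI := isLocalHom_theta k p e A
  exact RingHom.domain_isLocalRing (theta k p e A)

theorem ker_theta [Nontrivial A] [IsReduced A] :
    RingHom.ker (theta k p e A) = nilradical (Fr k p e ⊗[k] A) := by
  ext z
  rw [RingHom.mem_ker, mem_nilradical]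
  constructor
  · intro hz
    refine ⟨p ^ e, ?_⟩
    rw [pow_eq_one_tmul_theta, hz, TensorProduct.tmul_zero]
  · intro hz
    exact (hz.map (theta k p e A)).eq_zero

/-- the induced embedding of the reduction into `A`. -/
noncomputable def thetaBar [Nontrivial A] [IsReduced A] :
    (Fr k p e ⊗[k] A) ⧸ nilradical (Fr k p e ⊗[k] A) →+* A :=
  Ideal.Quotient.lift _ (theta k p e A) (fun z hz => by
    rw [← ker_theta] at hz; exact hz)

theorem thetaBar_mk [Nontrivial A] [IsReduced A] (z : Fr k p e ⊗[k] A) :
    thetaBar k p e A (Ideal.Quotient.mk _ z) = theta k p e A z := rfl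

theorem thetaBar_injective [Nontrivial A] [IsReduced A] :
    Function.Injective (thetaBar k p e A) := by
  rw [injective_iff_map_eq_zero]
  intro y hy
  obtain ⟨z, rfl⟩ := Ideal.Quotient.mk_surjective y
  rw [thetaBar_mk] at hy
  rw [Ideal.Quotient.eq_zero_iff_mem, ← ker_theta]
  exact hy

end TwDefs

end T5992
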