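import Groth.Agent.scratch.T5992a

set_option autoImplicit false
set_option linter.unusedSectionVars false
set_option linter.style.haveILetI false
universe u

namespace T5992
open IsLocalRing TensorProduct

section B

variable (k : Type u) [Field k] (p e : ℕ) [ExpChar k p] (A : Type u) [CommRing A] [Algebra k A]
  [IsDomain A]

/-- the reduction of `k^{1/p^e} ⊗ A`. -/
abbrev Bq : Type u := (Fr k p e ⊗[k] A) ⧸ nilradical (Fr k p e ⊗[k] A)

include k in
theorem expChar_A : ExpChar A p :=
  expChar_of_injective_algebraMap (algebraMap k A).injective p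

theorem isDomain_Bq : IsDomain (Bq k p e A) := by
  haveI := expChar_A k p A
  exact Function.Injective.isDomain (thetaBar k p e A) (thetaBar_injective k p e A)

theorem isLocalRing_Bq [IsLocalRing A] : IsLocalRing (Bq k p e A) := by
  haveI := expChar_A k p A
  haveI := isLocalRing_tensor k p e A
  haveI := isDomain_Bq k p e A
  exact IsLocalRing.of_surjective' (Ideal.Quotient.mk _) Ideal.Quotient.mk_surjective

/-- the `A`-algebra structure on the reduction. -/
noncomputable def algAB : Algebra A (Bq k p e A) :=
  ((Ideal.Quotient.mk (nilradical (Fr k p e ⊗[k] A))).comp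
    (Algebra.TensorProduct.includeRight (R := k) (A := Fr k p e) (B := A)).toRingHom).toAlgebra

theorem algAB_apply (a : A) :
    letI := algAB k p e A
    algebraMap A (Bq k p e A) a = Ideal.Quotient.mk _ ((1 : Fr k p e) ⊗ₜ[k] a) := rfl

theorem thetaBar_algebraMap (a : A) :
    letI := algAB k p e A
    haveI := expChar_A k p A
    thetaBar k p e A (algebraMap A (Bq k p e A) a) = a ^ p ^ e := by
  haveI := expChar_A k p A
  letI := algAB k p e A
  rw [algAB_apply, thetaBar_mk, theta_one_tmul]

theorem algAB_injective :
    letI := algAB k p e A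
    Function.Injective (algebraMap A (Bq k p e A)) := by
  haveI := expChar_A k p A
  letI := algAB k p e A
  rw [injective_iff_map_eq_zero]
  intro a ha
  have h1 := thetaBar_algebraMap k p e A a
  rw [ha, map_zero] at h1
  exact pow_eq_zero_iff (pow_ne_zero _ (expChar_ne_zero k p)) |>.mp h1.symm

theorem algAB_tower :
    letI := algAB k p e A
    IsScalarTower k A (Bq k p e A) := by
  letI := algAB k p e A
  refine IsScalarTower.of_algebraMap_eq (fun c => ?_)
  rw [algAB_apply]
  show Ideal.Quotient.mk _ (algebraMap k (Fr k p e ⊗[k] A) c) = _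
  rw [Algebra.TensorProduct.algebraMap_apply, Algebra.algebraMap_eq_smul_one,
    TensorProduct.smul_tmul, ← Algebra.algebraMap_eq_smul_one]

theorem algAB_finite (hk : (frobenius k p).Finite) :
    letI := algAB k p e A
    Module.Finite A (Bq k p e A) := by
  letI := algAB k p e A
  haveI := Fr.finite k p e hk
  let ψ : A ⊗[k] Fr k p e →+* Bq k p e A :=
    (Ideal.Quotient.mk _).comp (Algebra.TensorProduct.comm k A (Fr k p e)).toAlgHom.toRingHom
  let ψl : A ⊗[k] Fr k p e →ₗ[A] Bq k p e A :=
    { toFun := ψ
      map_add' := map_add ψ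
      map_smul' := fun a x => by
        rw [RingHom.id_apply, Algebra.smul_def, Algebra.smul_def, map_mul]
        congr 1 }
  refine Module.Finite.of_surjective ψl ?_
  intro y
  obtain ⟨z, rfl⟩ := Ideal.Quotient.mk_surjective y
  exact ⟨(Algebra.TensorProduct.comm k A (Fr k p e)).symm z, by
    show Ideal.Quotient.mk _ ((Algebra.TensorProduct.comm k A (Fr k p e))
      ((Algebra.TensorProduct.comm k A (Fr k p e)).symm z)) = _
    rw [AlgEquiv.apply_symm_apply]⟩

theorem algAB_isLocalHom [IsLocalRing A] :
    letI := algAB k p e A
    IsLocalHom (algebraMap A (Bq k p e A)) := by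
  haveI := expChar_A k p A
  letI := algAB k p e A
  refine ⟨fun a ha => ?_⟩
  have h1 : IsUnit (thetaBar k p e A (algebraMap A (Bq k p e A) a)) := ha.map _
  rw [thetaBar_algebraMap] at h1
  exact (isUnit_pow_iff (pow_ne_zero _ (expChar_ne_zero k p))).mp h1

end B

section B2

variable (k : Type u) [Field k] (p e : ℕ) [ExpChar k p] (A : Type u) [CommRing A] [Algebra k A]
  [IsDomain A] [IsLocalRing A] [IsNoetherianRing A] [IsAdicComplete (maximalIdeal A) A]
  [Module.Finite k (ResidueField A)]

theorem isNoetherianRing_Bq (hk : (frobenius k p).Finite) : IsNoetherianRing (Bq k p e A) := by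
  letI := algAB k p e A
  haveI := algAB_finite k p e A hk
  exact IsNoetherianRing.of_finite A (Bq k p e A)

theorem isAdicComplete_Bq (hk : (frobenius k p).Finite) :
    letI := isLocalRing_Bq k p e A
    IsAdicComplete (maximalIdeal (Bq k p e A)) (Bq k p e A) := by
  letI := isLocalRing_Bq k p e A
  letI := algAB k p e A
  haveI := algAB_finite k p e A hk
  exact Groth.Agent.Lib.Helper9.SemiLocalProd.isAdicComplete_maximalIdeal_of_finite A (Bq k p e A)

theorem ringKrullDim_Bq (hk : (frobenius k p).Finite) :
    ringKrullDim (Bq k p e A) = ringKrullDim A := by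
  letI := algAB k p e A
  haveI := algAB_finite k p e A hk
  exact (Groth.Agent.Lib.Helper12.ringKrullDim_eq_of_isIntegral_of_injective A (Bq k p e A)
    (algAB_injective k p e A)).symm

theorem finite_residueField_Bq (hk : (frobenius k p).Finite) :
    letI := isLocalRing_Bq k p e A
    Module.Finite (Fr k p e) (ResidueField (Bq k p e A)) := by
  letI := isLocalRing_Bq k p e A
  letI := algAB k p e A
  haveI := algAB_finite k p e A hk
  haveI := algAB_isLocalHom k p e A
  haveI := algAB_tower k p e A
  haveI : Module.Finite (ResidueField A) (ResidueField (Bq k p e A)) := inferInstance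
  haveI : IsScalarTower k (ResidueField A) (ResidueField (Bq k p e A)) := by
    refine IsScalarTower.of_algebraMap_eq (fun c => ?_)
    rw [IsScalarTower.algebraMap_apply k (Bq k p e A) (ResidueField (Bq k p e A)),
      IsScalarTower.algebraMap_apply k A (ResidueField A),
      IsScalarTower.algebraMap_apply k A (Bq k p e A)]
    rfl
  haveI : Module.Finite k (ResidueField (Bq k p e A)) := Module.Finite.trans (ResidueField A) _
  exact Module.Finite.of_restrictScalars_finite k (Fr k p e) (ResidueField (Bq k p e A))

end B2

end T5992
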