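import Groth.Agent.scratch.T5992b
import Groth.Agent.Lib.Helper23.Imperf1
import Groth.Agent.Lib.Helper23.FieldSep3

set_option autoImplicit false
set_option linter.unusedSectionVars false
set_option linter.style.haveILetI false
universe u

namespace T5992
open IsLocalRing TensorProduct KaehlerDifferential
open Groth.Agent.Lib.Helper23.Imperf Groth.Agent.Lib.Helper23.FieldSep

section C1

variable (k A L : Type u) [Field k] [CommRing A] [IsDomain A] [IsNoetherianRing A]
  [IsLocalRing A] [Algebra k A] [IsAdicComplete (IsLocalRing.maximalIdeal A) A]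
  [Module.Finite k (IsLocalRing.ResidueField A)]
  [Field L] [Algebra A L] [IsFractionRing A L] [Algebra k L] [IsScalarTower k A L]

/-- a separable subextension of `Frac A` over `k` containing all `p^e`-th powers. -/
theorem exists_sep_subfield (p : ℕ) [ExpChar k p] (n : ℕ) (hn : ringKrullDim A = n) :
    ∃ (e : ℕ) (M : IntermediateField k L), Algebra.IsGeometricallyReduced k M ∧
      ∀ a : L, a ^ p ^ e ∈ M := by
  classical
  obtain ⟨algPC, towPC, finPC, hinjPC, E, hE1, hE2, hE3, algkE, towkPE, algEL, towkEL, hfinEL⟩ :=
    exists_field_tower k A L n hn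
  letI := algPC
  letI := hE1
  letI := hE2
  letI := algkE
  letI := algEL
  haveI := towPC
  haveI := hE3
  haveI := towkPE
  haveI := towkEL
  haveI := hfinEL
  haveI : Algebra.IsAlgebraic E L := Algebra.IsAlgebraic.of_finite E L
  let M₀ : IntermediateField E L := separableClosure E L
  haveI : ExpChar E p := expChar_of_injective_algebraMap (algebraMap k E).injective p
  haveI : ExpChar M₀ p := expChar_of_injective_algebraMap (algebraMap E M₀).injective p
  haveI : IsPurelyInseparable M₀ L := separableClosure.isPurelyInseparable E L
  haveI : FiniteDimensional M₀ L := IntermediateField.finiteDimensional_right M₀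
  haveI : Algebra.IsSeparable E M₀ := separableClosure.isSeparable E L
  haveI : Algebra.FormallyEtale E M₀ := Algebra.FormallyEtale.of_isSeparable E M₀
  have h1 : Function.Injective (mapBaseChange ℤ k E) := mapBaseChange_injective k n E
  have h2 : Function.Injective (mapBaseChange ℤ k M₀) := by
    rw [← comp_fmap k E M₀]
    exact (tensorKaehlerEquivOfFormallyEtale ℤ E M₀).injective.comp (fmap_injective k E M₀ h1)
  have h3 : Algebra.IsGeometricallyReduced k M₀ := (isGeometricallyReduced_iff_injective k M₀).mpr h2
  refine ⟨IsPurelyInseparable.exponent M₀ L, M₀.restrictScalars k, h3, fun a => ?_⟩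
  obtain ⟨m, hm⟩ := IsPurelyInseparable.exponent_def' M₀ p a
  rw [← hm]
  exact m.2

end C1

end T5992
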