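import Groth.Agent.scratch.T5992c
import Groth.Agent.Lib.Helper23.GeomRegular2

set_option autoImplicit false
set_option linter.unusedSectionVars false
set_option linter.style.haveILetI false
universe u

namespace T5992
open IsLocalRing TensorProduct
open Groth.Agent.Lib.Helper23.FieldSep

section D1

/-- a geometrically reduced field extension is geometrically regular. -/
theorem geomRegular_field (k F : Type u) [Field k] [Field F] [Algebra k F]
    (h : Algebra.IsGeometricallyReduced k F) : CAlg.IsGeometricallyRegular k F := by
  haveI : Algebra.FormallySmooth k F := (formallySmooth_iff_isGeometricallyReduced k F).mpr h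
  intro k'' _ _ hfin
  haveI : IsNoetherianRing (k'' ⊗[k] F) :=
    Groth.Agent.Lib.Helper23.GeomRegular2.isNoetherianRing_tensor_of_essFiniteType k''
  haveI : Algebra.FormallySmooth k'' (k'' ⊗[k] F) := inferInstance
  exact isRegularRing_of_formallySmooth_field k'' (k'' ⊗[k] F)

theorem geomRegular_of_algEquiv (k S S' : Type u) [Field k] [CommRing S] [CommRing S']
    [Algebra k S] [Algebra k S'] (e : S ≃ₐ[k] S') (h : CAlg.IsGeometricallyRegular k S) :
    CAlg.IsGeometricallyRegular k S' := by
  intro k'' _ _ hfin
  haveI := h k'' hfin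
  exact IsRegularRing.of_ringEquiv
    (Algebra.TensorProduct.congr (AlgEquiv.refl : k'' ≃ₐ[k] k'') e).toRingEquiv

end D1

section D2

variable (k : Type u) [Field k] (p : ℕ) [ExpChar k p] (A : Type u) [CommRing A] [Algebra k A]
  [IsDomain A] (L : Type u) [Field L] [Algebra A L] [IsFractionRing A L] [Algebra k L]
  [IsScalarTower k A L] (e : ℕ) (M : IntermediateField k L)

theorem theta_mem (hpow : ∀ a : L, a ^ p ^ e ∈ M) (z : Fr k p e ⊗[k] A) :
    haveI := expChar_A k p A
    algebraMap A L (theta k p e A z) ∈ M := by
  haveI := expChar_A k p A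
  induction z using TensorProduct.induction_on with
  | zero => rw [map_zero, map_zero]; exact zero_mem M
  | tmul x a =>
    rw [theta_tmul, map_mul, map_pow, ← IsScalarTower.algebraMap_apply k A L]
    exact mul_mem (M.algebraMap_mem _) (hpow _)
  | add x y hx hy =>
    rw [map_add, map_add]; exact add_mem hx hy

end D2

section D3

variable (k : Type u) [Field k] (p : ℕ) [ExpChar k p] (A : Type u) [CommRing A] [Algebra k A]
  [IsDomain A] (L : Type u) [Field L] [Algebra A L] [IsFractionRing A L] [Algebra k L]
  [IsScalarTower k A L] (e : ℕ) (M : IntermediateField k L)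

theorem geomReduced_fractionRing_Bq (hM : Algebra.IsGeometricallyReduced k M)
    (hpow : ∀ a : L, a ^ p ^ e ∈ M) :
    letI := isDomain_Bq k p e A
    Algebra.IsGeometricallyReduced (Fr k p e) (FractionRing (Bq k p e A)) := by
  letI := isDomain_Bq k p e A
  haveI := expChar_A k p A
  letI algM : Algebra (Fr k p e) M := inferInstanceAs (Algebra k M)
  haveI hM' : Algebra.IsGeometricallyReduced (Fr k p e) M := hM
  let ι₀ : Bq k p e A →+* L := (algebraMap A L).comp (thetaBar k p e A)
  have hι₀ : ∀ y, ι₀ y ∈ M := by
    intro y
    obtain ⟨z, rfl⟩ := Ideal.Quotient.mk_surjective y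
    exact theta_mem k p A L e M hpow z
  let ι : Bq k p e A →+* M := RingHom.codRestrict ι₀ M hι₀
  have hιinj : Function.Injective ι := by
    intro a b hab
    have h1 : ι₀ a = ι₀ b := congrArg Subtype.val hab
    exact thetaBar_injective k p e A (IsFractionRing.injective A L h1)
  let ιa : Bq k p e A →ₐ[Fr k p e] M :=
    { ι with
      commutes' := fun x => by
        apply Subtype.ext
        show algebraMap A L (theta k p e A (x ⊗ₜ[k] (1 : A))) = algebraMap k L (Fr.equiv k p e x)
        rw [theta_tmul, one_pow, mul_one, ← IsScalarTower.algebraMap_apply k A L] }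
  have hιa : Function.Injective ιa := hιinj
  let j : FractionRing (Bq k p e A) →ₐ[Fr k p e] M := IsFractionRing.liftAlgHom hιa
  exact Algebra.IsGeometricallyReduced.of_injective j j.toRingHom.injective

end D3

section D4

variable (k : Type u) [Field k] (p : ℕ) [ExpChar k p] (A : Type u) [CommRing A] [Algebra k A]
  [IsDomain A] (L : Type u) [Field L] [Algebra A L] [IsFractionRing A L] [Algebra k L]
  [IsScalarTower k A L] (e : ℕ) (M : IntermediateField k L)

theorem geomRegular_localization_bot (hM : Algebra.IsGeometricallyReduced k M)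
    (hpow : ∀ a : L, a ^ p ^ e ∈ M) :
    letI := isDomain_Bq k p e A
    CAlg.IsGeometricallyRegular (Fr k p e) (Localization.AtPrime (⊥ : Ideal (Bq k p e A))) := by
  letI := isDomain_Bq k p e A
  have h1 := geomReduced_fractionRing_Bq k p A L e M hM hpow
  have h2 := geomRegular_field (Fr k p e) (FractionRing (Bq k p e A)) h1
  haveI : IsLocalization (⊥ : Ideal (Bq k p e A)).primeCompl (FractionRing (Bq k p e A)) := by
    rw [Ideal.primeCompl_bot]; infer_instance
  let e₁ : FractionRing (Bq k p e A) ≃ₐ[Bq k p e A] Localization.AtPrime (⊥ : Ideal (Bq k p e A)) :=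
    IsLocalization.algEquiv (⊥ : Ideal (Bq k p e A)).primeCompl _ _
  exact geomRegular_of_algEquiv (Fr k p e) _ _ (e₁.restrictScalars (Fr k p e)) h2

end D4

end T5992
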