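import Groth.Agent.scratch.T5992d
import Groth.Agent.Lib.Helper23.CohenDomain
import Groth.Agent.Lib.Helper23.CK6
import Groth.Agent.S5074

set_option autoImplicit false
set_option linter.unusedSectionVars false
set_option linter.style.haveILetI false
universe u

namespace T5992
open IsLocalRing TensorProduct
open Groth.Agent.Lib.Helper20 Groth.Agent.Lib.Helper1.ArtFunLib

section E1

/-- injectivity by dimension. -/
theorem injective_of_dim (k B : Type u) [Field k] [CommRing B] [IsDomain B] (n : ℕ)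
    [Algebra (MvPowerSeries (Fin n) k) B] [Module.Finite (MvPowerSeries (Fin n) k) B]
    (hdim4 : ringKrullDim B = n) :
    Function.Injective (algebraMap (MvPowerSeries (Fin n) k) B) := by
  rw [injective_iff_map_eq_zero]
  intro F hF
  by_contra hF0
  obtain ⟨𝔨, h𝔨⟩ : ∃ 𝔨 : Ideal (MvPowerSeries (Fin n) k),
      𝔨 = RingHom.ker (algebraMap (MvPowerSeries (Fin n) k) B) := ⟨_, rfl⟩
  have hF𝔨 : F ∈ 𝔨 := by rw [h𝔨]; exact hF
  letI : Algebra (MvPowerSeries (Fin n) k ⧸ 𝔨) B :=
    (Ideal.Quotient.lift 𝔨 (algebraMap (MvPowerSeries (Fin n) k) B)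
      (fun a ha => by rw [h𝔨] at ha; exact ha)).toAlgebra
  haveI : IsScalarTower (MvPowerSeries (Fin n) k) (MvPowerSeries (Fin n) k ⧸ 𝔨) B :=
    IsScalarTower.of_algebraMap_eq (R := MvPowerSeries (Fin n) k)
      (S := MvPowerSeries (Fin n) k ⧸ 𝔨) (A := B) (fun _ => rfl)
  haveI : Algebra.IsIntegral (MvPowerSeries (Fin n) k ⧸ 𝔨) B := by
    haveI : Module.Finite (MvPowerSeries (Fin n) k ⧸ 𝔨) B :=
      Module.Finite.of_restrictScalars_finite (MvPowerSeries (Fin n) k) _ _
    infer_instance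
  have hinj : Function.Injective (algebraMap (MvPowerSeries (Fin n) k ⧸ 𝔨) B) := by
    rw [injective_iff_map_eq_zero]
    intro y hy
    obtain ⟨G, rfl⟩ := Ideal.Quotient.mk_surjective y
    rw [Ideal.Quotient.eq_zero_iff_mem, h𝔨]
    exact hy
  have hdim1 := Groth.Agent.Lib.Helper12.ringKrullDim_eq_of_isIntegral_of_injective
    (MvPowerSeries (Fin n) k ⧸ 𝔨) B hinj
  have hdim2 : ringKrullDim (MvPowerSeries (Fin n) k ⧸ 𝔨) + 1 ≤
      ringKrullDim (MvPowerSeries (Fin n) k) :=
    ringKrullDim_succ_le_of_surjective (Ideal.Quotient.mk 𝔨) Ideal.Quotient.mk_surjective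
      (mem_nonZeroDivisors_of_ne_zero hF0) (Ideal.Quotient.eq_zero_iff_mem.mpr hF𝔨)
  have hdim3 : ringKrullDim (MvPowerSeries (Fin n) k) ≤ n := by
    refine le_trans (ringKrullDim_le_spanFinrank_maximalIdeal _) ?_
    exact_mod_cast spanFinrank_maximalIdeal_mvPowerSeries_le k n
  rw [hdim1, hdim4] at hdim2
  have h5 : ((n : WithBot ℕ∞) + 1) ≤ n := le_trans hdim2 hdim3
  have h6 : ((n + 1 : ℕ) : WithBot ℕ∞) ≤ (n : ℕ) := by exact_mod_cast h5
  have h7 : n + 1 ≤ n := by exact_mod_cast h6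
  omega

end E1

section E2

theorem exists_chart_of_geomRegular_bot (p : ℕ) (k B : Type u) [Field k] [ExpChar k p]
    (hk : (frobenius k p).Finite)
    [CommRing B] [IsDomain B] [IsLocalRing B] [IsNoetherianRing B] [Algebra k B]
    [IsAdicComplete (maximalIdeal B) B] [Module.Finite k (ResidueField B)]
    (hB : ¬ IsField B)
    (hreg : CAlg.IsGeometricallyRegular k (Localization.AtPrime (⊥ : Ideal B)))
    (n : ℕ) (hn : ringKrullDim B = n) :
    ∃ (_ : Algebra (MvPowerSeries (Fin n) k) B) (_ : IsScalarTower k (MvPowerSeries (Fin n) k) B),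
      IsLocalHom (algebraMap (MvPowerSeries (Fin n) k) B) ∧
      Function.Injective (algebraMap (MvPowerSeries (Fin n) k) B) ∧
      Module.Finite (MvPowerSeries (Fin n) k) B ∧
      Algebra.IsUnramifiedAt (MvPowerSeries (Fin n) k) (⊥ : Ideal B) := by
  have hmin : (⊥ : Ideal B) ∈ minimalPrimes B := by
    rw [IsDomain.minimalPrimes_eq_singleton_bot]; rfl
  have hdim : ringKrullDim (B ⧸ (⊥ : Ideal B)) = n := by
    rw [ringKrullDim_eq_of_ringEquiv (RingEquiv.quotientBot B), hn]
  obtain ⟨hfree, hrank⟩ := Groth.Agent.S5074.result p k B hk ⊥ hreg ⊥ hmin le_rfl n hdim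
  haveI := hfree
  haveI : Module.Finite B (AdicCompletion (maximalIdeal B) (KaehlerDifferential k B)) :=
    Groth.Agent.Lib.Helper23.CompletedKaehlerSep.finite_mhat' (k := k) (A := B)
  let b := Module.finBasis (Localization.AtPrime (⊥ : Ideal B))
    (LocalizedModule (⊥ : Ideal B).primeCompl
      (AdicCompletion (maximalIdeal B) (KaehlerDifferential k B)))
  let s : Fin n → LocalizedModule (⊥ : Ideal B).primeCompl
      (AdicCompletion (maximalIdeal B) (KaehlerDifferential k B)) :=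
    fun i => b (Fin.cast hrank.symm i)
  have hs : Submodule.span (Localization.AtPrime (⊥ : Ideal B)) (Set.range s) = ⊤ := by
    have : Set.range s = Set.range b := by
      ext y
      constructor
      · rintro ⟨i, rfl⟩; exact ⟨_, rfl⟩
      · rintro ⟨i, rfl⟩; exact ⟨Fin.cast hrank i, by simp [s]⟩
    rw [this, b.span_eq]
  have hp : (⊥ : Ideal B) ≠ maximalIdeal B := fun h =>
    hB (IsLocalRing.isField_iff_maximalIdeal_eq.mpr h.symm)
  have hq : ∃ q ∈ minimalPrimes B, q ≤ (⊥ : Ideal B) ∧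
      ringKrullDim (B ⧸ q) = ringKrullDim B := ⟨⊥, hmin, le_rfl, by rw [hdim, hn]⟩
  obtain ⟨alg, tower, hloc, hfin, hunr⟩ :=
    (Groth.Agent.Lib.Helper23.CK.t5054 k B ⊥ hp hq n).mp ⟨s, hs⟩
  exact ⟨alg, tower, hloc, injective_of_dim k B n hn, hfin, hunr⟩

end E2

end T5992
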