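import Groth.Agent.scratch.T5992e

set_option autoImplicit false
set_option linter.unusedSectionVars false
set_option linter.style.haveILetI false
universe u

namespace T5992
open IsLocalRing TensorProduct

section F

theorem main (p : ℕ) (k A : Type u) [Field k]
    [ExpChar k p] (hk : (frobenius k p).Finite) [CommRing A] [IsDomain A] [IsNoetherianRing A]
    [IsLocalRing A] [Algebra k A] [IsAdicComplete (IsLocalRing.maximalIdeal A) A]
    [Module.Finite k (IsLocalRing.ResidueField A)] (hA : ¬ IsField A) (n : ℕ)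
    (hn : ringKrullDim A = n) :
    ∃ e : ℕ, ∃ (_ : IsDomain (Bq k p e A)) (_ : IsLocalRing (Bq k p e A))
        (_ : Algebra (MvPowerSeries (Fin n) (Fr k p e)) (Bq k p e A))
        (_ : IsScalarTower (Fr k p e) (MvPowerSeries (Fin n) (Fr k p e)) (Bq k p e A)),
        IsLocalHom (algebraMap (MvPowerSeries (Fin n) (Fr k p e)) (Bq k p e A)) ∧
        Function.Injective (algebraMap (MvPowerSeries (Fin n) (Fr k p e)) (Bq k p e A)) ∧
        Module.Finite (MvPowerSeries (Fin n) (Fr k p e)) (Bq k p e A) ∧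
        Algebra.IsUnramifiedAt (MvPowerSeries (Fin n) (Fr k p e)) (⊥ : Ideal (Bq k p e A)) := by
  obtain ⟨e, M, hM, hpow⟩ := exists_sep_subfield k A (FractionRing A) p n hn
  refine ⟨e, ?_⟩
  letI hdom := isDomain_Bq k p e A
  letI hlocal := isLocalRing_Bq k p e A
  haveI := isNoetherianRing_Bq k p e A hk
  haveI := isAdicComplete_Bq k p e A hk
  haveI := finite_residueField_Bq k p e A hk
  have hdim : ringKrullDim (Bq k p e A) = n := by rw [ringKrullDim_Bq k p e A hk, hn]
  have hB : ¬ IsField (Bq k p e A) := by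
    intro hf
    letI := algAB k p e A
    haveI := algAB_finite k p e A hk
    haveI : Algebra.IsIntegral A (Bq k p e A) := inferInstance
    exact hA (isField_of_isIntegral_of_isField (algAB_injective k p e A) hf)
  have hreg := geomRegular_localization_bot k p A (FractionRing A) e M hM hpow
  obtain ⟨alg, tower, hloc, hinj, hfin, hunr⟩ :=
    exists_chart_of_geomRegular_bot p (Fr k p e) (Bq k p e A) (Fr.frobenius_finite k p e hk)
      hB hreg n hdim
  exact ⟨hdom, hlocal, alg, tower, hloc, hinj, hfin, hunr⟩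

theorem t5992 (p : ℕ) (k A : Type u) [Field k]
    [ExpChar k p] (hk : (frobenius k p).Finite) [CommRing A] [IsDomain A] [IsNoetherianRing A] [IsLocalRing A]
    [Algebra k A] [IsAdicComplete (IsLocalRing.maximalIdeal A) A]
    [Module.Finite k (IsLocalRing.ResidueField A)] (hA : ¬ IsField A) (n : ℕ) (hn : ringKrullDim A = n) :
    ∃ (k' : Type u) (_ : Field k') (_ : Algebra k k'), Module.Finite k k' ∧ IsPurelyInseparable k k' ∧
      ∃ (_ : IsDomain ((k' ⊗[k] A) ⧸ nilradical (k' ⊗[k] A)))
        (_ : IsLocalRing ((k' ⊗[k] A) ⧸ nilradical (k' ⊗[k] A)))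
        (_ : Algebra (MvPowerSeries (Fin n) k') ((k' ⊗[k] A) ⧸ nilradical (k' ⊗[k] A)))
        (_ : IsScalarTower k' (MvPowerSeries (Fin n) k') ((k' ⊗[k] A) ⧸ nilradical (k' ⊗[k] A))),
        IsLocalHom (algebraMap (MvPowerSeries (Fin n) k') ((k' ⊗[k] A) ⧸ nilradical (k' ⊗[k] A))) ∧
        Function.Injective (algebraMap (MvPowerSeries (Fin n) k') ((k' ⊗[k] A) ⧸ nilradical (k' ⊗[k] A))) ∧
        Module.Finite (MvPowerSeries (Fin n) k') ((k' ⊗[k] A) ⧸ nilradical (k' ⊗[k] A)) ∧
        Algebra.IsUnramifiedAt (MvPowerSeries (Fin n) k') (⊥ : Ideal ((k' ⊗[k] A) ⧸ nilradical (k' ⊗[k] A))) := by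
  obtain ⟨e, h⟩ := main p k A hk hA n hn
  exact ⟨Fr k p e, inferInstance, inferInstance, Fr.finite k p e hk, Fr.isPurelyInseparable k p e, h⟩

end F

end T5992
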