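import Groth.Agent.scratch.T5993a

set_option autoImplicit false
universe u
open scoped TensorProduct

namespace T5993

open IsLocalRing TensorProduct MvPowerSeries Groth.Agent.Lib.Helper23.CTens Groth.Agent.Lib.Helper1.ArtFunLib Groth.Agent.Lib.Helper23.CTensStr

/-- fibre of dimension zero. -/
theorem ringKrullDim_quot_eq_zero (R L : Type u) [CommRing R] [IsLocalRing R] [CommRing L] [IsLocalRing L]
    [Algebra R L] [Module.Finite R L] (J : Ideal L)
    (hJ : (maximalIdeal R).map (algebraMap R L) ≤ J) (hJ' : J ≠ ⊤) :
    ringKrullDim (L ⧸ J) = 0 := by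
  haveI : Nontrivial (L ⧸ J) := Ideal.Quotient.nontrivial_iff.mpr hJ'
  have hint : Algebra.IsIntegral R L := inferInstance
  have h0 : Ring.KrullDimLE 0 (L ⧸ J) := by
    refine Ring.KrullDimLE.mk₀ (fun q hq => ?_)
    set p : Ideal L := q.comap (Ideal.Quotient.mk J) with hp
    haveI : p.IsPrime := Ideal.comap_isPrime _ q
    have hJp : J ≤ p := by
      intro x hx
      rw [hp, Ideal.mem_comap, Ideal.Quotient.eq_zero_iff_mem.mpr hx]
      exact zero_mem _
    have hc : p.comap (algebraMap R L) = maximalIdeal R := by
      apply le_antisymm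
      · exact IsLocalRing.le_maximalIdeal (Ideal.IsPrime.ne_top (Ideal.comap_isPrime _ p))
      · rw [← Ideal.map_le_iff_le_comap]; exact hJ.trans hJp
    have hpmax : p.IsMaximal := by
      apply Ideal.isMaximal_of_isIntegral_of_isMaximal_comap (R := R) p
      rw [hc]; infer_instance
    have hq' : q = p.map (Ideal.Quotient.mk J) :=
      (Ideal.map_comap_of_surjective _ Ideal.Quotient.mk_surjective q).symm
    rcases Ideal.map_eq_top_or_isMaximal_of_surjective (Ideal.Quotient.mk J)
      Ideal.Quotient.mk_surjective hpmax with h | h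
    · exfalso; rw [← hq'] at h; exact hq.ne_top h
    · rw [hq']; exact h
  apply le_antisymm
  · exact (Ring.krullDimLE_iff.mp h0)
  · exact ringKrullDim_nonneg_of_nontrivial

end T5993
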