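import Mathlib

set_option autoImplicit false
universe u
open TensorProduct IsLocalRing KaehlerDifferential

namespace T6555

section core
variable (k : Type u) [Field k] (O : Type u) [CommRing O] [IsLocalRing O] [Algebra k O]
  [IsNoetherianRing O] [Algebra.FormallySmooth k O]
  [Algebra k (ResidueField O)] [IsScalarTower k O (ResidueField O)]
  [Algebra.IsSeparable k (ResidueField O)]
  (ω : Ω[O⁄k]) (hω : Function.Bijective (fun a : O => a • ω))

include hω

/-- the coefficient of a differential w.r.t. the generator `ω` -/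
theorem exists_coeff (η : Ω[O⁄k]) : ∃ c : O, η = c • ω := by
  obtain ⟨c, hc⟩ := hω.2 η
  exact ⟨c, hc.symm⟩

/-- the functional `κ ⊗ Ω → κ` dual to `1 ⊗ ω` -/
theorem exists_functional : ∃ l : ResidueField O ⊗[O] Ω[O⁄k] →ₗ[O] ResidueField O,
    ∀ (z : ResidueField O) (c : O), l (z ⊗ₜ (c • ω)) = residue O c * z := by
  let φ : O ≃ₗ[O] Ω[O⁄k] := LinearEquiv.ofBijective (LinearMap.toSpanSingleton O _ ω) hω
  refine ⟨(TensorProduct.rid O (ResidueField O)).toLinearMap ∘ₗ
    (LinearMap.lTensor (ResidueField O) φ.symm.toLinearMap), ?_⟩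
  intro z c
  have h1 : φ.symm (c • ω) = c := by
    apply φ.injective
    rw [LinearEquiv.apply_symm_apply]
    rfl
  simp only [LinearMap.coe_comp, LinearEquiv.coe_coe, Function.comp_apply, LinearMap.lTensor_tmul,
    TensorProduct.rid_tmul, h1]
  rw [Algebra.smul_def]
  rfl

end core

end T6555
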