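import Groth.Agent.scratch.T6555a

set_option autoImplicit false
universe u
open TensorProduct IsLocalRing KaehlerDifferential

namespace T6555

section core
variable (k : Type u) [Field k] (O : Type u) [CommRing O] [IsLocalRing O] [Algebra k O]
  [IsNoetherianRing O] [Algebra.FormallySmooth k O]
  [Algebra k (ResidueField O)] [IsScalarTower k O (ResidueField O)]
  [Algebra.IsSeparable k (ResidueField O)]
  (ω : Ω[O⁄k]) (hω : Function.Bijective (fun a : O => a • ω))

include hω

theorem core_bijective (s : O) (hs : Irreducible s) :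
    Function.Bijective (fun a : O => a • KaehlerDifferential.D k O s) := by
  have hsurj : Function.Surjective (algebraMap O (ResidueField O)) := by
    rw [ResidueField.algebraMap_eq]
    exact IsLocalRing.residue_surjective
  haveI : Algebra.FormallyEtale k (ResidueField O) := Algebra.FormallyEtale.of_isSeparable k _
  haveI : Algebra.FormallySmooth k (ResidueField O) := inferInstance
  obtain ⟨l0, hl0⟩ := (Algebra.FormallySmooth.iff_split_injection (R := k) (P := O)
    (A := ResidueField O) hsurj).mp inferInstance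
  have hinj : Function.Injective (kerCotangentToTensor k O (ResidueField O)) := by
    intro a b hab
    have := congrArg l0 hab
    rwa [← LinearMap.comp_apply, ← LinearMap.comp_apply, hl0] at this
  haveI : Subsingleton Ω[ResidueField O⁄k] := inferInstance
  have hsurj2 : Function.Surjective (kerCotangentToTensor k O (ResidueField O)) := by
    intro z
    exact (exact_kerCotangentToTensor_mapBaseChange k O (ResidueField O) hsurj z).mp
      (Subsingleton.elim _ _)
  obtain ⟨l, hl⟩ := exists_functional k O ω hω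
  have hkerI : RingHom.ker (algebraMap O (ResidueField O)) = maximalIdeal O := by
    rw [ResidueField.algebraMap_eq]
    exact IsLocalRing.ker_residue
  -- (I)
  have hI : ∀ x ∈ maximalIdeal O, ∀ cx : O, D k O x = cx • ω → cx ∈ maximalIdeal O →
      x ∈ (maximalIdeal O) ^ 2 := by
    intro x hx cx hcx hcm
    have hxk : x ∈ RingHom.ker (algebraMap O (ResidueField O)) := by rw [hkerI]; exact hx
    have h0 : kerCotangentToTensor k O (ResidueField O) (Ideal.toCotangent _ ⟨x, hxk⟩) = 0 := by
      rw [kerCotangentToTensor_toCotangent]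
      change (1 : ResidueField O) ⊗ₜ[O] D k O x = 0
      rw [hcx, ← TensorProduct.smul_tmul, Algebra.smul_def, mul_one, ResidueField.algebraMap_eq,
        (IsLocalRing.residue_eq_zero_iff cx).2 hcm, TensorProduct.zero_tmul]
    have h1 := hinj (h0.trans (map_zero _).symm)
    rw [Ideal.toCotangent_eq_zero] at h1
    rw [← hkerI]
    exact h1
  -- (II)
  obtain ⟨t, htm, ct, hct, hctu⟩ : ∃ t ∈ maximalIdeal O, ∃ ct : O, D k O t = ct • ω ∧ IsUnit ct := by
    obtain ⟨ξ, hξ⟩ := hsurj2 ((1 : ResidueField O) ⊗ₜ ω)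
    obtain ⟨⟨t, ht⟩, rfl⟩ := Ideal.toCotangent_surjective _ ξ
    rw [kerCotangentToTensor_toCotangent] at hξ
    obtain ⟨ct, hct⟩ := exists_coeff k O ω hω (D k O t)
    refine ⟨t, by rw [← hkerI]; exact ht, ct, hct, ?_⟩
    have h2 := congrArg l hξ
    change l ((1 : ResidueField O) ⊗ₜ[O] D k O t) = _ at h2
    rw [hct, hl, ← one_smul O ω, hl, map_one, mul_one] at h2
    by_contra hnu
    have : ct ∈ maximalIdeal O := (IsLocalRing.mem_maximalIdeal ct).2 hnu
    rw [(IsLocalRing.residue_eq_zero_iff ct).2 this, one_mul] at h2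
    exact zero_ne_one h2
  obtain ⟨u, rfl⟩ := hctu
  -- 𝔪 = (t)
  have hle : maximalIdeal O ≤ Ideal.span {t} := by
    apply Submodule.le_of_le_smul_of_le_jacobson_bot (I := maximalIdeal O)
      (IsNoetherian.noetherian _) (IsLocalRing.maximalIdeal_le_jacobson ⊥)
    intro m hm
    obtain ⟨cm, hcm⟩ := exists_coeff k O ω hω (D k O m)
    obtain ⟨ca, hca⟩ := exists_coeff k O ω hω (D k O (cm * ↑u⁻¹))
    have hm' : m - (cm * ↑u⁻¹) * t ∈ maximalIdeal O :=
      Ideal.sub_mem _ hm (Ideal.mul_mem_left _ _ htm)
    have hd : D k O (m - (cm * ↑u⁻¹) * t) = (-(t * ca)) • ω := by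
      rw [map_sub, Derivation.leibniz, hcm, hct, hca, smul_smul, smul_smul, ← add_smul, ← sub_smul]
      congr 1
      have : cm * ↑u⁻¹ * ↑u = cm := by rw [mul_assoc, Units.inv_mul, mul_one]
      rw [this]
      ring
    have h3 := hI _ hm' _ hd (Ideal.neg_mem_iff _ |>.2 (Ideal.mul_mem_right _ _ htm))
    have h4 : m = (cm * ↑u⁻¹) * t + (m - (cm * ↑u⁻¹) * t) := by ring
    rw [h4]
    refine Submodule.add_mem_sup (Ideal.mem_span_singleton'.2 ⟨_, rfl⟩) ?_
    rw [smul_eq_mul, ← pow_two]
    exact h3
  -- s = a t with a unit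
  have hsm : s ∈ maximalIdeal O := (IsLocalRing.mem_maximalIdeal s).2 hs.not_isUnit
  obtain ⟨a, ha⟩ := Ideal.mem_span_singleton'.1 (hle hsm)
  have hau : IsUnit a := by
    rcases hs.isUnit_or_isUnit ha.symm with h | h
    · exact h
    · exact absurd h ((IsLocalRing.mem_maximalIdeal t).1 htm)
  obtain ⟨ca, hca⟩ := exists_coeff k O ω hω (D k O a)
  have hds : D k O s = (a * ↑u + t * ca) • ω := by
    rw [← ha, Derivation.leibniz, hct, hca, smul_smul, smul_smul, ← add_smul]
  have hunit : IsUnit (a * ↑u + t * ca) := by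
    by_contra hnu
    have h5 : a * ↑u + t * ca ∈ maximalIdeal O := (IsLocalRing.mem_maximalIdeal _).2 hnu
    have h6 : a * ↑u ∈ maximalIdeal O := by
      have := Ideal.sub_mem _ h5 (Ideal.mul_mem_right ca _ htm)
      rwa [add_sub_cancel_right] at this
    exact (IsLocalRing.mem_maximalIdeal _).1 h6 (hau.mul u.isUnit)
  obtain ⟨v, hv⟩ := hunit
  have hcomp : (fun b : O => b • D k O s) = (fun b : O => b • ω) ∘ (fun b : O => b * ↑v) := by
    funext b
    simp only [Function.comp_apply]
    rw [hds, ← hv, smul_smul]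
  rw [hcomp]
  exact hω.comp (Units.mulRight_bijective v)

end core

end T6555
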