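import Groth.Agent.scratch.T6555b

set_option autoImplicit false
universe u
open TensorProduct IsLocalRing KaehlerDifferential

namespace T6555

theorem bijective_smul_of_basis_unique {R M ι : Type*} [CommRing R] [AddCommGroup M] [Module R M]
    [Unique ι] (b : Module.Basis ι R M) : Function.Bijective (fun a : R => a • b default) := by
  let e : R ≃ₗ[R] M := (b.equivFun.trans (LinearEquiv.funUnique ι R R)).symm
  have he : ∀ a : R, e a = a • b default := by
    intro a
    have h1 : e.symm (a • b default) = a := by
      simp [e, Module.Basis.equivFun_apply]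
    rw [← h1, LinearEquiv.apply_symm_apply, h1]
  have : (fun a : R => a • b default) = e := funext fun a => (he a).symm
  rw [this]
  exact e.bijective

theorem alg_main (k : Type u) [Field k] (B : Type u) [CommRing B] [Algebra k B]
    [Algebra.IsStandardSmoothOfRelativeDimension 1 k B]
    (O : Type u) [CommRing O] [IsLocalRing O] [Algebra k O] [Algebra B O] [IsScalarTower k B O]
    (q : Ideal B) [q.IsPrime] [IsLocalization.AtPrime O q]
    [Algebra k (ResidueField O)] [IsScalarTower k O (ResidueField O)]
    [Algebra.IsSeparable k (ResidueField O)]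
    (s : O) (hs : Irreducible s) :
    Function.Bijective (fun a : O => a • KaehlerDifferential.D k O s) := by
  haveI : Algebra.IsStandardSmooth k B :=
    Algebra.IsStandardSmoothOfRelativeDimension.isStandardSmooth 1
  haveI : IsNoetherianRing B := Algebra.FiniteType.isNoetherianRing k B
  haveI : IsNoetherianRing O := IsLocalization.isNoetherianRing q.primeCompl O inferInstance
  haveI : Algebra.FormallySmooth B O := Algebra.FormallySmooth.of_isLocalization q.primeCompl
  haveI : Algebra.FormallySmooth k O := Algebra.FormallySmooth.comp k B O
  haveI : Nontrivial B := (algebraMap B O).domain_nontrivial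
  have hrank := Algebra.IsStandardSmoothOfRelativeDimension.rank_kaehlerDifferential
    (R := k) (S := B) 1
  let b := Module.Free.chooseBasis B Ω[B⁄k]
  have hcard : Cardinal.mk (Module.Free.ChooseBasisIndex B Ω[B⁄k]) = 1 := by
    rw [b.mk_eq_rank'', hrank]
    simp
  obtain ⟨hsub, ⟨i0⟩⟩ := Cardinal.eq_one_iff_unique.mp hcard
  haveI : Unique (Module.Free.ChooseBasisIndex B Ω[B⁄k]) := ⟨⟨i0⟩, fun i => Subsingleton.elim _ _⟩
  let b' : Module.Basis (Module.Free.ChooseBasisIndex B Ω[B⁄k]) O Ω[O⁄k] :=
    b.ofIsLocalizedModule O q.primeCompl (KaehlerDifferential.map k k B O)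
  exact core_bijective k O (b' default) (bijective_smul_of_basis_unique b') s hs

end T6555
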