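import Groth.Agent.scratch.T6555c
import Groth.Prelude.Def_CurvBase

set_option autoImplicit false
universe u
open CategoryTheory CategoryTheory.Limits AlgebraicGeometry
attribute [local instance] Curv2.resAlgebra Curv2.stalkAlgebra

namespace T6555

theorem t6555 (k : Type u) [Field k] (X : Scheme.{u}) [X.Over (Spec (CommRingCat.of k))]
    (x : X) (hx : IsClosed ({x} : Set X))
    (hsm : ∃ U : X.Opens, x ∈ U ∧ SmoothOfRelativeDimension 1 (U.ι ≫ (X ↘ (Spec (CommRingCat.of k)))))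
    (hsep : Algebra.IsSeparable k (X.residueField x))
    (s : X.presheaf.stalk x) (hs : Irreducible s) :
    Function.Bijective (fun a : X.presheaf.stalk x => a • KaehlerDifferential.D k (X.presheaf.stalk x) s) := by
  obtain ⟨U, hxU, hU⟩ := hsm
  obtain ⟨U₀, hU₀, V₀, hV₀, hx'V₀, e, H⟩ :=
    hU.exists_isStandardSmoothOfRelativeDimension ⟨x, hxU⟩
  obtain rfl : U₀ = ⊤ := by
    ext y
    simp only [TopologicalSpace.Opens.coe_top, Set.mem_univ, iff_true]
    have : y = (U.ι ≫ (X ↘ (Spec (CommRingCat.of k)))).base ⟨x, hxU⟩ := Subsingleton.elim _ _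
    rw [this]
    exact e hx'V₀
  -- the affine open of X
  have hV : IsAffineOpen (U.ι ''ᵁ V₀) := hV₀.image_of_isOpenImmersion U.ι
  have hxV : x ∈ U.ι ''ᵁ V₀ := ⟨⟨x, hxU⟩, hx'V₀, rfl⟩
  -- k-algebra structure on B
  let ee : k ≃+* Γ(Spec (CommRingCat.of k), ⊤) :=
    (Scheme.ΓSpecIso (CommRingCat.of k)).symm.commRingCatIsoToRingEquiv
  have Hψ := (RingHom.isStandardSmoothOfRelativeDimension_respectsIso (n := 1)).2 _ ee H
  letI algB : Algebra k Γ(X, U.ι ''ᵁ V₀) :=
    (((U.ι ≫ (X ↘ (Spec (CommRingCat.of k)))).appLE ⊤ V₀ e).hom.comp ee.toRingHom).toAlgebra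
  haveI : Algebra.IsStandardSmoothOfRelativeDimension 1 k Γ(X, U.ι ''ᵁ V₀) := Hψ
  letI := X.presheaf.algebra_section_stalk ⟨x, hxV⟩
  haveI := hV.isLocalization_stalk ⟨x, hxV⟩
  haveI : IsScalarTower k Γ(X, U.ι ''ᵁ V₀) (X.presheaf.stalk x) := by
    apply IsScalarTower.of_algebraMap_eq'
    ext a
    change (X.presheaf.germ ⊤ x trivial).hom ((X ↘ Spec (CommRingCat.of k)).appTop.hom
        ((Scheme.ΓSpecIso (CommRingCat.of k)).inv.hom a)) =
      (X.presheaf.germ (U.ι ''ᵁ V₀) x hxV).hom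
        (((U.ι ≫ (X ↘ Spec (CommRingCat.of k))).appLE ⊤ V₀ e).hom
          ((Scheme.ΓSpecIso (CommRingCat.of k)).inv.hom a))
    generalize (Scheme.ΓSpecIso (CommRingCat.of k)).inv.hom a = b
    simp only [Scheme.Hom.appLE, Scheme.Hom.comp_app, Scheme.Opens.ι_app]
    rw [Scheme.Opens.toScheme_presheaf_map]
    simp only [CommRingCat.comp_apply]
    erw [TopCat.Presheaf.germ_res_apply, TopCat.Presheaf.germ_res_apply]
    rfl
  haveI : IsScalarTower k (X.presheaf.stalk x) (IsLocalRing.ResidueField (X.presheaf.stalk x)) :=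
    IsScalarTower.of_algebraMap_eq' rfl
  haveI : Algebra.IsSeparable k (IsLocalRing.ResidueField (X.presheaf.stalk x)) := hsep
  exact alg_main k Γ(X, U.ι ''ᵁ V₀) (X.presheaf.stalk x) (hV.primeIdealOf ⟨x, hxV⟩).asIdeal s hs

end T6555
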