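import Mathlib
import Groth.Agent.scratch.T6919a

set_option autoImplicit false
set_option linter.style.haveILetI false
set_option linter.unusedSectionVars false
set_option backward.isDefEq.respectTransparency.types false

namespace T6919
open TensorProduct
universe u
variable {R S R' S' : Type u} [CommRing R] [CommRing S] [CommRing R'] [CommRing S']
    [Algebra R S] [Algebra R R'] [Algebra S S'] [Algebra R' S'] [Algebra R S'] [IsScalarTower R S S']
    [IsScalarTower R R' S'] [Algebra.IsPushout R S R' S']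

theorem exists_prime_pushout (q : Ideal S) [q.IsPrime] (p' : Ideal R') [p'.IsPrime]
    (h : q.comap (algebraMap R S) = p'.comap (algebraMap R R')) :
    ∃ q' : Ideal S', q'.IsPrime ∧ q'.comap (algebraMap S S') = q ∧
      q'.comap (algebraMap R' S') = p' := by
  obtain ⟨r, hr, h1, h2⟩ := Groth.Agent.Lib.Helper3.TensorPrime.exists_prime_tensor q p' h
  let E : S ⊗[R] R' ≃ₐ[S] S' := Algebra.IsPushout.equiv R S R' S'
  refine ⟨r.comap (E.symm : S' →+* S ⊗[R] R'), Ideal.comap_isPrime _ _, ?_, ?_⟩
  · rw [← h1, Ideal.comap_comap]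
    congr 1
    ext s
    simp [E]
  · rw [← h2, Ideal.comap_comap]
    congr 1
    ext x
    simp [E, Algebra.IsPushout.equiv_symm_algebraMap_right]

variable {M M' : Type u} [AddCommGroup M] [Module S M] [Module R M] [IsScalarTower R S M]
    [AddCommGroup M'] [Module S' M'] [Module R' M'] [IsScalarTower R' S' M'] [Module S M']
    [IsScalarTower S S' M']

theorem t6919 (I : Ideal R) (I' : Ideal R') (hII' : I.map (algebraMap R R') ≤ I')
    (f : M →ₗ[S] M') (hf : IsBaseChange S' f) (J : Ideal S)
    (hsurj : ∀ (p : Ideal R) [p.IsPrime], I ≤ p → ∃ (p' : Ideal R') (_ : p'.IsPrime), I' ≤ p' ∧ p'.comap (algebraMap R R') = p)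
    (hflat : ∀ (p' : Ideal R') [p'.IsPrime], I' ≤ p' → Module.Flat R (Localization.AtPrime p'))
    (h : (∀ (q : Ideal S') [q.IsPrime], I'.map (algebraMap R' S') ⊔ J.map (algebraMap S S') ≤ q →
      Module.Flat R' (LocalizedModule q.primeCompl M'))) :
    (∀ (q : Ideal S) [q.IsPrime], I.map (algebraMap R S) ⊔ J ≤ q →
      Module.Flat R (LocalizedModule q.primeCompl M)) := by
  intro q _ hq
  have hIp : I ≤ q.comap (algebraMap R S) := by
    rw [← Ideal.map_le_iff_le_comap]
    exact le_sup_left.trans hq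
  obtain ⟨p', hp'prime, hI'p', hp'⟩ := hsurj (q.comap (algebraMap R S)) hIp
  obtain ⟨q', hq'prime, hq'1, hq'2⟩ := exists_prime_pushout (S' := S') q p' hp'.symm
  refine main_local (R := R) f hf q' q hq'1.symm p' hq'2 (hflat p' hI'p') (h q' ?_)
  refine sup_le ?_ ?_
  · rw [Ideal.map_le_iff_le_comap, hq'2]
    exact hI'p'
  · rw [Ideal.map_le_iff_le_comap, hq'1]
    exact le_sup_right.trans hq

end T6919
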