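import Mathlib
import Groth.Prelude.Def_Adeq2
import Groth.Agent.Lib.Lead.AdeqModInst
import Groth.Agent.Lib.Lead.AdeqCoeff

set_option autoImplicit false
universe u
open CategoryTheory Limits AlgebraicGeometry Opposite

namespace T8767

open Adeq Groth.Agent.Lib.Lead.AdeqBasic

/-- vanishing of sections is invariant under isomorphism of objects of the big site -/
theorem subsingleton_of_over_iso {S : Scheme.{u}} (M : BigSite.Mod Scheme.fppfPrecoverage S)
    {U V : Over S} (e : U ≅ V)
    (h : Subsingleton (BigSite.sectMod Scheme.fppfPrecoverage M U)) :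
    Subsingleton (BigSite.sectMod Scheme.fppfPrecoverage M V) := by
  let E := M.val.presheaf.mapIso e.op
  have hU : Subsingleton (M.val.presheaf.obj (op U)) := h
  have : Subsingleton (M.val.presheaf.obj (op V)) :=
    E.addCommGroupIsoToAddEquiv.toEquiv.subsingleton
  exact this

/-- Step A: sections over flat affine objects over an affine object with no sections vanish -/
theorem subsingleton_specOver_of_flat {S : Scheme.{u}} (M : BigSite.Mod Scheme.fppfPrecoverage S)
    (hM : Adeq.adequateMod Scheme.fppfPrecoverage S M)
    (R : CommRingCat.{u}) (a : Spec R ⟶ S) (B : Adeq.Alg R)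
    (f : Adeq.algOf R R ⟶ B) (hf : f.hom.toRingHom.Flat)
    (h0 : Subsingleton (BigSite.sectMod Scheme.fppfPrecoverage M
      ((Adeq.specOver a).obj (op (Adeq.algOf R R))))) :
    Subsingleton (BigSite.sectMod Scheme.fppfPrecoverage M ((Adeq.specOver a).obj (op B))) := by
  have hFad : Adeq.adequate R ((Adeq.toMVF Scheme.fppfPrecoverage a).obj M) :=
    Groth.Agent.Lib.Lead.AdeqModMain.adequate_toMVF Scheme.fppfPrecoverage
      Groth.Agent.Lib.Lead.AdeqModInst.hasAffineRefinements_fppf M hM R a
  have hiso := Groth.Agent.Lib.Lead.AdeqFlat.isIso_bc_of_adequate_flat _ hFad f hf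
  have hsurj : Function.Surjective (((Adeq.toMVF Scheme.fppfPrecoverage a).obj M).bc f) :=
    (ConcreteCategory.bijective_of_isIso _).2
  have key : ∀ z : ((Adeq.toMVF Scheme.fppfPrecoverage a).obj M).obj (pt B), z = 0 := by
    apply Groth.Agent.Lib.Lead.AdeqCoeff.gen_induction f _ hsurj (motive := fun z => z = 0) rfl
    · intro x y hx hy
      rw [hx, hy, add_zero]
    · intro c g
      have hg : g = 0 := Subsingleton.elim (α := BigSite.sectMod Scheme.fppfPrecoverage M
        ((Adeq.specOver a).obj (op (Adeq.algOf R R)))) g 0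
      rw [hg]
      unfold tr
      rw [map_zero]
      exact (Adeq.moduleValue ((Adeq.toMVF Scheme.fppfPrecoverage a).obj M) B).toDistribMulAction.smul_zero c
  exact ⟨fun x y => (key x).trans (key y).symm⟩

end T8767
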