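import Mathlib
import Groth.Prelude.Def_Adeq2
import Groth.Agent.scratch.T8767a

set_option autoImplicit false
universe u
open CategoryTheory Limits AlgebraicGeometry Opposite

namespace T8767

open Adeq Groth.Agent.Lib.Lead.AdeqBasic Groth.Agent.Lib.Lead.AdeqModBase

theorem specOver_self {S : Scheme.{u}} (R : CommRingCat.{u}) (a : Spec R ⟶ S) :
    (Adeq.specOver a).obj (op (Adeq.algOf R R)) = Over.mk a := by
  show Over.mk (Spec.map (CommRingCat.ofHom (algebraMap (R : Type u) (R : Type u))) ≫ a) = Over.mk a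
  have h1 : Spec.map (CommRingCat.ofHom (algebraMap (R : Type u) (R : Type u))) = 𝟙 (Spec R) := by
    change Spec.map (CommRingCat.ofHom (RingHom.id _)) = 𝟙 _
    rw [CommRingCat.ofHom_id]
    exact Spec.map_id _
  have h2 : Spec.map (CommRingCat.ofHom (algebraMap (R : Type u) (R : Type u))) ≫ a = a := by
    rw [h1]
    exact Category.id_comp a
  exact congrArg Over.mk h2

/-- Step B: the affine pieces -/
theorem subsingleton_piece {S : Scheme.{u}} (M : BigSite.Mod Scheme.fppfPrecoverage S)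
    (hM : Adeq.adequateMod Scheme.fppfPrecoverage S M)
    (V : S.Opens) (hV : IsAffineOpen V)
    (h4 : Subsingleton (BigSite.sectMod Scheme.fppfPrecoverage M ((BigSite.zarIncl S).obj V)))
    (U : Over S) (hU : Flat U.hom) (W : U.left.Opens) (hW : IsAffineOpen W)
    (hle : W ≤ U.hom ⁻¹ᵁ V) :
    Subsingleton (BigSite.sectMod Scheme.fppfPrecoverage M (Over.mk (hW.fromSpec ≫ U.hom))) := by
  let R : CommRingCat.{u} := Γ(S, V)
  let a : Spec R ⟶ S := hV.fromSpec
  let φ : Γ(S, V) ⟶ Γ(U.left, W) := U.hom.appLE V W hle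
  letI : Algebra R Γ(U.left, W) := φ.hom.toAlgebra
  let B : Adeq.Alg R := Adeq.algOf R Γ(U.left, W)
  let f : Adeq.algOf R R ⟶ B := CommAlgCat.ofHom (Algebra.ofId R Γ(U.left, W))
  have hf : f.hom.toRingHom.Flat := Flat.flat_appLE U.hom hV hW hle
  have h0 : Subsingleton (BigSite.sectMod Scheme.fppfPrecoverage M
      ((Adeq.specOver a).obj (op (Adeq.algOf R R)))) := by
    rw [specOver_self]
    refine subsingleton_of_over_iso M (?_ : (BigSite.zarIncl S).obj V ≅ Over.mk a) h4
    refine Over.isoMk hV.isoSpec ?_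
    show hV.isoSpec.hom ≫ hV.fromSpec = V.ι
    rw [← hV.isoSpec_inv_ι, Iso.hom_inv_id_assoc]
  have hB := subsingleton_specOver_of_flat M hM R a B f hf h0
  have e : (Adeq.specOver a).obj (op B) = Over.mk (hW.fromSpec ≫ U.hom) :=
    congrArg Over.mk (IsAffineOpen.SpecMap_appLE_fromSpec U.hom hV hW hle)
  rw [← e]
  exact hB

theorem subsingleton_of_flat {S : Scheme.{u}} (M : BigSite.Mod Scheme.fppfPrecoverage S)
    (hM : Adeq.adequateMod Scheme.fppfPrecoverage S M)
    (ι : Type u) (V : ι → S.Opens) (hV : ∀ i, IsAffineOpen (V i)) (hcov : (⨆ i, V i) = ⊤)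
    (h4 : ∀ i, Subsingleton (BigSite.sectMod Scheme.fppfPrecoverage M
      ((BigSite.zarIncl S).obj (V i))))
    (U : Over S) (hU : Flat U.hom) :
    Subsingleton (BigSite.sectMod Scheme.fppfPrecoverage M U) := by
  let I := { p : U.left.Opens × ι // IsAffineOpen p.1 ∧ p.1 ≤ U.hom ⁻¹ᵁ (V p.2) }
  let X : I → Over S := fun p => Over.mk (p.2.1.fromSpec ≫ U.hom)
  let g : ∀ p : I, X p ⟶ U := fun p => Over.homMk p.2.1.fromSpec rfl
  have hcovU : Sieve.ofArrows X g ∈ QuotSh.J Scheme.fppfPrecoverage S U := by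
    rw [GrothendieckTopology.mem_over_iff, Sieve.overEquiv_ofArrows]
    apply Precoverage.generate_mem_toGrothendieck
    show Presieve.ofArrows (fun p : I => Spec Γ(U.left, p.1.1)) (fun p : I => p.2.1.fromSpec) ∈
      Scheme.precoverage (@Flat ⊓ @LocallyOfFinitePresentation) U.left
    rw [Scheme.ofArrows_mem_precoverage_iff]
    refine ⟨fun x => ?_, fun p => ⟨inferInstance, inferInstance⟩⟩
    have hx : U.hom x ∈ (⨆ i, V i) := by rw [hcov]; trivial
    obtain ⟨i, hi⟩ := TopologicalSpace.Opens.mem_iSup.mp hx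
    obtain ⟨W, hW, hxW, hWle⟩ := TopologicalSpace.Opens.isBasis_iff_nbhd.mp
      (Scheme.isBasis_affineOpens U.left) (show x ∈ U.hom ⁻¹ᵁ (V i) from hi)
    refine ⟨⟨(W, i), hW, hWle⟩, ?_⟩
    show x ∈ Set.range hW.fromSpec
    rw [hW.range_fromSpec]
    exact hxW
  have hx : ∀ z : BigSite.sectMod Scheme.fppfPrecoverage M U, z = 0 := by
    intro z
    apply sheaf_sep_zero (QuotSh.J Scheme.fppfPrecoverage S) M.val.presheaf M.isSheaf X g hcovU z
    intro p
    haveI : Subsingleton (BigSite.sectMod Scheme.fppfPrecoverage M (X p)) :=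
      subsingleton_piece M hM (V p.1.2) (hV p.1.2) (h4 p.1.2) U hU p.1.1 p.2.1 p.2.2
    exact Subsingleton.elim (α := BigSite.sectMod Scheme.fppfPrecoverage M (X p)) _ _
  exact ⟨fun x y => (hx x).trans (hx y).symm⟩

end T8767
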