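import Mathlib
import Groth.Prelude.Def_Adeq2
import Groth.Agent.scratch.T8767b

set_option autoImplicit false
universe u
open CategoryTheory Limits AlgebraicGeometry Opposite

namespace T8767

open Adeq

theorem main (S : Scheme.{u}) (M : BigSite.Mod Scheme.fppfPrecoverage S)
    (hM : Adeq.adequateMod Scheme.fppfPrecoverage S M) :
    List.TFAE [Adeq.parasitic Scheme.fppfPrecoverage S M, Adeq.parasiticFor Scheme.fppfPrecoverage S M,
      ∀ U : S.Opens, Subsingleton (BigSite.sectMod Scheme.fppfPrecoverage M ((BigSite.zarIncl S).obj U)),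
      ∃ (ι : Type u) (U : ι → S.Opens), (∀ i, IsAffineOpen (U i)) ∧ (⨆ i, U i) = ⊤ ∧
        ∀ i, Subsingleton (BigSite.sectMod Scheme.fppfPrecoverage M ((BigSite.zarIncl S).obj (U i)))] := by
  tfae_have 1 → 2 := by
    intro h1 P hP V g hg
    have hP' : P ∈ Scheme.precoverage (@Flat ⊓ @LocallyOfFinitePresentation) S := hP
    exact h1 (Over.mk g) (show Flat g from (hP'.2 hg).1)
  tfae_have 1 → 3 := by
    intro h1 U
    exact h1 _ (show Flat U.ι from inferInstance)
  tfae_have 3 → 4 := by
    intro h3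
    exact ⟨S.affineOpens, fun W => W.1, fun W => W.2, iSup_affineOpens_eq_top S, fun W => h3 W.1⟩
  tfae_have 4 → 1 := by
    rintro ⟨ι, V, hV, hcov, h4⟩ U hU
    exact subsingleton_of_flat M hM ι V hV hcov h4 U hU
  tfae_have 2 → 4 := by
    intro h2
    refine ⟨S.affineOpens, fun W => W.1, fun W => W.2, iSup_affineOpens_eq_top S, fun W => ?_⟩
    have hmem : Presieve.ofArrows (fun W : S.affineOpens => (W.1 : Scheme.{u}))
        (fun W : S.affineOpens => W.1.ι) ∈ Scheme.fppfPrecoverage.coverings S := by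
      show _ ∈ Scheme.precoverage (@Flat ⊓ @LocallyOfFinitePresentation) S
      rw [Scheme.ofArrows_mem_precoverage_iff]
      refine ⟨fun x => ?_, fun W => ⟨inferInstance, inferInstance⟩⟩
      obtain ⟨W, hW, hxW, -⟩ := TopologicalSpace.Opens.isBasis_iff_nbhd.mp
        (Scheme.isBasis_affineOpens S) (show x ∈ (⊤ : S.Opens) from trivial)
      refine ⟨⟨W, hW⟩, ?_⟩
      show x ∈ Set.range (Scheme.Opens.ι W)
      rw [Scheme.Opens.range_ι]
      exact hxW
    exact h2 hmem W.1.ι (Presieve.ofArrows.mk W)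
  tfae_finish

end T8767
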